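import Groth.Agent.FlatDevPad.Alg
import Mathlib.RingTheory.Localization.BaseChange
import Mathlib.AlgebraicGeometry.Geometrically.Irreducible
import Mathlib.AlgebraicGeometry.Morphisms.UniversallyOpen

/-! Localizations away from an element: factorizations, and fibres of standard opens. -/

set_option autoImplicit false
set_option backward.isDefEq.respectTransparency false
set_option backward.isDefEq.respectTransparency.types false
attribute [-instance] CategoryTheory.catToReflQuiver

universe u

open AlgebraicGeometry CategoryTheory CategoryTheory.Limits TensorProduct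

namespace Groth.Agent.DevExist

theorem away_of_mutual_dvd {A T : Type u} [CommRing A] [CommRing T] [Algebra A T] (a b : A) (hab : a ∣ b) (k : ℕ)
    (hba : b ∣ a ^ k) [IsLocalization.Away a T] : IsLocalization.Away b T where
  map_units := by
    rintro ⟨_, j, rfl⟩
    rw [map_pow]
    exact (isUnit_of_dvd_unit (map_dvd _ hba) (by rw [map_pow]; exact (IsLocalization.Away.algebraMap_isUnit a).pow k)).pow j
  surj x := by
    obtain ⟨w, hw⟩ := hab
    obtain ⟨⟨y, ⟨_, j, rfl⟩⟩, hxy⟩ := IsLocalization.surj (Submonoid.powers a) x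
    refine ⟨(y * w ^ j, ⟨b ^ j, j, rfl⟩), ?_⟩
    show x * algebraMap A T (b ^ j) = algebraMap A T (y * w ^ j)
    rw [hw, mul_pow, map_mul, map_mul, ← mul_assoc, hxy]
  exists_of_eq {x y} hxy := by
    obtain ⟨w, hw⟩ := hab
    obtain ⟨⟨_, j, rfl⟩, hj⟩ := IsLocalization.exists_of_eq (M := Submonoid.powers a) hxy
    refine ⟨⟨b ^ j, j, rfl⟩, ?_⟩
    show b ^ j * x = b ^ j * y
    have hj : a ^ j * x = a ^ j * y := hj
    rw [hw, mul_pow, mul_right_comm, hj, mul_right_comm]

theorem away_factor {A T U : Type u} [CommRing A] [CommRing T] [CommRing U] [Algebra A T] [Algebra A U] [Algebra T U]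
    [IsScalarTower A T U] (x y : A) [IsLocalization.Away x T] [IsLocalization.Away (x * y) U] :
    IsLocalization.Away (algebraMap A T y) U where
  map_units := by
    rintro ⟨_, j, rfl⟩
    rw [map_pow, ← IsScalarTower.algebraMap_apply]
    exact (isUnit_of_dvd_unit (map_dvd _ (dvd_mul_left y x))
      (IsLocalization.Away.algebraMap_isUnit (S := U) (x * y))).pow j
  surj s := by
    obtain ⟨⟨a, ⟨_, j, rfl⟩⟩, h⟩ := IsLocalization.surj (Submonoid.powers (x * y)) s
    obtain ⟨v, hv⟩ := ((IsLocalization.Away.algebraMap_isUnit (S := T) x).pow j).exists_left_inv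
    refine ⟨(v * algebraMap A T a, ⟨algebraMap A T y ^ j, j, rfl⟩), ?_⟩
    show s * algebraMap T U (algebraMap A T y ^ j) = algebraMap T U (v * algebraMap A T a)
    rw [map_mul, ← IsScalarTower.algebraMap_apply A T U a, ← h, map_pow, ← IsScalarTower.algebraMap_apply]
    have e : algebraMap T U v * algebraMap A U x ^ j = 1 := by
      rw [IsScalarTower.algebraMap_apply A T U, ← map_pow, ← map_mul, hv, map_one]
    rw [map_pow, map_mul, mul_pow, mul_left_comm (algebraMap T U v), ← mul_assoc (algebraMap T U v), e, one_mul]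
  exists_of_eq {s₁ s₂} h := by
    obtain ⟨⟨a₁, ⟨_, i, rfl⟩⟩, h₁⟩ := IsLocalization.surj (Submonoid.powers x) s₁
    obtain ⟨⟨a₂, ⟨_, j, rfl⟩⟩, h₂⟩ := IsLocalization.surj (Submonoid.powers x) s₂
    have h₁ : s₁ * algebraMap A T (x ^ i) = algebraMap A T a₁ := h₁
    have h₂ : s₂ * algebraMap A T (x ^ j) = algebraMap A T a₂ := h₂
    have e : algebraMap A U (a₁ * x ^ j) = algebraMap A U (a₂ * x ^ i) := by
      rw [IsScalarTower.algebraMap_apply A T U, IsScalarTower.algebraMap_apply A T U (a₂ * x ^ i),
        map_mul (algebraMap A T) a₁, map_mul (algebraMap A T) a₂, ← h₁, ← h₂]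
      simp only [map_mul, h]
      ring
    obtain ⟨⟨_, m, rfl⟩, hm⟩ := IsLocalization.exists_of_eq (M := Submonoid.powers (x * y)) e
    refine ⟨⟨algebraMap A T y ^ m, m, rfl⟩, ?_⟩
    show algebraMap A T y ^ m * s₁ = algebraMap A T y ^ m * s₂
    have hu : IsUnit (algebraMap A T (x ^ (m + i + j))) := by
      rw [map_pow]
      exact (IsLocalization.Away.algebraMap_isUnit x).pow _
    refine hu.mul_left_injective ?_
    show algebraMap A T y ^ m * s₁ * algebraMap A T (x ^ (m + i + j)) =
      algebraMap A T y ^ m * s₂ * algebraMap A T (x ^ (m + i + j))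
    have hm' := congrArg (algebraMap A T) (show (x * y) ^ m * (a₁ * x ^ j) = (x * y) ^ m * (a₂ * x ^ i) from hm)
    simp only [map_mul, map_pow, ← h₁, ← h₂] at hm' ⊢
    linear_combination hm'

/-- A standard open with nonempty fibres of an algebra with geometrically irreducible fibres. -/
theorem geomIrred_away {R D : Type u} [CommRing R] [CommRing D] [Algebra R D] [Algebra.Smooth R D]
    (hGI : FlatCA.GeomIrredFibres R D) (g : R) (e : D) {R' D' : Type u} [CommRing R'] [CommRing D'] [Algebra R R']
    [IsLocalization.Away g R'] [Algebra D D'] [IsLocalization.Away e D'] [Algebra R D'] [Algebra R' D']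
    [IsScalarTower R R' D'] [IsScalarTower R D D']
    (hsub : ∀ r : PrimeSpectrum R, g ∉ r.asIdeal → ∃ P : PrimeSpectrum D, e ∉ P.asIdeal ∧
      PrimeSpectrum.comap (algebraMap R D) P = r) :
    FlatCA.GeomIrredFibres R' D' := by
  haveI : GeometricallyIrreducible (Spec.map (CommRingCat.ofHom (algebraMap R D))) := hGI
  haveI : Smooth (Spec.map (CommRingCat.ofHom (algebraMap R D))) := FlatDevPad.smooth_spec
  let ι := Spec.map (CommRingCat.ofHom (algebraMap R R'))
  haveI : IsOpenImmersion ι := IsOpenImmersion.of_isLocalization g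
  haveI : IsOpenImmersion (Spec.map (CommRingCat.ofHom (algebraMap D D'))) := IsOpenImmersion.of_isLocalization e
  let f := Spec.map (CommRingCat.ofHom (algebraMap R D))
  let j : Spec (CommRingCat.of D') ⟶ pullback f ι := pullback.lift (Spec.map (CommRingCat.ofHom (algebraMap D D')))
    (Spec.map (CommRingCat.ofHom (algebraMap R' D'))) (by
      rw [← Spec.map_comp, ← Spec.map_comp, ← CommRingCat.ofHom_comp, ← CommRingCat.ofHom_comp,
        ← IsScalarTower.algebraMap_eq, ← IsScalarTower.algebraMap_eq])
  haveI : IsOpenImmersion (j ≫ pullback.fst f ι) := by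
    rw [pullback.lift_fst]; infer_instance
  haveI : IsOpenImmersion j := IsOpenImmersion.of_comp j (pullback.fst f ι)
  haveI : Surjective (j ≫ pullback.snd f ι) := by
    rw [pullback.lift_snd]
    refine ⟨fun r => ?_⟩
    have hr : g ∉ (PrimeSpectrum.comap (algebraMap R R') r).asIdeal := fun hh =>
      r.isPrime.ne_top (Ideal.eq_top_of_isUnit_mem _ hh (IsLocalization.Away.algebraMap_isUnit g))
    obtain ⟨P, heP, hPr⟩ := hsub _ hr
    have hd := (Ideal.disjoint_powers_iff_notMem e P.isPrime.isRadical).2 heP
    refine ⟨(⟨P.asIdeal.map (algebraMap D D'), IsLocalization.isPrime_of_isPrime_disjoint _ D' _ P.isPrime hd⟩ : PrimeSpectrum D'),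
      (PrimeSpectrum.localization_away_isOpenEmbedding R' g).injective (PrimeSpectrum.ext ?_)⟩
    show ((P.asIdeal.map (algebraMap D D')).comap (algebraMap R' D')).comap (algebraMap R R') = _
    rw [Ideal.comap_comap, ← IsScalarTower.algebraMap_eq, IsScalarTower.algebraMap_eq R D D', ← Ideal.comap_comap,
      show (P.asIdeal.map (algebraMap D D')).comap (algebraMap D D') = P.asIdeal from
        IsLocalization.comap_map_of_isPrime_disjoint _ D' P.isPrime hd, ← hPr]
    rfl
  have : GeometricallyIrreducible (j ≫ pullback.snd f ι) := inferInstance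
  rw [pullback.lift_snd] at this
  exact this

end Groth.Agent.DevExist
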