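import Groth.Agent.DevExist.Transport

/-! Iterated steps of a dévissage after a change of base with the same residue field. -/

set_option autoImplicit false
set_option backward.isDefEq.respectTransparency false
set_option backward.isDefEq.respectTransparency.types false
attribute [-instance] CategoryTheory.catToReflQuiver

universe u

open TensorProduct AlgebraicGeometry CategoryTheory

namespace Groth.Agent.DevExist

theorem geomIrred_baseChange {R R' A : Type u} [CommRing R] [CommRing R'] [CommRing A] [Algebra R R']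
    [Algebra R A] (h : FlatCA.GeomIrredFibres R A) : FlatCA.GeomIrredFibres R' (R' ⊗[R] A) := by
  letI := Algebra.TensorProduct.rightAlgebra (R := R) (A := R') (B := A)
  have hsq := isPullback_SpecMap_of_isPushout _ _ _ _ (CommRingCat.isPushout_of_isPushout R R' A (R' ⊗[R] A))
  exact MorphismProperty.of_isPullback (P := @GeometricallyIrreducible) hsq.flip h

attribute [local instance] Algebra.TensorProduct.rightAlgebra

set_option maxHeartbeats 1600000 in
theorem Step.baseChange {R : Type u} [CommRing R] {p : Ideal R} [p.IsPrime] {S : Type u} [CommRing S] [Algebra R S]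
    {q : Ideal S} {N : Type u} [AddCommGroup N] [Module S N] (σ : Step R p S q N)
    (R' : Type u) [CommRing R'] [Algebra R R'] (p' : Ideal R') [p'.IsPrime] [p'.LiesOver p]
    (hκ : Function.Bijective (Ideal.ResidueField.mapₐ p p' (Algebra.ofId R R') (Ideal.over_def p' p)))
    (S' : Type u) [CommRing S'] [Algebra R' S'] [Algebra R S'] [Algebra S S'] [IsScalarTower R R' S']
    [IsScalarTower R S S'] [Algebra.IsPushout R R' S S']
    (N' : Type u) [AddCommGroup N'] [Module S' N'] [Module S N'] [IsScalarTower S S' N']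
    (f : N →ₗ[S] N') (hf : IsBaseChange S' f)
    (htail : Function.Surjective σ.α ∨ ∀ (B' : Type u) [CommRing B'] [Algebra R' B'] [Algebra R B'] [Algebra σ.B B']
      [IsScalarTower R R' B'] [IsScalarTower R σ.B B'] [Algebra.IsPushout R R' σ.B B']
      (Mc : Type u) [AddCommGroup Mc] [Module B' Mc] [Module σ.B Mc] [IsScalarTower σ.B B' Mc]
      (l : (σ.M ⧸ LinearMap.range σ.α) →ₗ[σ.B] Mc), IsBaseChange B' l →
      ∃ y' : Ideal B', y'.IsPrime ∧ y'.LiesOver σ.y ∧ y'.LiesOver p' ∧ DevAt R' p' B' y' Mc) :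
    ∃ q' : Ideal S', q'.IsPrime ∧ q'.LiesOver q ∧ q'.LiesOver p' ∧ DevAt R' p' S' q' N' := by
  haveI := σ.smooth
  let B' := R' ⊗[R] σ.B
  let A' := R' ⊗[R] σ.A
  obtain ⟨y', hy', hy'y, hy'p⟩ := FlatDevBC.exists_prime_over (T' := B') p p' hκ σ.y
  haveI := hy'; haveI := hy'y; haveI := hy'p
  letI : Algebra B' A' :=
    (Algebra.TensorProduct.map (AlgHom.id R' R') (IsScalarTower.toAlgHom R σ.B σ.A)).toRingHom.toAlgebra
  haveI : IsScalarTower R' B' A' := IsScalarTower.of_algebraMap_eq fun a =>
    ((Algebra.TensorProduct.map (AlgHom.id R' R') (IsScalarTower.toAlgHom R σ.B σ.A)).commutes a).symm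
  letI : Algebra σ.B A' := ((algebraMap σ.A A').comp (algebraMap σ.B σ.A)).toAlgebra
  haveI : IsScalarTower σ.B σ.A A' := IsScalarTower.of_algebraMap_eq' rfl
  haveI : IsScalarTower σ.B B' A' := IsScalarTower.of_algebraMap_eq fun b => by
    show (1 : R') ⊗ₜ[R] algebraMap σ.B σ.A b =
      Algebra.TensorProduct.map (AlgHom.id R' R') (IsScalarTower.toAlgHom R σ.B σ.A) ((1 : R') ⊗ₜ[R] b)
    exact ((Algebra.TensorProduct.map_tmul _ _ _ _).trans (by rw [map_one]; rfl)).symm
  let g : S →ₐ[R] A' := (IsScalarTower.toAlgHom R σ.A A').comp (IsScalarTower.toAlgHom R S σ.A)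
  let ψ : S' →ₐ[R] A' := Algebra.pushoutDesc S' (IsScalarTower.toAlgHom R R' A') g fun _ _ => mul_comm _ _
  letI : Algebra S' A' := ψ.toRingHom.toAlgebra
  letI : Algebra S A' := g.toRingHom.toAlgebra
  haveI : IsScalarTower S σ.A A' := IsScalarTower.of_algebraMap_eq' rfl
  haveI : IsScalarTower R' S' A' := IsScalarTower.of_algebraMap_eq fun a =>
    (Algebra.pushoutDesc_left S' (IsScalarTower.toAlgHom R R' A') g (fun _ _ => mul_comm _ _) a).symm
  haveI : IsScalarTower S S' A' := IsScalarTower.of_algebraMap_eq fun s =>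
    (Algebra.pushoutDesc_right S' (IsScalarTower.toAlgHom R R' A') g (fun _ _ => mul_comm _ _) s).symm
  haveI : Algebra.IsPushout σ.B B' σ.A A' := by
    haveI : Algebra.IsPushout R σ.B R' B' := Algebra.IsPushout.symm inferInstance
    haveI : Algebra.IsPushout R σ.A R' A' := Algebra.IsPushout.symm inferInstance
    haveI : Algebra.IsPushout σ.B σ.A B' A' := FlatClosed.isPushout_cancel R σ.B σ.A R' B' A'
    exact Algebra.IsPushout.symm inferInstance
  haveI : Algebra.IsPushout S S' σ.A A' := by
    haveI : Algebra.IsPushout R S R' S' := Algebra.IsPushout.symm inferInstance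
    haveI : Algebra.IsPushout R σ.A R' A' := Algebra.IsPushout.symm inferInstance
    haveI : Algebra.IsPushout S σ.A S' A' := FlatClosed.isPushout_cancel R S σ.A R' S' A'
    exact Algebra.IsPushout.symm inferInstance
  suffices H : _ by
    obtain ⟨q', h1, h2, h3, -, h4⟩ := σ.transport R' p' hκ B' (smoothRelDim_baseChange σ.d σ.relDim)
      (geomIrred_baseChange σ.geomIrred) (FlatDevPad.map_liesOver R R' σ.B B' p p') y'
      (FlatDevBC.residueField_bijective p p' hκ σ.y y') S' A' N' f hf H
    exact ⟨q', h1, h2, h3, h4⟩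
  rcases htail with hs | ht
  · refine Or.inl fun Mc _ _ _ _ l hl => subsingleton_of_isBaseChange_of_smul_eq_zero hl 1 ?_ fun m => ?_
    · rw [map_one]; exact isUnit_one
    · haveI : Subsingleton (σ.M ⧸ LinearMap.range σ.α) :=
        Submodule.Quotient.subsingleton_iff.mpr (LinearMap.range_eq_top.2 hs)
      exact Subsingleton.elim _ _
  refine Or.inr fun Mc _ _ _ _ l hl => ?_
  obtain ⟨y'', hy'', hy''y, hy''p, hdev⟩ := ht B' Mc l hl
  haveI := hy''; haveI := hy''y; haveI := hy''p
  rwa [← FlatDevBC.eq_of_liesOver p p' hκ σ.y y'' y']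

theorem DevAt.baseChange {R : Type u} [CommRing R] {p : Ideal R} [p.IsPrime] {S : Type u} [CommRing S] [Algebra R S]
    {q : Ideal S} {N : Type u} [AddCommGroup N] [Module S N] (h : DevAt R p S q N)
    (R' : Type u) [CommRing R'] [Algebra R R'] (p' : Ideal R') [p'.IsPrime] [p'.LiesOver p]
    (hκ : Function.Bijective (Ideal.ResidueField.mapₐ p p' (Algebra.ofId R R') (Ideal.over_def p' p))) :
    ∀ (S' : Type u) [CommRing S'] [Algebra R' S'] [Algebra R S'] [Algebra S S'] [IsScalarTower R R' S']
      [IsScalarTower R S S'] [Algebra.IsPushout R R' S S']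
      (N' : Type u) [AddCommGroup N'] [Module S' N'] [Module S N'] [IsScalarTower S S' N']
      (f : N →ₗ[S] N'), IsBaseChange S' f →
      ∃ q' : Ideal S', q'.IsPrime ∧ q'.LiesOver q ∧ q'.LiesOver p' ∧ DevAt R' p' S' q' N' := by
  induction h with
  | single σ hs =>
    intro S' _ _ _ _ _ _ _ N' _ _ _ _ f hf
    exact σ.baseChange R' p' hκ S' N' f hf (Or.inl hs)
  | cons σ _ ih =>
    intro S' _ _ _ _ _ _ _ N' _ _ _ _ f hf
    exact σ.baseChange R' p' hκ S' N' f hf (Or.inr fun B' _ _ _ _ _ _ _ Mc _ _ _ _ l hl => ih B' Mc l hl)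

/-- The base change at a given point. -/
theorem DevAt.baseChange_at {R : Type u} [CommRing R] {p : Ideal R} [p.IsPrime] {S : Type u} [CommRing S] [Algebra R S]
    {q : Ideal S} [q.IsPrime] [q.LiesOver p] {N : Type u} [AddCommGroup N] [Module S N] (h : DevAt R p S q N)
    (R' : Type u) [CommRing R'] [Algebra R R'] (p' : Ideal R') [p'.IsPrime] [p'.LiesOver p]
    (hκ : Function.Bijective (Ideal.ResidueField.mapₐ p p' (Algebra.ofId R R') (Ideal.over_def p' p)))
    (S' : Type u) [CommRing S'] [Algebra R' S'] [Algebra R S'] [Algebra S S'] [IsScalarTower R R' S']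
    [IsScalarTower R S S'] [Algebra.IsPushout R R' S S']
    (N' : Type u) [AddCommGroup N'] [Module S' N'] [Module S N'] [IsScalarTower S S' N']
    (f : N →ₗ[S] N') (hf : IsBaseChange S' f) (q' : Ideal S') [q'.IsPrime] [q'.LiesOver q] [q'.LiesOver p'] :
    DevAt R' p' S' q' N' := by
  obtain ⟨q'', hq'', hq''q, hq''p, hdev⟩ := h.baseChange R' p' hκ S' N' f hf
  haveI := hq''; haveI := hq''q; haveI := hq''p
  rwa [← FlatDevBC.eq_of_liesOver p p' hκ q q'' q']

end Groth.Agent.DevExist
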