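import Groth.Agent.DevExist.Step

/-! From iterated steps to complete dévissages at a prime. -/

set_option autoImplicit false
set_option backward.isDefEq.respectTransparency false
set_option backward.isDefEq.respectTransparency.types false
attribute [-instance] CategoryTheory.catToReflQuiver

universe u

open TensorProduct

namespace Groth.Agent.DevExist

/-- A family preceded by one value. -/
@[reducible] def pre {α : Sort*} (a : α) (f : ℕ → α) : ℕ → α
  | 0 => a
  | i + 1 => f i

variable {R : Type u} [CommRing R] {p : Ideal R} [p.IsPrime] {S : Type u} [CommRing S] [Algebra R S]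
  {q : Ideal S} {N : Type u} [AddCommGroup N] [Module S N] (σ : Step R p S q N)

noncomputable def singleDev (hs : Function.Surjective σ.α) : FlatCA.CompleteDevissage R S N p where
  n := 1
  pos := one_pos
  A := pre σ.A fun _ => σ.B
  B := fun _ => σ.B
  M := pre σ.M fun _ => PUnit.{u + 1}
  r := pre σ.r fun _ => 0
  cA := fun i => match i with | 0 => σ.cA | _ + 1 => σ.cB
  cB := fun _ => σ.cB
  aRA := fun i => match i with | 0 => σ.aRA | _ + 1 => σ.aRB
  aRB := fun _ => σ.aRB
  aBA := fun i => match i with | 0 => σ.aBA | _ + 1 => Algebra.id σ.B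
  tRBA := fun i => match i with | 0 => σ.tRBA | _ + 1 => IsScalarTower.right
  aSA := σ.aSA
  tRSA := σ.tRSA
  aBA' := fun _ => Algebra.id σ.B
  tRBA' := fun _ => IsScalarTower.right
  gM := fun i => match i with | 0 => σ.gM | _ + 1 => inferInstance
  mAM := fun i => match i with | 0 => σ.mAM | _ + 1 => inferInstance
  mBM := fun i => match i with | 0 => σ.mBM | _ + 1 => inferInstance
  tBAM := fun i => match i with | 0 => σ.tBAM | _ + 1 => ⟨fun _ _ _ => rfl⟩
  mRM := fun i => match i with | 0 => Module.compHom σ.M (algebraMap R σ.B) | _ + 1 => inferInstance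
  tRBM := fun i => match i with
    | 0 => letI : Module R σ.M := Module.compHom σ.M (algebraMap R σ.B)
           IsScalarTower.of_algebraMap_smul fun _ _ => rfl
    | _ + 1 => ⟨fun _ _ _ => rfl⟩
  mSM := σ.mSM
  tSAM := σ.tSAM
  mB'M := fun _ => inferInstanceAs (Module σ.B PUnit.{u + 1})
  tB'AM := fun _ => ⟨fun _ _ _ => rfl⟩
  hp := fun _ => σ.isPrime_map
  α := fun i => match i with | 0 => σ.α | _ + 1 => 0
  surjSA := σ.surj
  fpSA := σ.fp
  surjBA' := fun i h => absurd h (by omega)
  fpBA' := fun i h => absurd h (by omega)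
  finiteBA := fun i h => match i, h with | 0, _ => σ.finiteBA | _ + 1, h => absurd h (by omega)
  smooth := fun i _ => σ.smooth
  geomIrred := fun i _ => σ.geomIrred
  finiteM := fun i h => match i, h with | 0, _ => σ.finiteM | _ + 1, h => absurd h (by omega)
  isoN := σ.isoN
  isoCoker := fun i h => absurd h (by omega)
  fibreIso := fun i h => match i, h with
    | 0, _ => haveI := σ.isPrime_map; σ.fibreIso
    | _ + 1, h => absurd h (by omega)
  cokerLast := hs

noncomputable def singleDevAt [q.IsPrime] (hs : Function.Surjective σ.α) :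
    FlatCA.CompleteDevissageAt R S N p q (singleDev σ hs) where
  qB := fun _ => σ.y
  qA := fun i => match i with | 0 => σ.z | _ + 1 => σ.y
  hqB := fun _ => σ.hy
  hqA := fun i => match i with | 0 => σ.hz | _ + 1 => σ.hy
  overB := fun _ => σ.yOver
  overA := fun i => match i with | 0 => σ.zOver | _ + 1 => ⟨rfl⟩
  pureTrans := fun _ _ => σ.pureTrans
  uniq := fun i h => match i, h with | 0, _ => σ.uniq | _ + 1, h => absurd h (Nat.not_lt.2 (Nat.le_add_left 1 _))
  q0 := σ.q0
  qStep := fun i h => absurd h (Nat.not_lt.2 (Nat.le_add_left 1 _))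
  d := fun _ => σ.d
  relDim := fun _ _ => σ.relDim
  locDim := fun i h => match i, h with
    | 0, _ => σ.locDim
    | _ + 1, h => absurd h (Nat.not_lt.2 (Nat.le_add_left 1 _))

variable (D : FlatCA.CompleteDevissage R σ.B (σ.M ⧸ LinearMap.range σ.α) p)

noncomputable def consDev : FlatCA.CompleteDevissage R S N p where
  n := D.n + 1
  pos := Nat.succ_pos _
  A := pre σ.A D.A
  B := pre σ.B D.B
  M := pre σ.M D.M
  r := pre σ.r D.r
  cA := fun i => match i with | 0 => σ.cA | i + 1 => D.cA i
  cB := fun i => match i with | 0 => σ.cB | i + 1 => D.cB i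
  aRA := fun i => match i with | 0 => σ.aRA | i + 1 => D.aRA i
  aRB := fun i => match i with | 0 => σ.aRB | i + 1 => D.aRB i
  aBA := fun i => match i with | 0 => σ.aBA | i + 1 => D.aBA i
  tRBA := fun i => match i with | 0 => σ.tRBA | i + 1 => D.tRBA i
  aSA := σ.aSA
  tRSA := σ.tRSA
  aBA' := fun i => match i with | 0 => D.aSA | i + 1 => D.aBA' i
  tRBA' := fun i => match i with | 0 => D.tRSA | i + 1 => D.tRBA' i
  gM := fun i => match i with | 0 => σ.gM | i + 1 => D.gM i
  mAM := fun i => match i with | 0 => σ.mAM | i + 1 => D.mAM i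
  mBM := fun i => match i with | 0 => σ.mBM | i + 1 => D.mBM i
  tBAM := fun i => match i with | 0 => σ.tBAM | i + 1 => D.tBAM i
  mRM := fun i => match i with | 0 => Module.compHom σ.M (algebraMap R σ.B) | i + 1 => D.mRM i
  tRBM := fun i => match i with
    | 0 => letI : Module R σ.M := Module.compHom σ.M (algebraMap R σ.B)
           IsScalarTower.of_algebraMap_smul fun _ _ => rfl
    | i + 1 => D.tRBM i
  mSM := σ.mSM
  tSAM := σ.tSAM
  mB'M := fun i => match i with | 0 => D.mSM | i + 1 => D.mB'M i
  tB'AM := fun i => match i with | 0 => D.tSAM | i + 1 => D.tB'AM i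
  hp := fun i => match i with | 0 => σ.isPrime_map | i + 1 => D.hp i
  α := fun i => match i with | 0 => σ.α | i + 1 => D.α i
  surjSA := σ.surj
  fpSA := σ.fp
  surjBA' := fun i => match i with | 0 => fun _ => D.surjSA | i + 1 => fun h => D.surjBA' i (Nat.lt_of_succ_lt_succ h)
  fpBA' := fun i => match i with | 0 => fun _ => D.fpSA | i + 1 => fun h => D.fpBA' i (Nat.lt_of_succ_lt_succ h)
  finiteBA := fun i => match i with | 0 => fun _ => σ.finiteBA | i + 1 => fun h => D.finiteBA i (Nat.lt_of_succ_lt_succ h)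
  smooth := fun i => match i with | 0 => fun _ => σ.smooth | i + 1 => fun h => D.smooth i (Nat.lt_of_succ_lt_succ h)
  geomIrred := fun i => match i with
    | 0 => fun _ => σ.geomIrred
    | i + 1 => fun h => D.geomIrred i (Nat.lt_of_succ_lt_succ h)
  finiteM := fun i => match i with | 0 => fun _ => σ.finiteM | i + 1 => fun h => D.finiteM i (Nat.lt_of_succ_lt_succ h)
  isoN := σ.isoN
  isoCoker := fun i => match i with
    | 0 => fun _ => D.isoN
    | i + 1 => fun h => D.isoCoker i (Nat.lt_of_succ_lt_succ h)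
  fibreIso := fun i => match i with
    | 0 => fun _ => haveI := σ.isPrime_map; σ.fibreIso
    | i + 1 => fun h => D.fibreIso i (Nat.lt_of_succ_lt_succ h)
  cokerLast := by
    have key : ∀ m, D.n = m + 1 → Function.Surjective (D.α m) := fun m hm => by
      have := D.cokerLast
      rwa [show D.n - 1 = m by omega] at this
    obtain ⟨m, hm⟩ : ∃ m, D.n = m + 1 := ⟨D.n - 1, by have := D.pos; omega⟩
    rw [show D.n + 1 - 1 = m + 1 by omega]
    exact key m hm

noncomputable def consDevAt [q.IsPrime] (𝒜 : FlatCA.CompleteDevissageAt R σ.B (σ.M ⧸ LinearMap.range σ.α) p σ.y D) :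
    FlatCA.CompleteDevissageAt R S N p q (consDev σ D) where
  qB := fun i => match i with | 0 => σ.y | i + 1 => 𝒜.qB i
  qA := fun i => match i with | 0 => σ.z | i + 1 => 𝒜.qA i
  hqB := fun i => match i with | 0 => σ.hy | i + 1 => 𝒜.hqB i
  hqA := fun i => match i with | 0 => σ.hz | i + 1 => 𝒜.hqA i
  overB := fun i => match i with | 0 => σ.yOver | i + 1 => 𝒜.overB i
  overA := fun i => match i with | 0 => σ.zOver | i + 1 => 𝒜.overA i
  pureTrans := fun i => match i with
    | 0 => fun _ => σ.pureTrans
    | i + 1 => fun h => 𝒜.pureTrans i (Nat.lt_of_succ_lt_succ h)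
  uniq := fun i => match i with | 0 => fun _ => σ.uniq | i + 1 => fun h => 𝒜.uniq i (Nat.lt_of_succ_lt_succ h)
  q0 := σ.q0
  qStep := fun i => match i with | 0 => fun _ => 𝒜.q0 | i + 1 => fun h => 𝒜.qStep i (Nat.lt_of_succ_lt_succ h)
  d := pre σ.d 𝒜.d
  relDim := fun i => match i with | 0 => fun _ => σ.relDim | i + 1 => fun h => 𝒜.relDim i (Nat.lt_of_succ_lt_succ h)
  locDim := fun i => match i with | 0 => fun _ => σ.locDim | i + 1 => fun h => 𝒜.locDim i (Nat.lt_of_succ_lt_succ h)

theorem DevAt.isPrime (h : DevAt R p S q N) : q.IsPrime := by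
  cases h with
  | single σ _ => exact σ.q0 ▸ Ideal.IsPrime.comap _
  | cons σ _ => exact σ.q0 ▸ Ideal.IsPrime.comap _

theorem DevAt.hasCompleteDevissageAt (h : DevAt R p S q N) [hq : q.IsPrime] :
    FlatCA.HasCompleteDevissageAt R S N p q := by
  revert hq
  induction h with
  | single σ hs => intro hq; exact ⟨singleDev σ hs, ⟨singleDevAt σ hs⟩⟩
  | cons σ _ ih =>
    intro hq
    obtain ⟨D, ⟨𝒜⟩⟩ := ih (hq := σ.hy)
    exact ⟨consDev σ D, ⟨consDevAt σ D 𝒜⟩⟩

end Groth.Agent.DevExist
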