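import Groth.Agent.FlatDevLoc.Basic
import Mathlib.RingTheory.Localization.BaseChange

/-! Elementary etale ring maps at primes: composition and standard opens. -/

set_option autoImplicit false
set_option backward.isDefEq.respectTransparency false
set_option backward.isDefEq.respectTransparency.types false

universe u

namespace Groth.Agent.DevExist

theorem mapₐ_comp {R R₁ R₂ : Type u} [CommRing R] [CommRing R₁] [CommRing R₂] [Algebra R R₁] [Algebra R₁ R₂]
    [Algebra R R₂] [IsScalarTower R R₁ R₂] (p : Ideal R) [p.IsPrime] (p₁ : Ideal R₁) [p₁.IsPrime]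
    (p₂ : Ideal R₂) [p₂.IsPrime] [h₁ : p₁.LiesOver p] [h₂ : p₂.LiesOver p₁] [h : p₂.LiesOver p]
    (x : p.ResidueField) :
    Ideal.ResidueField.mapₐ p p₂ (Algebra.ofId R R₂) h.over x =
      Ideal.ResidueField.mapₐ p₁ p₂ (Algebra.ofId R₁ R₂) h₂.over
        (Ideal.ResidueField.mapₐ p p₁ (Algebra.ofId R R₁) h₁.over x) := by
  let F := (Ideal.ResidueField.mapₐ p₁ p₂ (Algebra.ofId R₁ R₂) h₂.over).toRingHom.comp
    (Ideal.ResidueField.mapₐ p p₁ (Algebra.ofId R R₁) h₁.over).toRingHom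
  suffices (Ideal.ResidueField.mapₐ p p₂ (Algebra.ofId R R₂) h.over).toRingHom = F from DFunLike.congr_fun this x
  apply IsLocalization.ringHom_ext (nonZeroDivisors (R ⧸ p))
  refine Ideal.Quotient.ringHom_ext (RingHom.ext fun r => ?_)
  simp only [RingHom.coe_comp, Function.comp_apply, Ideal.algebraMap_quotient_residueField_mk]
  show Ideal.ResidueField.mapₐ p p₂ (Algebra.ofId R R₂) h.over (algebraMap R p.ResidueField r) =
    Ideal.ResidueField.mapₐ p₁ p₂ (Algebra.ofId R₁ R₂) h₂.over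
      (Ideal.ResidueField.mapₐ p p₁ (Algebra.ofId R R₁) h₁.over (algebraMap R p.ResidueField r))
  rw [AlgHom.commutes, AlgHom.commutes, IsScalarTower.algebraMap_apply R R₁ p₁.ResidueField, AlgHom.commutes,
    IsScalarTower.algebraMap_apply R R₂ p₂.ResidueField, IsScalarTower.algebraMap_apply R₁ R₂ p₂.ResidueField,
    ← IsScalarTower.algebraMap_apply R R₁ R₂]

theorem isEtaleNhd_trans {R R₁ R₂ : Type u} [CommRing R] [CommRing R₁] [CommRing R₂] [Algebra R R₁]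
    [Algebra R₁ R₂] [Algebra R R₂] [IsScalarTower R R₁ R₂] {p : Ideal R} [p.IsPrime] {p₁ : Ideal R₁}
    [p₁.IsPrime] {p₂ : Ideal R₂} [p₂.IsPrime] (h₁ : FlatCA.IsEtaleNhd R R₁ p p₁)
    (h₂ : FlatCA.IsEtaleNhd R₁ R₂ p₁ p₂) : FlatCA.IsEtaleNhd R R₂ p p₂ := by
  obtain ⟨e₁, o₁, b₁⟩ := h₁
  obtain ⟨e₂, o₂, b₂⟩ := h₂
  haveI := o₁; haveI := o₂; haveI := e₁; haveI := e₂
  haveI o : p₂.LiesOver p := Ideal.LiesOver.trans p₂ p₁ p
  refine ⟨Algebra.Etale.comp R R₁ R₂, o, ?_⟩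
  have : (⇑(Ideal.ResidueField.mapₐ p p₂ (Algebra.ofId R R₂) o.over)) =
      ⇑(Ideal.ResidueField.mapₐ p₁ p₂ (Algebra.ofId R₁ R₂) o₂.over) ∘
        ⇑(Ideal.ResidueField.mapₐ p p₁ (Algebra.ofId R R₁) o₁.over) := funext (mapₐ_comp p p₁ p₂)
  rw [this]
  exact b₂.comp b₁

theorem isEtaleNhd_away {R : Type u} [CommRing R] (R' : Type u) [CommRing R'] [Algebra R R'] (g : R)
    [IsLocalization.Away g R'] (p : Ideal R) [p.IsPrime] (p' : Ideal R') [p'.IsPrime] [h : p'.LiesOver p] :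
    FlatCA.IsEtaleNhd R R' p p' :=
  ⟨Algebra.Etale.of_isLocalizationAway g, h,
    Groth.Agent.FlatDevLoc.residueField_bijectiveₐ_of_isLocalization (Submonoid.powers g) p p'⟩

open TensorProduct AlgebraicGeometry CategoryTheory in
theorem isOpenImmersion_tensor_left (R : Type u) [CommRing R] {R₁ R₂ D : Type u} [CommRing R₁] [CommRing R₂] [CommRing D]
    [Algebra R R₁] [Algebra R R₂] [Algebra R₁ R₂] [IsScalarTower R R₁ R₂] [Algebra R D] (c : R₁)
    [IsLocalization.Away c R₂] :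
    IsOpenImmersion (Spec.map (CommRingCat.ofHom
      (Algebra.TensorProduct.map (IsScalarTower.toAlgHom R R₁ R₂) (AlgHom.id R D)).toRingHom)) ∧
    Set.range (PrimeSpectrum.comap
      (Algebra.TensorProduct.map (IsScalarTower.toAlgHom R R₁ R₂) (AlgHom.id R D)).toRingHom) =
      (PrimeSpectrum.basicOpen (algebraMap R₁ (R₁ ⊗[R] D) c) : Set (PrimeSpectrum (R₁ ⊗[R] D))) := by
  letI : Algebra (R₁ ⊗[R] D) (R₂ ⊗[R] D) :=
    (Algebra.TensorProduct.map (IsScalarTower.toAlgHom R R₁ R₂) (AlgHom.id R D)).toRingHom.toAlgebra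
  haveI : IsScalarTower R₁ (R₁ ⊗[R] D) (R₂ ⊗[R] D) := IsScalarTower.of_algebraMap_eq fun a => by
    show algebraMap R₁ R₂ a ⊗ₜ[R] (1 : D) =
      Algebra.TensorProduct.map (IsScalarTower.toAlgHom R R₁ R₂) (AlgHom.id R D) (a ⊗ₜ[R] (1 : D))
    simp
  have h := IsLocalization.tensorProduct_tensorProduct R D (Submonoid.powers c) R₂ (RingHom.ext fun d => by
    show Algebra.TensorProduct.map (IsScalarTower.toAlgHom R R₁ R₂) (AlgHom.id R D) ((1 : R₁) ⊗ₜ[R] d) =
      (1 : R₂) ⊗ₜ[R] d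
    simp)
  haveI : IsLocalization.Away (algebraMap R₁ (R₁ ⊗[R] D) c) (R₂ ⊗[R] D) := by
    rw [Algebra.algebraMapSubmonoid, Submonoid.map_powers] at h
    exact h
  exact ⟨IsOpenImmersion.of_isLocalization (algebraMap R₁ (R₁ ⊗[R] D) c),
    PrimeSpectrum.localization_away_comap_range _ _⟩

open TensorProduct AlgebraicGeometry CategoryTheory in
theorem isOpenImmersion_tensor_right (R : Type u) [CommRing R] {R₁ D D₀ : Type u} [CommRing R₁] [CommRing D] [CommRing D₀]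
    [Algebra R R₁] [Algebra R D] [Algebra R D₀] [Algebra D D₀] [IsScalarTower R D D₀] (g : D)
    [IsLocalization.Away g D₀] :
    IsOpenImmersion (Spec.map (CommRingCat.ofHom
      (Algebra.TensorProduct.map (AlgHom.id R₁ R₁) (IsScalarTower.toAlgHom R D D₀)).toRingHom)) := by
  letI : Algebra (R₁ ⊗[R] D) (R₁ ⊗[R] D₀) :=
    (Algebra.TensorProduct.map (AlgHom.id R₁ R₁) (IsScalarTower.toAlgHom R D D₀)).toRingHom.toAlgebra
  haveI : IsScalarTower R₁ (R₁ ⊗[R] D) (R₁ ⊗[R] D₀) := IsScalarTower.of_algebraMap_eq fun a => by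
    show a ⊗ₜ[R] (1 : D₀) =
      Algebra.TensorProduct.map (AlgHom.id R₁ R₁) (IsScalarTower.toAlgHom R D D₀) (a ⊗ₜ[R] (1 : D))
    simp
  have h := IsLocalization.tensorProduct_tensorProduct_right R R₁ (Submonoid.powers g) D₀ (RingHom.ext fun d => by
    show Algebra.TensorProduct.map (AlgHom.id R₁ R₁) (IsScalarTower.toAlgHom R D D₀) ((1 : R₁) ⊗ₜ[R] d) =
      (1 : R₁) ⊗ₜ[R] algebraMap D D₀ d
    simp)
  haveI : IsLocalization.Away ((1 : R₁) ⊗ₜ[R] g) (R₁ ⊗[R] D₀) := by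
    rw [Submonoid.map_powers] at h
    exact h
  exact IsOpenImmersion.of_isLocalization ((1 : R₁) ⊗ₜ[R] g)

end Groth.Agent.DevExist
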