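import Groth.Agent.DevExist.GeomInt
import Groth.Agent.DevExist.Nhd
import Groth.Agent.FlatDevPad.Alg

/-!
An elementary etale neighbourhood of the base and an affine open with geometrically integral fibres, around a
point of a smooth algebra whose residue field extension has no new algebraic elements.
-/

set_option autoImplicit false
set_option backward.isDefEq.respectTransparency false
set_option backward.isDefEq.respectTransparency.types false
attribute [-instance] CategoryTheory.catToReflQuiver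

universe u

open CategoryTheory CategoryTheory.Limits AlgebraicGeometry TopologicalSpace TensorProduct

namespace Groth.Agent.DevExist

attribute [local instance] Algebra.TensorProduct.rightAlgebra

set_option maxHeartbeats 1600000 in
theorem exists_geomIntegral_nhd {R D : Type u} [CommRing R] [CommRing D] [Algebra R D] [Algebra.Smooth R D]
    (p : Ideal R) [hp : p.IsPrime] (y : Ideal D) [y.IsPrime] [hyp : y.LiesOver p]
    (hy : ∀ a : y.ResidueField, (Ideal.ResidueField.mapₐ p y (Algebra.ofId R D) hyp.over).toRingHom.IsIntegralElem a →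
      a ∈ (Ideal.ResidueField.mapₐ p y (Algebra.ofId R D) hyp.over).toRingHom.range) :
    ∃ (R' : Type u) (_ : CommRing R') (_ : Algebra R R') (p' : Ideal R') (_ : p'.IsPrime),
      FlatCA.IsEtaleNhd R R' p p' ∧
    ∃ (w : R' ⊗[R] D) (y' : Ideal (R' ⊗[R] D)) (_ : y'.IsPrime),
      w ∉ y' ∧ y'.LiesOver y ∧ y'.LiesOver p' ∧ FlatCA.GeomIntegralFibres R' (Localization.Away w) := by
  obtain ⟨g₀, hg₀, hconn⟩ := exists_geomConnected_away p y hy
  let D₀ := Localization.Away g₀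
  haveI : Algebra.Smooth D D₀ := Algebra.Smooth.of_isLocalization_Away g₀
  haveI : Algebra.Smooth R D₀ := Algebra.Smooth.comp R D D₀
  let f₀ := Spec.map (CommRingCat.ofHom (algebraMap R D₀))
  haveI : Smooth f₀ := HasRingHomProperty.Spec_iff.mpr (RingHom.smooth_algebraMap.mpr ‹_›)
  have hd := (Ideal.disjoint_powers_iff_notMem g₀ (Ideal.IsPrime.isRadical ‹y.IsPrime›)).2 hg₀
  let y₀ : Ideal D₀ := y.map (algebraMap D D₀)
  haveI : y₀.IsPrime := IsLocalization.isPrime_of_isPrime_disjoint _ D₀ _ ‹_› hd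
  haveI : y₀.LiesOver y := IsLocalization.liesOver_map_of_isPrime_disjoint _ _ hd
  haveI : y₀.LiesOver p := Ideal.LiesOver.trans y₀ y p
  -- an etale algebra with a map from the smooth algebra
  let p₀ : PrimeSpectrum R := ⟨p, hp⟩
  obtain ⟨S₁, gS, s₁, hgS, hs₁, h, hh⟩ := Groth.Agent.S0412.result f₀ p₀
    ⟨(⟨y₀, inferInstance⟩ : PrimeSpectrum D₀), PrimeSpectrum.ext (Ideal.over_def y₀ p).symm⟩
  obtain ⟨V, hV, hsV, -⟩ := exists_isAffineOpen_mem_and_subset (x := s₁) (U := (⊤ : S₁.Opens)) trivial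
  obtain ⟨ε, hε⟩ := Spec.map_surjective (hV.fromSpec ≫ gS)
  obtain ⟨ψ, hψ⟩ := Spec.map_surjective (hV.fromSpec ≫ h)
  let E := Γ(S₁, V)
  letI : Algebra R E := ε.hom.toAlgebra
  haveI : Algebra.Etale R E := by
    have : Etale (Spec.map ε) := by rw [hε]; infer_instance
    exact HasRingHomProperty.Spec_iff.mp this
  have hψ' : CommRingCat.ofHom (algebraMap R D₀) ≫ ψ = ε := Spec.map_injective (by
    rw [Spec.map_comp, hψ, hε, Category.assoc, hh])
  let ψA : D₀ →ₐ[R] E := { ψ.hom with commutes' := fun r => congr($(hψ').hom r) }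
  let qe := hV.primeIdealOf ⟨s₁, hsV⟩
  haveI : qe.asIdeal.LiesOver p := ⟨by
    have h1 : Spec.map ε qe = p₀ := by
      rw [hε]
      show gS (hV.fromSpec qe) = p₀
      rw [hV.fromSpec_primeIdealOf, hs₁]
    exact (congrArg PrimeSpectrum.asIdeal h1).symm⟩
  haveI : Algebra.QuasiFiniteAt R qe.asIdeal := inferInstance
  obtain ⟨R₁, _, _, _, P, _, _, e, -, P', _, _, -, heP', hbij, hfin, huniq⟩ :=
    Algebra.exists_etale_isIdempotentElem_forall_liesOver_eq p qe.asIdeal
  -- the finite etale piece and the section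
  let A := R₁ ⊗[R] E
  let E₁ := Localization.Away e
  haveI : Algebra.Etale A E₁ := Algebra.Etale.of_isLocalizationAway e
  haveI : Algebra.Etale R₁ E₁ := Algebra.Etale.comp R₁ A E₁
  let T₀ := R₁ ⊗[R] D₀
  let f' := Spec.map (CommRingCat.ofHom (algebraMap R₁ T₀))
  haveI : Smooth f' := HasRingHomProperty.Spec_iff.mpr (RingHom.smooth_algebraMap.mpr inferInstance)
  let g₁ := Spec.map (CommRingCat.ofHom (algebraMap R₁ E₁))
  haveI : IsFinite g₁ := (IsFinite.SpecMap_iff _).2 (RingHom.finite_algebraMap.2 hfin)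
  haveI : Etale g₁ := HasRingHomProperty.Spec_iff.mpr (RingHom.etale_algebraMap.mpr inferInstance)
  let θ : T₀ →ₐ[R₁] E₁ := (IsScalarTower.toAlgHom R₁ A E₁).comp (Algebra.TensorProduct.map (AlgHom.id R₁ R₁) ψA)
  let σ := Spec.map (CommRingCat.ofHom θ.toRingHom)
  have hσ : σ ≫ f' = g₁ := by
    rw [← Spec.map_comp, ← CommRingCat.ofHom_comp,
      show θ.toRingHom.comp (algebraMap R₁ T₀) = algebraMap R₁ E₁ from θ.comp_algebraMap]
  have hde := (Ideal.disjoint_powers_iff_notMem e (Ideal.IsPrime.isRadical ‹P'.IsPrime›)).2 heP'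
  let x₁ : PrimeSpectrum E₁ :=
    ⟨P'.map (algebraMap A E₁), IsLocalization.isPrime_of_isPrime_disjoint _ E₁ _ ‹_› hde⟩
  let P₁ : PrimeSpectrum R₁ := ⟨P, inferInstance⟩
  have hx₁ : g₁ x₁ = P₁ := PrimeSpectrum.ext (by
    show (P'.map (algebraMap A E₁)).comap (algebraMap R₁ E₁) = P
    rw [IsScalarTower.algebraMap_eq R₁ A E₁, ← Ideal.comap_comap,
      show (P'.map (algebraMap A E₁)).comap (algebraMap A E₁) = P' from
        IsLocalization.comap_map_of_isPrime_disjoint _ E₁ ‹_› hde]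
    exact (Ideal.over_def P' P).symm)
  have huniq₁ : ∀ z, g₁ z = g₁ x₁ → z = x₁ := fun z hz => by
    rw [hx₁] at hz
    apply (PrimeSpectrum.localization_away_isOpenEmbedding E₁ e).injective
    refine PrimeSpectrum.ext ?_
    show (z.asIdeal).comap (algebraMap A E₁) = (P'.map (algebraMap A E₁)).comap (algebraMap A E₁)
    rw [show (P'.map (algebraMap A E₁)).comap (algebraMap A E₁) = P' from
      IsLocalization.comap_map_of_isPrime_disjoint _ E₁ ‹_› hde]
    refine huniq _ inferInstance ⟨?_⟩ ?_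
    · show P = (z.asIdeal.comap (algebraMap A E₁)).comap (algebraMap R₁ A)
      rw [Ideal.comap_comap, ← IsScalarTower.algebraMap_eq]
      exact (congrArg PrimeSpectrum.asIdeal hz).symm
    · intro hez
      exact z.isPrime.ne_top (Ideal.eq_top_of_isUnit_mem _ hez (IsLocalization.Away.algebraMap_isUnit e))
  have hsq : IsPullback (Spec.map (CommRingCat.ofHom (algebraMap D₀ T₀))) f' f₀
      (Spec.map (CommRingCat.ofHom (algebraMap R R₁))) :=
    isPullback_SpecMap_of_isPushout _ _ _ _ (CommRingCat.isPushout_of_isPushout R R₁ D₀ T₀).flip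
  have hconn' : GeometricallyConnected (f'.fiberToSpecResidueField (g₁ x₁)) := by
    rw [hx₁]
    refine (Set.ext_iff.mp (Groth.Agent.S9765.result f₀ _ f' _ hsq) P₁).2 ?_
    show GeometricallyConnected (f₀.fiberToSpecResidueField _)
    rw [show Spec.map (CommRingCat.ofHom (algebraMap R R₁)) P₁ = p₀ from
      PrimeSpectrum.ext (Ideal.over_def P p).symm]
    exact hconn
  obtain ⟨U, hUfib, hUirr⟩ := exists_irreducible_open f' g₁ σ hσ x₁ huniq₁ hconn'
  -- a point and a basic open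
  obtain ⟨yT, hyT, hyTy, hyTP⟩ := Groth.Agent.FlatDevBC.exists_prime_over (T' := T₀) p P hbij y₀
  let yT' : PrimeSpectrum T₀ := ⟨yT, hyT⟩
  have hfy : f' yT' = P₁ := PrimeSpectrum.ext (Ideal.over_def yT P).symm
  -- pass to the base change of `D` itself
  let T₁ := R₁ ⊗[R] D
  let η : T₁ →ₐ[R₁] T₀ := Algebra.TensorProduct.map (AlgHom.id R₁ R₁) (IsScalarTower.toAlgHom R D D₀)
  let j₀ := Spec.map (CommRingCat.ofHom η.toRingHom)
  let f₁ := Spec.map (CommRingCat.ofHom (algebraMap R₁ T₁))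
  have hjf : j₀ ≫ f₁ = f' := by
    rw [← Spec.map_comp, ← CommRingCat.ofHom_comp,
      show η.toRingHom.comp (algebraMap R₁ T₁) = algebraMap R₁ T₀ from η.comp_algebraMap]
  haveI : IsOpenImmersion j₀ := isOpenImmersion_tensor_right R g₀
  let U₁ : (Spec (CommRingCat.of T₁)).Opens := j₀ ''ᵁ U
  obtain ⟨_, ⟨g, rfl⟩, hgy, hgU⟩ := PrimeSpectrum.isTopologicalBasis_basic_opens.exists_subset_of_mem_open
    (show j₀ yT' ∈ (U₁ : Set ↥(Spec (CommRingCat.of T₁))) from ⟨yT', hUfib yT' (by rw [hfy, hx₁]), rfl⟩) U₁.2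
  haveI : Smooth f₁ := HasRingHomProperty.Spec_iff.mpr (RingHom.smooth_algebraMap.mpr inferInstance)
  let O : Set (PrimeSpectrum R₁) := f₁ '' (PrimeSpectrum.basicOpen g : Set (PrimeSpectrum T₁)) ∩ Set.range g₁
  have hO : IsOpen O := (f₁.isOpenMap _ (PrimeSpectrum.basicOpen g).2).inter g₁.isOpenMap.isOpen_range
  have hfy₁ : f₁ (j₀ yT') = P₁ := by rw [← Scheme.Hom.comp_apply, hjf, hfy]
  obtain ⟨_, ⟨c, rfl⟩, hcP, hcO⟩ := PrimeSpectrum.isTopologicalBasis_basic_opens.exists_subset_of_mem_open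
    (show P₁ ∈ O from ⟨⟨j₀ yT', hgy, hfy₁⟩, ⟨x₁, hx₁⟩⟩) hO
  -- the rings
  let R₂ := Localization.Away c
  let p₂ : Ideal R₂ := P.map (algebraMap R₁ R₂)
  have hcP' : c ∉ P := hcP
  have hdc := (Ideal.disjoint_powers_iff_notMem c (Ideal.IsPrime.isRadical ‹P.IsPrime›)).2 hcP'
  haveI : p₂.IsPrime := IsLocalization.isPrime_of_isPrime_disjoint _ R₂ _ ‹_› hdc
  haveI : p₂.LiesOver P := IsLocalization.liesOver_map_of_isPrime_disjoint _ _ hdc
  haveI : p₂.LiesOver p := Ideal.LiesOver.trans p₂ P p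
  have hnhd : FlatCA.IsEtaleNhd R R₂ p p₂ :=
    isEtaleNhd_trans (p₁ := P) ⟨‹Algebra.Etale R R₁›, ‹P.LiesOver p›, hbij⟩ (isEtaleNhd_away R₂ c P p₂)
  let T₂ := R₂ ⊗[R] D
  let μ : T₁ →ₐ[R] T₂ := Algebra.TensorProduct.map (IsScalarTower.toAlgHom R R₁ R₂) (AlgHom.id R D)
  obtain ⟨y₂, hy₂, hy₂y, hy₂p⟩ := Groth.Agent.FlatDevBC.exists_prime_over (T' := T₂) p p₂ hnhd.2.2 y
  have hμD : μ.toRingHom.comp (algebraMap D T₁) = algebraMap D T₂ := RingHom.ext fun d => by
    show μ (1 ⊗ₜ d) = 1 ⊗ₜ d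
    exact (Algebra.TensorProduct.map_tmul _ _ _ _).trans (by rw [map_one]; rfl)
  have hμR : μ.toRingHom.comp (algebraMap R₁ T₁) = (algebraMap R₂ T₂).comp (algebraMap R₁ R₂) := RingHom.ext fun a => by
    show μ (a ⊗ₜ 1) = algebraMap R₁ R₂ a ⊗ₜ 1
    exact (Algebra.TensorProduct.map_tmul _ _ _ _).trans (by rw [map_one]; rfl)
  have hyy : y₂.comap μ.toRingHom = (j₀ yT').asIdeal := by
    haveI : (y₂.comap μ.toRingHom).IsPrime := Ideal.IsPrime.comap _
    haveI : (y₂.comap μ.toRingHom).LiesOver y := ⟨by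
      show y = (y₂.comap μ.toRingHom).comap (algebraMap D T₁)
      rw [Ideal.comap_comap, hμD]; exact hy₂y.over⟩
    haveI : (y₂.comap μ.toRingHom).LiesOver P := ⟨by
      show P = (y₂.comap μ.toRingHom).comap (algebraMap R₁ T₁)
      rw [Ideal.comap_comap, hμR, ← Ideal.comap_comap]
      rw [show y₂.comap (algebraMap R₂ T₂) = p₂ from hy₂p.over.symm]
      exact Ideal.over_def p₂ P⟩
    haveI : (j₀ yT').asIdeal.LiesOver y := ⟨by
      show y = (yT.comap η.toRingHom).comap (algebraMap D T₁)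
      have e1 : η.toRingHom.comp (algebraMap D T₁) = (algebraMap D₀ T₀).comp (algebraMap D D₀) := RingHom.ext fun d => by
        show η (1 ⊗ₜ d) = 1 ⊗ₜ algebraMap D D₀ d
        exact (Algebra.TensorProduct.map_tmul _ _ _ _).trans (by rw [map_one]; rfl)
      rw [Ideal.comap_comap, e1, ← Ideal.comap_comap, show yT.comap (algebraMap D₀ T₀) = y₀ from hyTy.over.symm]
      exact Ideal.over_def y₀ y⟩
    haveI : (j₀ yT').asIdeal.LiesOver P := ⟨(congrArg PrimeSpectrum.asIdeal hfy₁).symm⟩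
    exact Groth.Agent.FlatDevBC.eq_of_liesOver p P hbij y _ _
  refine ⟨R₂, inferInstance, inferInstance, p₂, inferInstance, hnhd, μ g, y₂, hy₂,
    fun h => hgy (by rw [← hyy]; exact h), hy₂y, hy₂p, ?_⟩
  haveI : Algebra.Smooth T₂ (Localization.Away (μ g)) := Algebra.Smooth.of_isLocalization_Away (μ g)
  haveI : Algebra.Smooth R₂ (Localization.Away (μ g)) := Algebra.Smooth.comp R₂ T₂ _
  refine geomIntegral_of_algClosed fun K _ _ x => ?_
  let D₂ := Localization.Away (μ g)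
  let f₂ := Spec.map (CommRingCat.ofHom (algebraMap R₂ D₂))
  let i₁ := Spec.map (CommRingCat.ofHom (algebraMap R₁ R₂))
  let i₂ := Spec.map (CommRingCat.ofHom ((algebraMap T₂ D₂).comp μ.toRingHom))
  have hcomm : i₂ ≫ f₁ = f₂ ≫ i₁ := by
    rw [← Spec.map_comp, ← Spec.map_comp, ← CommRingCat.ofHom_comp, ← CommRingCat.ofHom_comp, RingHom.comp_assoc,
      hμR, ← RingHom.comp_assoc, ← IsScalarTower.algebraMap_eq]
  haveI : IsOpenImmersion i₂ := by
    have e : i₂ = Spec.map (CommRingCat.ofHom (algebraMap T₂ D₂)) ≫ Spec.map (CommRingCat.ofHom μ.toRingHom) := by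
      rw [← Spec.map_comp, ← CommRingCat.ofHom_comp]
    haveI : IsOpenImmersion (Spec.map (CommRingCat.ofHom (algebraMap T₂ D₂))) := IsOpenImmersion.of_isLocalization (μ g)
    haveI : IsOpenImmersion (Spec.map (CommRingCat.ofHom μ.toRingHom)) := (isOpenImmersion_tensor_left R c).1
    rw [e]
    infer_instance
  have hi₂g : ∀ z, g ∉ (i₂ z).asIdeal := fun z hh => z.isPrime.ne_top
    (Ideal.eq_top_of_isUnit_mem z.asIdeal (show algebraMap T₂ D₂ (μ g) ∈ z.asIdeal from hh)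
      (IsLocalization.Away.algebraMap_isUnit (μ g)))
  have hrange : Set.range i₂ ⊆ Set.range (U.ι ≫ j₀) := by
    rintro _ ⟨z, rfl⟩
    rw [Scheme.Hom.comp_base, TopCat.coe_comp, Set.range_comp, Scheme.Opens.range_ι]
    exact hgU (hi₂g z)
  let k := IsOpenImmersion.lift (U.ι ≫ j₀) i₂ hrange
  have hk : k ≫ U.ι ≫ j₀ = i₂ := IsOpenImmersion.lift_fac _ _ _
  haveI : IsOpenImmersion (k ≫ U.ι ≫ j₀) := hk.symm ▸ inferInstance
  haveI : IsOpenImmersion k := IsOpenImmersion.of_comp k (U.ι ≫ j₀)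
  let M : pullback f₂ x ⟶ pullback (U.ι ≫ f') (x ≫ i₁) := pullback.map _ _ _ _ k (𝟙 _) i₁
    (by rw [← hjf, ← hcomm, ← hk]; simp only [Category.assoc]) (by simp)
  haveI : IsOpenImmersion M := inferInstance
  let r : PrimeSpectrum R₂ := x (IsLocalRing.closedPoint K : PrimeSpectrum K)
  have hr : i₁ r ∈ (PrimeSpectrum.basicOpen c : Set (PrimeSpectrum R₁)) :=
    (PrimeSpectrum.localization_away_comap_range R₂ c).subset ⟨r, rfl⟩
  obtain ⟨⟨z, hzg, hzr⟩, hrg⟩ := hcO hr
  obtain ⟨z₂, hz₂⟩ : z ∈ Set.range i₂ := by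
    obtain ⟨z', hz'⟩ : z ∈ Set.range (PrimeSpectrum.comap μ.toRingHom) :=
      (isOpenImmersion_tensor_left (R₂ := R₂) R c).2.ge (fun hc => hr (by rw [← hzr]; exact hc))
    obtain ⟨z'', hz''⟩ : z' ∈ Set.range (PrimeSpectrum.comap (algebraMap T₂ D₂)) :=
      (PrimeSpectrum.localization_away_comap_range D₂ (μ g)).ge (fun hh => hzg (by rw [← hz']; exact hh))
    exact ⟨z'', by rw [← hz', ← hz'']; rfl⟩
  have hz₂r : f₂ z₂ = r := (PrimeSpectrum.localization_away_isOpenEmbedding R₂ c).injective (by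
    show i₁ (f₂ z₂) = i₁ r
    rw [← Scheme.Hom.comp_apply, ← hcomm, Scheme.Hom.comp_apply, hz₂, hzr])
  obtain ⟨v, -, -⟩ := Scheme.Pullback.exists_preimage_pullback (f := f₂) (g := x) z₂
    (IsLocalRing.closedPoint K : PrimeSpectrum K) hz₂r
  haveI : Nonempty ↥(pullback f₂ x) := ⟨v⟩
  haveI := hUirr K (x ≫ i₁) (by rw [Scheme.Hom.comp_apply]; exact hrg) ⟨M v⟩
  haveI : PreirreducibleSpace ↥(pullback f₂ x) := M.isOpenEmbedding.preirreducibleSpace
  exact { toNonempty := inferInstance }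

end Groth.Agent.DevExist
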