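import Groth.Agent.CAlgOdd.LocalDimSpec
import Groth.Agent.DevExist.GeomNhd
import Groth.Agent.RGLib.Covering
import Mathlib.RingTheory.ZariskisMainTheorem
import Mathlib.RingTheory.TensorProduct.MvPolynomial

/-!
Coordinates at a point of a fibre: a quasi-finite map to affine space of dimension the local dimension, the
image point having purely transcendental residue field.
-/

set_option autoImplicit false
set_option backward.isDefEq.respectTransparency false
set_option backward.isDefEq.respectTransparency.types false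
attribute [-instance] CategoryTheory.catToReflQuiver

universe u

open TensorProduct Order MvPolynomial

namespace Groth.Agent.DevExist

/-- A point of a Noetherian spectrum which is minimal and maximal is open. -/
theorem isOpen_singleton_of_min_max {A : Type u} [CommRing A] [IsNoetherianRing A] (x : PrimeSpectrum A)
    (hmin : ∀ y, y ≤ x → y = x) (hmax : ∀ y, x ≤ y → y = x) : IsOpen ({x} : Set (PrimeSpectrum A)) := by
  have hfin : (minimalPrimes A).Finite := minimalPrimes.finite_of_isNoetherianRing A
  let T : Set (PrimeSpectrum A) := ⋃ Q ∈ {Q ∈ minimalPrimes A | Q ≠ x.asIdeal}, PrimeSpectrum.zeroLocus (Q : Set A)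
  have hT : IsClosed T := (hfin.subset fun _ h => h.1).isClosed_biUnion fun Q _ => PrimeSpectrum.isClosed_zeroLocus _
  convert hT.isOpen_compl
  ext y
  simp only [T, Set.mem_singleton_iff, Set.mem_compl_iff, Set.mem_iUnion, Set.mem_ofPred_eq,
    PrimeSpectrum.mem_zeroLocus, exists_prop, SetLike.coe_subset_coe, not_exists, not_and]
  refine ⟨fun hy Q ⟨hQ, hne⟩ hQy => hne ?_, fun h => ?_⟩
  · subst hy
    exact congrArg PrimeSpectrum.asIdeal (hmin ⟨Q, hQ.1.1⟩ hQy)
  · obtain ⟨Q, hQ, hQy⟩ := Ideal.exists_minimalPrimes_le (I := (⊥ : Ideal A)) (J := y.asIdeal) bot_le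
    have hQx : Q = x.asIdeal := by
      by_contra hne
      exact h Q ⟨hQ, hne⟩ hQy
    exact hmax y (show x.asIdeal ≤ y.asIdeal from hQx ▸ hQy)

/-- A polynomial over a residue field is a multiple of the image of a polynomial over the base. -/
theorem exists_smul_eq_map {R : Type u} [CommRing R] (p : Ideal R) [p.IsPrime] {σ : Type*}
    (g : MvPolynomial σ p.ResidueField) :
    ∃ b ∉ p, ∃ g₀ : MvPolynomial σ R, algebraMap R p.ResidueField b • g = MvPolynomial.map (algebraMap R p.ResidueField) g₀ := by
  induction g using MvPolynomial.induction_on with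
  | C a =>
    obtain ⟨x, y, hy, rfl⟩ := IsFractionRing.div_surjective (A := R ⧸ p) a
    obtain ⟨x, rfl⟩ := Ideal.Quotient.mk_surjective x
    obtain ⟨y, rfl⟩ := Ideal.Quotient.mk_surjective y
    have hyp : y ∉ p := fun h => by
      rw [Ideal.Quotient.eq_zero_iff_mem.2 h] at hy
      exact zero_notMem_nonZeroDivisors hy
    refine ⟨y, hyp, C x, ?_⟩
    rw [MvPolynomial.map_C, Ideal.algebraMap_quotient_residueField_mk, Ideal.algebraMap_quotient_residueField_mk,
      MvPolynomial.smul_eq_C_mul, ← map_mul,
      mul_div_cancel₀ _ (fun h => hyp (Ideal.algebraMap_residueField_eq_zero.mp h))]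
  | add f g hf hg =>
    obtain ⟨b₁, hb₁, f₀, hf₀⟩ := hf
    obtain ⟨b₂, hb₂, g₀, hg₀⟩ := hg
    refine ⟨b₁ * b₂, fun h => (Ideal.IsPrime.mem_or_mem ‹_› h).elim hb₁ hb₂, C b₂ * f₀ + C b₁ * g₀, ?_⟩
    simp only [map_add, map_mul, map_C, ← hf₀, ← hg₀, MvPolynomial.smul_eq_C_mul]
    ring
  | mul_X f i hf =>
    obtain ⟨b, hb, f₀, hf₀⟩ := hf
    exact ⟨b, hb, f₀ * X i, by rw [map_mul, map_X, ← hf₀, smul_mul_assoc]⟩

attribute [local instance] Algebra.TensorProduct.rightAlgebra

set_option maxHeartbeats 1600000 in
theorem exists_coordinates {R C : Type u} [CommRing R] [CommRing C] [Algebra R C] [Algebra.FiniteType R C]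
    (p : Ideal R) [hp : p.IsPrime] (z : Ideal C) [hz : z.IsPrime] [hzp : z.LiesOver p]
    (z₀ : PrimeSpectrum (p.Fiber C)) (hz₀ : z₀.asIdeal.comap (algebraMap C (p.Fiber C)) = z) (n : ℕ)
    (hn : FlatMor.localDim (PrimeSpectrum (p.Fiber C)) z₀ = n) :
    ∃ φ : MvPolynomial (Fin n) R →ₐ[R] C,
      (letI := φ.toRingHom.toAlgebra; Algebra.QuasiFiniteAt (MvPolynomial (Fin n) R) z) ∧
      ∃ _ : (z.comap φ.toRingHom).LiesOver p, FlatCA.PurelyTranscendental p (z.comap φ.toRingHom) := by
  classical
  let F := p.Fiber C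
  let K := z₀.asIdeal.ResidueField
  let k := p.ResidueField
  haveI : IsNoetherianRing F := RGLib.isNoetherianRing_fiber p
  haveI : Algebra.FiniteType k F := inferInstanceAs (Algebra.FiniteType p.ResidueField (p.ResidueField ⊗[R] C))
  let A := F ⧸ z₀.asIdeal
  have hkFK : algebraMap k K = (algebraMap F K).comp (algebraMap k F) := by
    apply IsLocalization.ringHom_ext (nonZeroDivisors (R ⧸ p))
    refine Ideal.Quotient.ringHom_ext (RingHom.ext fun a => ?_)
    show algebraMap k K (algebraMap R k a) = algebraMap F K (algebraMap k F (algebraMap R k a))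
    rw [← IsScalarTower.algebraMap_apply R k K, ← IsScalarTower.algebraMap_apply R k F,
      ← IsScalarTower.algebraMap_apply R F K]
  haveI tkFK : IsScalarTower k F K := IsScalarTower.of_algebraMap_eq' (R := k) (S := F) (A := K) hkFK
  haveI tkAK : IsScalarTower k A K := IsScalarTower.of_algebraMap_eq' (R := k) (S := A) (A := K) hkFK
  haveI : FaithfulSMul A K := (faithfulSMul_iff_algebraMap_injective _ _).2 (IsFractionRing.injective A K)
  haveI : Algebra.FiniteType k A := Algebra.FiniteType.of_surjective (Ideal.Quotient.mkₐ k z₀.asIdeal) Ideal.Quotient.mk_surjective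
  obtain ⟨d, hd1, hd2⟩ := VarDim.exists_dim_eq_trdeg (k := k) A
  have hco : coheight z₀ = d := by
    have := VarDim.coheight_eq_ringKrullDim_quotient z₀
    rw [hd1] at this
    exact_mod_cast this
  -- height and elements cutting out the point
  obtain ⟨Su, hSu, hm⟩ := Ideal.exists_finset_card_eq_height_of_isNoetherianRing z₀.asIdeal
  have hnd : d + Su.card = n := by
    have h1 := CAlgOdd.LocalDimSpec.localDim_eq_add k z₀
    rw [hn, hco, ← PrimeSpectrum.height_eq_orderHeight, ← hm] at h1
    rw [add_comm]
    exact_mod_cast h1.symm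
  subst hnd
  have hden : ∀ x : F, ∃ r ∉ p, ∃ c : C, algebraMap R k r • x = algebraMap C F c := fun x => by
    obtain ⟨r, hr, c, h⟩ := Ideal.Fiber.exists_smul_eq_one_tmul p x
    exact ⟨r, hr, c, by rw [algebraMap_smul]; exact h⟩
  have hunit : ∀ r, r ∉ p → algebraMap R k r ≠ 0 := fun r hr h =>
    hr (Ideal.algebraMap_residueField_eq_zero.mp h)
  choose r hr c hc using hden
  let eS := Su.equivFin
  let w : Fin Su.card → C := fun j => c (eS.symm j).1
  -- transcendence basis among images of `C`
  let s : Set K := Set.range (algebraMap C K)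
  have himg : ∀ x : F, algebraMap F K x ∈ Algebra.adjoin k s := fun x => by
    have h1 : algebraMap F K x = algebraMap k K ((algebraMap R k (r x))⁻¹) * algebraMap C K (c x) := by
      rw [IsScalarTower.algebraMap_apply C F K, ← hc x, Algebra.smul_def, map_mul,
        ← IsScalarTower.algebraMap_apply k F K, ← mul_assoc, ← map_mul,
        inv_mul_cancel₀ (hunit _ (hr x)), map_one, one_mul]
    rw [h1]
    exact mul_mem (Subalgebra.algebraMap_mem _ _) (Algebra.subset_adjoin (show algebraMap C K (c x) ∈ s from ⟨c x, rfl⟩))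
  haveI : Algebra.IsAlgebraic (Algebra.adjoin k s) K := ⟨fun x => by
    obtain ⟨a, b, -, rfl⟩ := IsFractionRing.div_surjective (A := F ⧸ z₀.asIdeal) x
    obtain ⟨a, rfl⟩ := Ideal.Quotient.mk_surjective a
    obtain ⟨b, rfl⟩ := Ideal.Quotient.mk_surjective b
    rw [Ideal.algebraMap_quotient_residueField_mk, Ideal.algebraMap_quotient_residueField_mk, div_eq_mul_inv]
    exact (isAlgebraic_algebraMap (⟨_, himg a⟩ : Algebra.adjoin k s)).mul
      (IsAlgebraic.inv_iff.2 (isAlgebraic_algebraMap (⟨_, himg b⟩ : Algebra.adjoin k s)))⟩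
  haveI : FaithfulSMul k K := (faithfulSMul_iff_algebraMap_injective _ _).2 (algebraMap k K).injective
  obtain ⟨T, hTs, hT⟩ := exists_isTranscendenceBasis_subset (R := k) s
  haveI : FaithfulSMul k A := (faithfulSMul_iff_algebraMap_injective _ _).2 (algebraMap k A).injective
  have htrK : Algebra.trdeg k K = d := by
    rw [← trdeg_add_eq k A, hd2, trdeg_eq_zero (R := A), add_zero]
  have hcard : Cardinal.mk T = (d : Cardinal.{u}) := hT.cardinalMk_eq_trdeg.trans htrK
  haveI : Finite T := Cardinal.lt_aleph0_iff_finite.1 (hcard ▸ Cardinal.natCast_lt_aleph0)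
  let eT : T ≃ Fin d := Finite.equivFinOfCardEq (by rw [Nat.card, hcard, Cardinal.toNat_natCast])
  have hTc : ∀ i, ∃ a : C, algebraMap C K a = (eT.symm i : K) := fun i => hTs (eT.symm i).2
  choose t ht using hTc
  have hindK : AlgebraicIndependent k fun i => algebraMap C K (t i) := by
    rw [show (fun i => algebraMap C K (t i)) = (Subtype.val : T → K) ∘ eT.symm from funext ht]
    exact hT.1.comp _ eT.symm.injective
  let v : Fin (d + Su.card) → C := Fin.append t w
  let φ : MvPolynomial (Fin (d + Su.card)) R →ₐ[R] C := aeval v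
  let P := MvPolynomial (Fin (d + Su.card)) R
  letI : Algebra P C := φ.toRingHom.toAlgebra
  haveI : IsScalarTower R P C := IsScalarTower.of_algebraMap_eq fun a => (φ.commutes a).symm
  haveI : Algebra.FiniteType P C := Algebra.FiniteType.of_restrictScalars_finiteType R P C
  let y : Ideal P := z.comap φ.toRingHom
  haveI hy : y.IsPrime := Ideal.IsPrime.comap _
  haveI hzy : z.LiesOver y := ⟨rfl⟩
  haveI hyp : y.LiesOver p := ⟨by
    show p = (z.comap φ.toRingHom).comap (algebraMap R P)
    rw [Ideal.comap_comap, show φ.toRingHom.comp (algebraMap R P) = algebraMap R C from φ.comp_algebraMap]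
    exact Ideal.over_def z p⟩
  have hwz : ∀ j, w j ∈ z := fun j => by
    rw [← hz₀]
    show algebraMap C F (c _) ∈ z₀.asIdeal
    rw [← hc, Algebra.smul_def]
    exact Ideal.mul_mem_left _ _ (hSu.1.2 (Ideal.subset_span (eS.symm j).2))
  have hXy : ∀ j, (X (Fin.natAdd d j) : P) ∈ y := fun j => by
    show φ (X _) ∈ z
    rw [aeval_X]
    simpa [v] using hwz j
  -- quasi-finiteness
  let eF := PrimeSpectrum.preimageOrderIsoFiber R C ⟨p, hp⟩
  have heF : ∀ (q : PrimeSpectrum F), (eF.symm q).1.asIdeal = q.asIdeal.comap (algebraMap C F) := fun q => rfl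
  have hover : ∀ Q : PrimeSpectrum C, Q.asIdeal.comap φ.toRingHom = y →
      PrimeSpectrum.comap (algebraMap R C) Q = (⟨p, hp⟩ : PrimeSpectrum R) := fun Q hQ => PrimeSpectrum.ext (by
    show Q.asIdeal.comap (algebraMap R C) = p
    rw [← φ.comp_algebraMap]
    show Q.asIdeal.comap (φ.toRingHom.comp (algebraMap R P)) = p
    rw [← Ideal.comap_comap, hQ]
    exact (Ideal.over_def y p).symm)
  have hz₀' : eF ⟨⟨z, hz⟩, hover ⟨z, hz⟩ rfl⟩ = z₀ := by
    rw [← eF.eq_symm_apply]
    exact Subtype.ext (PrimeSpectrum.ext (hz₀.symm.trans (heF z₀).symm))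
  have hQ : ∀ Q : PrimeSpectrum C, Q.asIdeal.comap φ.toRingHom = y → (Q ≤ ⟨z, hz⟩ ∨ ⟨z, hz⟩ ≤ Q) → Q = ⟨z, hz⟩ := by
    intro Q hQy hcmp
    let q₀ : PrimeSpectrum F := eF ⟨Q, hover Q hQy⟩
    have hq₀ : q₀.asIdeal.comap (algebraMap C F) = Q.asIdeal := by
      rw [← heF, eF.symm_apply_apply]
    suffices q₀ = z₀ by
      have h2 := congrArg (fun q => (eF.symm q).1) (this.trans hz₀'.symm)
      simpa only [q₀, OrderIso.symm_apply_apply] using h2
    rcases hcmp with hle | hle
    · have h0 : q₀ ≤ z₀ := hz₀' ▸ eF.monotone hle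
      refine le_antisymm h0 (hSu.2 ⟨q₀.2, ?_⟩ h0)
      refine Ideal.span_le.2 fun x hx => ?_
      have h1 : algebraMap R k (r x) • x ∈ q₀.asIdeal := by
        rw [hc, ← Ideal.mem_comap, hq₀]
        have : (X (Fin.natAdd d (eS ⟨x, hx⟩)) : P) ∈ Q.asIdeal.comap φ.toRingHom := hQy.symm ▸ hXy _
        rw [Ideal.mem_comap] at this
        simpa [φ, v, w] using this
      rw [Algebra.smul_def] at h1
      refine (q₀.2.mem_or_mem h1).resolve_left fun hbad => q₀.2.ne_top (Ideal.eq_top_of_isUnit_mem _ hbad ?_)
      exact (IsUnit.mk0 _ (hunit _ (hr x))).map _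
    · have h0 : z₀ ≤ q₀ := hz₀' ▸ eF.monotone hle
      by_contra hne
      have hlt : z₀ < q₀ := lt_of_le_of_ne h0 (Ne.symm hne)
      let B := F ⧸ q₀.asIdeal
      haveI : Algebra.FiniteType k B :=
        Algebra.FiniteType.of_surjective (Ideal.Quotient.mkₐ k q₀.asIdeal) Ideal.Quotient.mk_surjective
      obtain ⟨d', hd'1, hd'2⟩ := VarDim.exists_dim_eq_trdeg (k := k) B
      have hco' : coheight q₀ = d' := by
        have := VarDim.coheight_eq_ringKrullDim_quotient q₀
        rw [hd'1] at this
        exact_mod_cast this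
      have hd' : d' < d := by
        have h1 : coheight q₀ < coheight z₀ :=
          coheight_strictAnti hlt (by rw [hco']; exact ENat.natCast_lt_top d')
        rw [hco, hco'] at h1
        exact_mod_cast h1
      have hindB : AlgebraicIndependent k fun i => Ideal.Quotient.mk q₀.asIdeal (algebraMap C F (t i)) := by
        rw [algebraicIndependent_iff]
        intro g hg
        obtain ⟨b, hb, g₀, hg₀'⟩ := exists_smul_eq_map p g
        have hmem : aeval t g₀ ∈ Q.asIdeal := by
          have h := congrArg (aeval fun i => Ideal.Quotient.mk q₀.asIdeal (algebraMap C F (t i))) hg₀'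
          rw [map_smul, hg, smul_zero, aeval_map_algebraMap] at h
          rw [← hq₀, Ideal.mem_comap, ← Ideal.Quotient.eq_zero_iff_mem, h]
          exact comp_aeval_apply (B := B) t ((Ideal.Quotient.mkₐ R q₀.asIdeal).comp (IsScalarTower.toAlgHom R C F)) g₀
        have hmz : aeval t g₀ ∈ z := by
          have e : φ (rename (Fin.castAdd Su.card) g₀) = aeval t g₀ := by
            rw [aeval_rename]
            congr 2
            funext i
            simp [v]
          rw [← e] at hmem ⊢
          have h : rename (Fin.castAdd Su.card) g₀ ∈ Q.asIdeal.comap φ.toRingHom := hmem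
          rw [hQy] at h
          exact h
        have hK : algebraMap C K (aeval t g₀) = 0 := by
          rw [IsScalarTower.algebraMap_apply C F K, Ideal.algebraMap_residueField_eq_zero, ← Ideal.mem_comap, hz₀]
          exact hmz
        have hzero : MvPolynomial.map (algebraMap R k) g₀ = 0 := by
          refine (algebraicIndependent_iff.1 hindK) _ ?_
          rw [aeval_map_algebraMap, ← hK, ← aeval_algebraMap_apply]
          rfl
        rw [hzero] at hg₀'
        exact (smul_eq_zero.1 hg₀').resolve_left (hunit _ hb)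
      have h2 := hindB.lift_cardinalMk_le_trdeg
      rw [hd'2] at h2
      simp only [Cardinal.mk_fin, Cardinal.lift_natCast, Nat.cast_le] at h2
      omega
  have hopen : Algebra.QuasiFiniteAt P z := by
    haveI : IsNoetherianRing (y.Fiber C) := RGLib.isNoetherianRing_fiber y
    refine Algebra.QuasiFiniteAt.of_isOpen_singleton_fiber (⟨z, hz⟩ : PrimeSpectrum C) ?_
    let y' := PrimeSpectrum.comap (algebraMap P C) ⟨z, hz⟩
    let eH := PrimeSpectrum.preimageHomeomorphFiber P C y'
    let eO := PrimeSpectrum.preimageOrderIsoFiber P C y'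
    haveI : IsNoetherianRing (y'.asIdeal.Fiber C) := RGLib.isNoetherianRing_fiber _
    rw [← eH.isOpen_image, Set.image_singleton]
    refine isOpen_singleton_of_min_max _ (fun q hq => ?_) (fun q hq => ?_)
    · have h1 := eO.symm.monotone hq
      have h2 : (eO.symm q).1 = ⟨z, hz⟩ := hQ _ (congrArg PrimeSpectrum.asIdeal (eO.symm q).2) (Or.inl (by
        have h3 : (eO.symm q).1 ≤ (eO.symm (eO ⟨⟨z, hz⟩, rfl⟩)).1 := h1
        rwa [eO.symm_apply_apply] at h3))
      rw [← eO.apply_symm_apply q]
      exact congrArg eO (Subtype.ext h2)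
    · have h1 := eO.symm.monotone hq
      have h2 : (eO.symm q).1 = ⟨z, hz⟩ := hQ _ (congrArg PrimeSpectrum.asIdeal (eO.symm q).2) (Or.inr (by
        have h3 : (eO.symm (eO ⟨⟨z, hz⟩, rfl⟩)).1 ≤ (eO.symm q).1 := h1
        rwa [eO.symm_apply_apply] at h3))
      rw [← eO.apply_symm_apply q]
      exact congrArg eO (Subtype.ext h2)
  refine ⟨φ, hopen, hyp, ?_⟩
  -- the residue field of the image point
  letI akL : Algebra k y.ResidueField := (Ideal.ResidueField.mapₐ p y (Algebra.ofId R P) hyp.over).toRingHom.toAlgebra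
  let ψ : P →+* F := (algebraMap C F).comp φ.toRingHom
  have hψ : y = z₀.asIdeal.comap ψ := by rw [← Ideal.comap_comap, hz₀]
  let m : y.ResidueField →+* K := Ideal.ResidueField.map y z₀.asIdeal ψ hψ
  have halgk : ∀ a : R, algebraMap k y.ResidueField (algebraMap R k a) = algebraMap P y.ResidueField (algebraMap R P a) :=
    fun a => by
      show Ideal.ResidueField.mapₐ p y (Algebra.ofId R P) hyp.over (algebraMap R k a) = _
      rw [AlgHom.commutes]
      exact IsScalarTower.algebraMap_apply R P y.ResidueField a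
  have hm : m.comp (algebraMap k y.ResidueField) = algebraMap k K := by
    apply IsLocalization.ringHom_ext (nonZeroDivisors (R ⧸ p))
    refine Ideal.Quotient.ringHom_ext (RingHom.ext fun a => ?_)
    show m (algebraMap k y.ResidueField (algebraMap R k a)) = algebraMap k K (algebraMap R k a)
    rw [halgk]
    show Ideal.ResidueField.map y z₀.asIdeal ψ hψ _ = _
    rw [Ideal.ResidueField.map_algebraMap]
    show algebraMap F K (algebraMap C F (φ (algebraMap R P a))) = _
    rw [φ.commutes, ← IsScalarTower.algebraMap_apply R C F, ← IsScalarTower.algebraMap_apply R F K,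
      ← IsScalarTower.algebraMap_apply R k K]
  let mA : y.ResidueField →ₐ[k] K := { m with commutes' := fun a => DFunLike.congr_fun hm a }
  let x : ULift.{u} (Fin d) → y.ResidueField := fun i => algebraMap P y.ResidueField (X (Fin.castAdd Su.card i.down))
  have hx : AlgebraicIndependent k x := by
    refine AlgebraicIndependent.of_comp mA ?_
    have : (fun i => mA (x i)) = (fun i => algebraMap C K (t i)) ∘ ULift.down := funext fun i => by
      show Ideal.ResidueField.map y z₀.asIdeal ψ hψ _ = _
      rw [Ideal.ResidueField.map_algebraMap]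
      show algebraMap F K (algebraMap C F (φ (X _))) = _
      rw [aeval_X, Function.comp_apply, ← IsScalarTower.algebraMap_apply C F K]
      simp [v]
    show AlgebraicIndependent k fun i => mA (x i)
    rw [this]
    exact hindK.comp _ ULift.down_injective
  have htop : IntermediateField.adjoin k (Set.range x) = ⊤ := by
    rw [eq_top_iff]
    intro a _
    have hP : ∀ g : P, algebraMap P y.ResidueField g ∈ IntermediateField.adjoin k (Set.range x) := fun g => by
      induction g using MvPolynomial.induction_on with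
      | C a =>
        rw [show (MvPolynomial.C a : P) = algebraMap R P a from rfl, ← halgk]
        exact IntermediateField.algebraMap_mem _ _
      | add f g hf hg => rw [map_add]; exact add_mem hf hg
      | mul_X f i hf =>
        rw [map_mul]
        refine mul_mem hf ?_
        refine Fin.addCases (fun i => ?_) (fun j => ?_) i
        · exact IntermediateField.subset_adjoin _ _ ⟨⟨i⟩, rfl⟩
        · rw [Ideal.algebraMap_residueField_eq_zero.2 (hXy j)]
          exact zero_mem _
    obtain ⟨a, b, -, rfl⟩ := IsFractionRing.div_surjective (A := P ⧸ y) a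
    obtain ⟨a, rfl⟩ := Ideal.Quotient.mk_surjective a
    obtain ⟨b, rfl⟩ := Ideal.Quotient.mk_surjective b
    rw [Ideal.algebraMap_quotient_residueField_mk, Ideal.algebraMap_quotient_residueField_mk]
    exact div_mem (hP a) (hP b)
  have halg : Algebra.IsAlgebraic (IntermediateField.adjoin k (Set.range x)) y.ResidueField := ⟨fun a =>
    isAlgebraic_algebraMap (⟨a, htop ▸ IntermediateField.mem_top⟩ : IntermediateField.adjoin k (Set.range x))⟩
  exact ⟨ULift.{u} (Fin d), x, isTranscendenceBasis_iff_algebraicIndependent_isAlgebraic.2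
    ⟨hx, IntermediateField.isAlgebraic_adjoin_iff_top.1 halg⟩, htop⟩

end Groth.Agent.DevExist
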