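import Groth.Agent.DevExist.Main
import Groth.Agent.FlatEtNhd.Fibre
import Groth.Agent.S12243

/-! Complete dévissages on an etale cover of a whole fibre. -/

set_option autoImplicit false
set_option backward.isDefEq.respectTransparency false
set_option backward.isDefEq.respectTransparency.types false
attribute [-instance] CategoryTheory.catToReflQuiver
set_option linter.style.haveILetI false

universe u

open TensorProduct AlgebraicGeometry CategoryTheory

namespace Groth.Agent.DevExist

/-- The identity has geometrically irreducible fibres. -/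
theorem geomIrred_self (R : Type u) [CommRing R] : FlatCA.GeomIrredFibres R R := by
  show GeometricallyIrreducible (Spec.map (CommRingCat.ofHom (RingHom.id R)))
  rw [show CommRingCat.ofHom (RingHom.id R) = 𝟙 (CommRingCat.of R) from rfl, Spec.map_id]
  constructor
  intro K _ y Y fst snd hp
  haveI := hp.isIso_snd_of_isIso
  have h : IrreducibleSpace (Spec (CommRingCat.of K)) := inferInstance
  exact (Scheme.homeoOfIso (asIso snd)).symm.surjective.irreducibleSpace
    (Scheme.homeoOfIso (asIso snd)).symm.continuous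

/-- The dévissage of a zero module. -/
noncomputable def zeroDev {R S : Type u} [CommRing R] [CommRing S] [Algebra R S] (N : Type u) [AddCommGroup N]
    [Module S N] [Subsingleton N] (p : Ideal R) [hp : p.IsPrime] : FlatCA.CompleteDevissage R S N p where
  n := 1
  pos := one_pos
  A := fun _ => S ⧸ (⊤ : Ideal S)
  B := fun _ => R
  M := fun _ => PUnit.{u + 1}
  r := fun _ => 0
  cA := fun _ => inferInstance
  cB := fun _ => inferInstance
  aRA := fun _ => inferInstance
  aRB := fun _ => Algebra.id R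
  aBA := fun _ => inferInstance
  tRBA := fun _ => IsScalarTower.left _
  aSA := inferInstance
  tRSA := inferInstance
  aBA' := fun _ => inferInstance
  tRBA' := fun _ => IsScalarTower.left _
  gM := fun _ => inferInstance
  mAM := fun _ => inferInstance
  mBM := fun _ => inferInstance
  tBAM := fun _ => ⟨fun _ _ _ => rfl⟩
  mRM := fun _ => inferInstance
  tRBM := fun _ => ⟨fun _ _ _ => rfl⟩
  mSM := inferInstance
  tSAM := ⟨fun _ _ _ => rfl⟩
  mB'M := fun _ => inferInstance
  tB'AM := fun _ => ⟨fun _ _ _ => rfl⟩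
  hp := fun _ => by rw [Algebra.algebraMap_self, Ideal.map_id]; exact hp
  α := fun _ => 0
  surjSA := Ideal.Quotient.mk_surjective
  fpSA := Algebra.FinitePresentation.quotient ⟨{1}, by rw [Finset.coe_singleton]; exact Ideal.span_singleton_one⟩
  surjBA' := fun i h => absurd h (by omega)
  fpBA' := fun i h => absurd h (by omega)
  finiteBA := fun _ _ => inferInstance
  smooth := fun _ _ => inferInstance
  geomIrred := fun _ _ => geomIrred_self R
  finiteM := fun _ _ => inferInstance
  isoN := LinearEquiv.ofSubsingleton N PUnit.{u + 1}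
  isoCoker := fun i h => absurd h (by omega)
  fibreIso := fun _ _ => by
    constructor
    · intro a b _
      exact Subsingleton.elim _ _
    · intro b
      exact ⟨0, Subsingleton.elim _ _⟩
  cokerLast := fun b => ⟨0, Subsingleton.elim _ _⟩

/-- The base changes of `N` to `S'` admit complete dévissages over `p'`. -/
def DGood (R' : Type u) [CommRing R'] (p' : Ideal R') [p'.IsPrime] (S : Type u) [CommRing S] (S' : Type u)
    [CommRing S'] [Algebra R' S'] [Algebra S S'] (N : Type u) [AddCommGroup N] [Module S N] : Prop :=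
  ∀ (M : Type u) [AddCommGroup M] [Module S' M] [Module S M] [IsScalarTower S S' M] (f : N →ₗ[S] M),
    IsBaseChange S' f → Nonempty (FlatCA.CompleteDevissage R' S' M p')

variable {R S : Type u} [CommRing R] [CommRing S] [Algebra R S]

set_option maxHeartbeats 1600000 in
/-- A dévissage neighbourhood over a further etale neighbourhood of the base. -/
theorem dgood_baseChange [Algebra.FiniteType R S] {R' S' : Type u} [CommRing R'] [CommRing S'] [Algebra R R']
    [Algebra S S'] [Algebra R' S'] [Algebra R S'] [IsScalarTower R R' S'] [IsScalarTower R S S'] (p : Ideal R)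
    [p.IsPrime] (p' : Ideal R') [p'.IsPrime] (hR : FlatCA.IsEtaleNhd R R' p p') [Algebra.Etale S S'] {N : Type u}
    [AddCommGroup N] [Module S N] [Module.Finite S N] (hG : DGood R' p' S S' N) (R'' : Type u) [CommRing R'']
    [Algebra R R''] [Algebra R' R''] [IsScalarTower R R' R''] (p'' : Ideal R'') [p''.IsPrime]
    (hR'' : FlatCA.IsEtaleNhd R R'' p p'') [p''.LiesOver p'] :
    ∃ (S'' : Type u) (_ : CommRing S'') (_ : Algebra S S'') (_ : Algebra R'' S'') (_ : Algebra R S'')
      (_ : IsScalarTower R R'' S'') (_ : IsScalarTower R S S''),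
      Algebra.Etale S S'' ∧ DGood R'' p'' S S'' N ∧
        ∀ Q' : Ideal S', Q'.IsPrime → Q'.LiesOver p' → ∃ Q'' : Ideal S'', Q''.IsPrime ∧
          Q''.comap (algebraMap S S'') = Q'.comap (algebraMap S S') ∧ Q''.LiesOver p'' := by
  obtain ⟨heR, hp', hκ⟩ := hR
  obtain ⟨heR'', hp'', hκ''⟩ := hR''
  haveI := heR; haveI := hp'; haveI := heR''; haveI := hp''
  have hκ' : Function.Bijective (Ideal.ResidueField.mapₐ p' p'' (Algebra.ofId R' R'') (Ideal.over_def p'' p')) := by
    have he : (⇑(Ideal.ResidueField.mapₐ p p'' (Algebra.ofId R R'') hp''.over)) =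
        ⇑(Ideal.ResidueField.mapₐ p' p'' (Algebra.ofId R' R'') (Ideal.over_def p'' p')) ∘
          ⇑(Ideal.ResidueField.mapₐ p p' (Algebra.ofId R R') hp'.over) := funext (DevExist.mapₐ_comp p p' p'')
    rw [he] at hκ''
    exact ⟨RingHom.injective _, hκ''.2.of_comp⟩
  let S'' := R'' ⊗[R'] S'
  letI : Algebra S' S'' := Algebra.TensorProduct.rightAlgebra
  haveI : IsScalarTower R' S' S'' := Algebra.TensorProduct.right_isScalarTower
  haveI : Algebra.IsPushout R' R'' S' S'' := TensorProduct.isPushout (R := R') (S := R'') (T := S')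
  haveI : Algebra.Etale R' R'' := Algebra.Etale.of_restrictScalars R R' R''
  haveI : Algebra.Etale S' S'' := DevExist.etale_rightAlgebra R' R'' S'
  letI : Algebra S S'' := ((algebraMap S' S'').comp (algebraMap S S')).toAlgebra
  haveI : IsScalarTower S S' S'' := IsScalarTower.of_algebraMap_eq' rfl
  haveI : Algebra.Etale S S'' := Algebra.Etale.comp S S' S''
  haveI : IsScalarTower R S S'' := IsScalarTower.of_algebraMap_eq fun r => by
    show algebraMap R R'' r ⊗ₜ[R'] (1 : S') = algebraMap S' S'' (algebraMap S S' (algebraMap R S r))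
    rw [← IsScalarTower.algebraMap_apply R S S', IsScalarTower.algebraMap_apply R R' S',
      ← IsScalarTower.algebraMap_apply R' S' S'', IsScalarTower.algebraMap_apply R R' R'']
    rfl
  haveI : Algebra.FiniteType R S' := Algebra.FiniteType.trans (S := S) inferInstance inferInstance
  haveI : Algebra.FiniteType R' S' := Algebra.FiniteType.of_restrictScalars_finiteType R R' S'
  refine ⟨S'', inferInstance, inferInstance, inferInstance, inferInstance, inferInstance, inferInstance,
    inferInstance, ?_, fun Q' hQ' hQp => ?_⟩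
  · intro M _ _ _ _ f hf
    let N' := S' ⊗[S] N
    let l : N →ₗ[S] N' := TensorProduct.mk S S' N 1
    have hl : IsBaseChange S' l := TensorProduct.isBaseChange S N S'
    obtain ⟨𝒟⟩ := hG N' l hl
    letI : Module S' M := Module.compHom M (algebraMap S' S'')
    haveI : IsScalarTower S' S'' M := IsScalarTower.of_algebraMap_smul fun _ _ => rfl
    haveI : IsScalarTower S S' M := IsScalarTower.to₁₂₄ S S' S'' M
    let a : N' →ₗ[S'] M := hl.lift f
    have ha : IsBaseChange S'' a := IsBaseChange.of_comp hl (by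
      rw [show ((a.restrictScalars S) ∘ₗ l) = f from LinearMap.ext fun n => hl.lift_eq f n]
      exact hf)
    haveI : Module.Finite S' N' := inferInstance
    obtain ⟨𝒟', -⟩ := Groth.Agent.S12243.result R' S' N' p' 𝒟 R'' p'' S'' M a ha
    exact ⟨𝒟'⟩
  · haveI := hQ'; haveI := hQp
    obtain ⟨Q'', hQ'', hQQ, hQ''p⟩ := FlatDevBC.exists_prime_over (R := R') (R' := R'') (T := S') (T' := S'')
      p' p'' hκ' Q'
    refine ⟨Q'', hQ'', ?_, hQ''p⟩
    rw [IsScalarTower.algebraMap_eq S S' S'', ← Ideal.comap_comap, hQQ.over]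

/-- Finitely many dévissage neighbourhoods covering the points of `V` over `p`. -/
def DevOn (R S : Type u) [CommRing R] [CommRing S] [Algebra R S] (p : Ideal R) [p.IsPrime]
    (N : Type u) [AddCommGroup N] [Module S N] (V : Set (PrimeSpectrum S)) : Prop :=
  ∃ (R' : Type u) (_ : CommRing R') (_ : Algebra R R') (p' : Ideal R') (_ : p'.IsPrime),
    FlatCA.IsEtaleNhd R R' p p' ∧ ∃ (ι : Type) (_ : Fintype ι) (S' : ι → Type u) (_ : ∀ i, CommRing (S' i))
      (_ : ∀ i, Algebra S (S' i)) (_ : ∀ i, Algebra R' (S' i)) (_ : ∀ i, Algebra R (S' i))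
      (_ : ∀ i, IsScalarTower R R' (S' i)) (_ : ∀ i, IsScalarTower R S (S' i)),
      (∀ i, Algebra.Etale S (S' i) ∧ DGood R' p' S (S' i) N) ∧
      ∀ Q ∈ V, Q.asIdeal.LiesOver p → ∃ (i : ι) (Q' : Ideal (S' i)), Q'.IsPrime ∧
        Q'.comap (algebraMap S (S' i)) = Q.asIdeal ∧ Q'.LiesOver p'

theorem devOn_empty (p : Ideal R) [p.IsPrime] (N : Type u) [AddCommGroup N] [Module S N] : DevOn R S p N ∅ :=
  ⟨R, inferInstance, inferInstance, p, inferInstance, FlatEtNhd.isEtaleNhd_self p, Fin 0, inferInstance,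
    fun i => i.elim0, fun i => i.elim0, fun i => i.elim0, fun i => i.elim0, fun i => i.elim0, fun i => i.elim0,
    fun i => i.elim0, fun i => i.elim0, fun Q hQ => absurd hQ (Set.notMem_empty Q)⟩

set_option maxHeartbeats 1600000 in
theorem devOn_union [Algebra.FiniteType R S] {p : Ideal R} [p.IsPrime] {N : Type u} [AddCommGroup N] [Module S N]
    [Module.Finite S N] {V W : Set (PrimeSpectrum S)} (hV : DevOn R S p N V) (hW : DevOn R S p N W) :
    DevOn R S p N (V ∪ W) := by
  obtain ⟨R₁, _, _, p₁, _, hR₁, ι₁, _, S₁, _, _, _, _, _, _, hS₁, hl₁⟩ := hV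
  obtain ⟨R₂, _, _, p₂, _, hR₂, ι₂, _, S₂, _, _, _, _, _, _, hS₂, hl₂⟩ := hW
  have hR₁' := hR₁
  have hR₂' := hR₂
  obtain ⟨he₁, hp₁, hκ₁⟩ := hR₁'
  obtain ⟨he₂, hp₂, hκ₂⟩ := hR₂'
  haveI := he₁; haveI := hp₁; haveI := he₂; haveI := hp₂
  let R₀ := R₁ ⊗[R] R₂
  letI : Algebra R₂ R₀ := Algebra.TensorProduct.rightAlgebra
  haveI : IsScalarTower R R₂ R₀ := Algebra.TensorProduct.right_isScalarTower
  haveI : Algebra.IsPushout R R₁ R₂ R₀ := TensorProduct.isPushout (R := R) (S := R₁) (T := R₂)
  obtain ⟨p₀, hp₀, hp₀₂, hp₀₁⟩ := FlatDevBC.exists_prime_over (R := R) (R' := R₁) (T := R₂) (T' := R₀) p p₁ hκ₁ p₂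
  haveI := hp₀; haveI := hp₀₂; haveI := hp₀₁
  haveI : Algebra.Etale R₂ R₀ := DevExist.etale_rightAlgebra R R₁ R₂
  have h₂₀ : FlatCA.IsEtaleNhd R₂ R₀ p₂ p₀ :=
    ⟨inferInstance, hp₀₂, (DevExist.bijective_mapₐ_iff p₂ p₀).2 (FlatDevBC.residueField_bijective p p₁ hκ₁ p₂ p₀)⟩
  have h₀ : FlatCA.IsEtaleNhd R R₀ p p₀ := DevExist.isEtaleNhd_trans (p₁ := p₂) hR₂ h₂₀
  have hb₁ := fun i => haveI := (hS₁ i).1; dgood_baseChange p p₁ hR₁ (hS₁ i).2 R₀ p₀ h₀
  have hb₂ := fun i => haveI := (hS₂ i).1; dgood_baseChange p p₂ hR₂ (hS₂ i).2 R₀ p₀ h₀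
  choose T₁ a1 b1 c1 d1 e1 f1 hT₁ hH₁ hm₁ using hb₁
  choose T₂ a2 b2 c2 d2 e2 f2 hT₂ hH₂ hm₂ using hb₂
  refine ⟨R₀, inferInstance, inferInstance, p₀, inferInstance, h₀, ι₁ ⊕ ι₂, inferInstance, Sum.elim T₁ T₂,
    fun i => match i with | .inl i => a1 i | .inr i => a2 i,
    fun i => match i with | .inl i => b1 i | .inr i => b2 i,
    fun i => match i with | .inl i => c1 i | .inr i => c2 i,
    fun i => match i with | .inl i => d1 i | .inr i => d2 i,
    fun i => match i with | .inl i => e1 i | .inr i => e2 i,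
    fun i => match i with | .inl i => f1 i | .inr i => f2 i,
    fun i => match i with | .inl i => ⟨hT₁ i, hH₁ i⟩ | .inr i => ⟨hT₂ i, hH₂ i⟩, ?_⟩
  intro Q hQ hQp
  rcases hQ with hQ | hQ
  · obtain ⟨i, Q', hQ', hQ'c, hQ'p⟩ := hl₁ Q hQ hQp
    obtain ⟨Q'', hQ'', hQ''c, hQ''p⟩ := hm₁ i Q' hQ' hQ'p
    exact ⟨Sum.inl i, Q'', hQ'', hQ''c.trans hQ'c, hQ''p⟩
  · obtain ⟨i, Q', hQ', hQ'c, hQ'p⟩ := hl₂ Q hQ hQp
    obtain ⟨Q'', hQ'', hQ''c, hQ''p⟩ := hm₂ i Q' hQ' hQ'p
    exact ⟨Sum.inr i, Q'', hQ'', hQ''c.trans hQ'c, hQ''p⟩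

set_option maxHeartbeats 1600000 in
/-- Every point of the fibre has an open set of dévissage points around it. -/
theorem exists_devOn_nhd [Algebra.FiniteType R S] (N : Type u) [AddCommGroup N] [Module S N] [Module.Finite S N]
    (p : Ideal R) [p.IsPrime] (q : Ideal S) [q.IsPrime] [q.LiesOver p] :
    ∃ U : Set (PrimeSpectrum S), IsOpen U ∧ (⟨q, inferInstance⟩ : PrimeSpectrum S) ∈ U ∧ DevOn R S p N U := by
  letI : Module R N := Module.compHom N (algebraMap R S)
  haveI : IsScalarTower R S N := IsScalarTower.of_algebraMap_smul fun _ _ => rfl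
  by_cases hann : Module.annihilator S N ≤ q
  · let x := PrimeSpectrum.primesOverOrderIsoFiber R S p ⟨q, inferInstance, inferInstance⟩
    have hsupp : ∃ x ∈ Module.support (p.Fiber S) (FlatCA.fiberMod p S N), x.asIdeal = FlatCA.fiberIdeal p q :=
      ⟨x, (FlatDevBC.mem_support_fiber_iff p x).2 (by rw [OrderIso.symm_apply_apply]; exact hann),
        FlatDevLoc.primesOver_fiberIdeal p q inferInstance⟩
    obtain ⟨R', S', _, _, _, _, _, _, _, _, p', q', _, _, hR, hS, hover, hdev⟩ := exists_hasDevNhd N p q hsupp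
    haveI := hover
    obtain ⟨r, hr, hr'⟩ := FlatEtNhd.exists_shrink_unique hR
    let R₁ := Localization.Away r
    obtain ⟨hp₁0, hp₁1⟩ := FlatDevLoc.isPrime_map_away (T' := R₁) r p' hr
    let p₁ : Ideal R₁ := p'.map (algebraMap R' R₁)
    haveI : p₁.IsPrime := hp₁0
    haveI hp₁ : p₁.LiesOver p' := hp₁1
    have hR₁ : FlatCA.IsEtaleNhd R R₁ p p₁ := isEtaleNhd_trans (p₁ := p') hR (isEtaleNhd_away R₁ r p' p₁)
    obtain ⟨heS, hq', -⟩ := hS
    haveI := heS; haveI := hq'
    have hG : DGood R' p' S S' N := by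
      intro M _ _ _ _ f hf
      obtain ⟨D, -⟩ := (hdev M f hf).hasCompleteDevissageAt
      exact ⟨D⟩
    obtain ⟨S₁, _, _, _, _, _, _, hS₁, hG₁, hm⟩ := dgood_baseChange p p' hR hG R₁ p₁ hR₁
    haveI := hS₁
    obtain ⟨Q₁, hQ₁, hQ₁c, -⟩ := hm q' inferInstance hover
    haveI := hQ₁
    refine ⟨Set.range (PrimeSpectrum.comap (algebraMap S S₁)), ?_,
      ⟨⟨Q₁, hQ₁⟩, PrimeSpectrum.ext (hQ₁c.trans hq'.over.symm)⟩,
      R₁, inferInstance, inferInstance, p₁, inferInstance, hR₁, Fin 1, inferInstance, fun _ => S₁,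
      fun _ => inferInstance, fun _ => inferInstance, fun _ => inferInstance, fun _ => inferInstance,
      fun _ => inferInstance, fun _ => inferInstance, fun _ => ⟨hS₁, hG₁⟩, ?_⟩
    · rw [← Set.image_univ]
      exact PrimeSpectrum.isOpenMap_comap_of_hasGoingDown_of_finitePresentation _ isOpen_univ
    · rintro _ ⟨Q', rfl⟩ hQp
      refine ⟨0, Q'.asIdeal, Q'.isPrime, rfl, ⟨?_⟩⟩
      show p₁ = Q'.asIdeal.comap (algebraMap R₁ S₁)
      let P₁ := Q'.asIdeal.comap (algebraMap R₁ S₁)
      let P := P₁.comap (algebraMap R' R₁)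
      haveI : P₁.IsPrime := Ideal.IsPrime.comap _
      have hP : P.LiesOver p := ⟨by
        show p = ((Q'.asIdeal.comap (algebraMap R₁ S₁)).comap (algebraMap R' R₁)).comap (algebraMap R R')
        rw [Ideal.comap_comap, ← IsScalarTower.algebraMap_eq, Ideal.comap_comap, ← IsScalarTower.algebraMap_eq,
          IsScalarTower.algebraMap_eq R S S₁, ← Ideal.comap_comap]
        exact hQp.over⟩
      have hPp : P = p' := by
        by_contra hne
        refine Ideal.IsPrime.ne_top ‹P₁.IsPrime› (Ideal.eq_top_of_isUnit_mem _ ?_ (IsLocalization.Away.algebraMap_isUnit r))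
        exact hr' P (Ideal.IsPrime.comap _) hP hne
      exact FlatDevLoc.eq_of_comap_away r _ _ (hp₁.over.symm.trans hPp.symm)
  · obtain ⟨d, hd, hdq⟩ := SetLike.not_le_iff_exists.1 hann
    let S' := Localization.Away d
    refine ⟨PrimeSpectrum.basicOpen d, (PrimeSpectrum.basicOpen d).isOpen, hdq, R, inferInstance, inferInstance, p,
      inferInstance, FlatEtNhd.isEtaleNhd_self p, Fin 1, inferInstance, fun _ => S', fun _ => inferInstance,
      fun _ => inferInstance, fun _ => inferInstance, fun _ => inferInstance, fun _ => inferInstance,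
      fun _ => inferInstance, fun _ => ⟨Algebra.Etale.of_isLocalizationAway d, ?_⟩, fun Q hQ hQp => ?_⟩
    · intro M _ _ _ _ f hf
      haveI : Subsingleton M := subsingleton_of_isBaseChange_of_smul_eq_zero hf d
        (IsLocalization.Away.algebraMap_isUnit d) (Module.mem_annihilator.1 hd)
      exact ⟨zeroDev M p⟩
    · obtain ⟨hQ', hQQ⟩ := FlatDevLoc.isPrime_map_away (T' := S') d Q.asIdeal hQ
      refine ⟨0, Q.asIdeal.map (algebraMap S S'), hQ', hQQ.over.symm, ⟨?_⟩⟩
      show p = (Q.asIdeal.map (algebraMap S S')).comap (algebraMap R S')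
      rw [IsScalarTower.algebraMap_eq R S S', ← Ideal.comap_comap, ← Ideal.under_def S, ← hQQ.over]
      exact hQp.over

set_option maxHeartbeats 1600000 in
/-- Dévissage neighbourhoods covering a whole fibre. -/
theorem exists_devOn_fibre [Algebra.FiniteType R S] (N : Type u) [AddCommGroup N] [Module S N] [Module.Finite S N]
    (p : Ideal R) [p.IsPrime] : DevOn R S p N {Q | Q.asIdeal.LiesOver p} := by
  letI : Algebra S (p.Fiber S) := Algebra.TensorProduct.rightAlgebra
  let K : Set (PrimeSpectrum S) := {Q | Q.asIdeal.LiesOver p}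
  have hK : IsCompact K := by
    have : K = Set.range (PrimeSpectrum.comap (algebraMap S (p.Fiber S))) := Set.ext fun Q => by
      constructor
      · intro hQ
        haveI : Q.asIdeal.LiesOver p := hQ
        refine ⟨PrimeSpectrum.primesOverOrderIsoFiber R S p ⟨Q.asIdeal, Q.isPrime, hQ⟩, PrimeSpectrum.ext ?_⟩
        exact congrArg Subtype.val
          ((PrimeSpectrum.primesOverOrderIsoFiber R S p).symm_apply_apply ⟨Q.asIdeal, Q.isPrime, hQ⟩)
      · rintro ⟨x, rfl⟩
        exact ((PrimeSpectrum.primesOverOrderIsoFiber R S p).symm x).2.2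
    rw [this]
    exact isCompact_range (PrimeSpectrum.continuous_comap _)
  refine hK.induction_on (p := fun V => DevOn R S p N V) (devOn_empty p N) (fun V W h hW => ?_)
    (fun V W hV hW => devOn_union hV hW) fun Q hQ => ?_
  · obtain ⟨R', _, _, p', _, hR, ι, _, S', _, _, _, _, _, _, hS, hl⟩ := hW
    exact ⟨R', inferInstance, inferInstance, p', inferInstance, hR, ι, inferInstance, S', inferInstance, inferInstance,
      inferInstance, inferInstance, inferInstance, inferInstance, hS, fun Q hQ => hl Q (h hQ)⟩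
  haveI : Q.asIdeal.LiesOver p := hQ
  obtain ⟨U, hU, hQU, hG⟩ := exists_devOn_nhd N p Q.asIdeal
  exact ⟨U, mem_nhdsWithin_of_mem_nhds (hU.mem_nhds hQU), hG⟩

end Groth.Agent.DevExist
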