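import Groth.Agent.DevExist.Step
import Groth.Agent.DescLib.LocalDim
import Groth.Agent.FlatDevBC.Dim
import Groth.Agent.FlatDevLoc.Basic
import Mathlib.RingTheory.TensorProduct.Quotient

/-!
Local dimensions of supports in fibres through closed subschemes, their invariance under etale maps, and the first
step of a dévissage from an elementary dévissage.
-/

set_option autoImplicit false
set_option backward.isDefEq.respectTransparency false
set_option backward.isDefEq.respectTransparency.types false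
attribute [-instance] CategoryTheory.catToReflQuiver

universe u

open TensorProduct AlgebraicGeometry CategoryTheory

namespace Groth.Agent.DevExist

attribute [local instance] Algebra.TensorProduct.rightAlgebra

theorem localDim_supp_eq {R S N : Type u} [CommRing R] [CommRing S] [Algebra R S] [AddCommGroup N]
    [Module S N] [Module R N] [IsScalarTower R S N] [Module.Finite S N] (p : Ideal R) [p.IsPrime]
    (q : Ideal S) [q.IsPrime] [q.LiesOver p] (I : Ideal S)
    (hI : ∀ Q : PrimeSpectrum S, Q ∈ Module.support S N ↔ I ≤ Q.asIdeal)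
    (z : PrimeSpectrum (S ⧸ I)) (hz : z.asIdeal.comap (Ideal.Quotient.mk I) = q) :
    ∃ (x : PrimeSpectrum (p.Fiber S)) (hx : x ∈ Module.support (p.Fiber S) (FlatCA.fiberMod p S N)),
      x.asIdeal = FlatCA.fiberIdeal p q ∧
      FlatMor.localDim (Module.support (p.Fiber S) (FlatCA.fiberMod p S N)) ⟨x, hx⟩ =
        FlatMor.fibreDimAt (Spec.map (CommRingCat.ofHom (algebraMap R (S ⧸ I)))) z := by
  let F := p.Fiber S
  let k := p.ResidueField
  let ι : S →+* F := (Algebra.TensorProduct.includeRight (R := R) (A := k) (B := S)).toRingHom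
  let C₀ := S ⧸ I
  let eF := PrimeSpectrum.primesOverOrderIsoFiber R S p
  have heF : ∀ x' : PrimeSpectrum F, (eF.symm x').1 = x'.asIdeal.comap ι := fun _ => rfl
  have hsupp : ∀ x' : PrimeSpectrum F, x' ∈ Module.support F (FlatCA.fiberMod p S N) ↔ I.map ι ≤ x'.asIdeal := by
    intro x'
    rw [FlatDevBC.mem_support_fiber_iff, heF, Ideal.map_le_iff_le_comap]
    exact (Module.mem_support_iff_of_finite (p := (⟨x'.asIdeal.comap ι, Ideal.IsPrime.comap _⟩ : PrimeSpectrum S))).symm.trans
      (hI ⟨x'.asIdeal.comap ι, Ideal.IsPrime.comap _⟩)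
  let ψ : F →ₐ[k] p.Fiber C₀ := Algebra.TensorProduct.map (AlgHom.id k k) (Ideal.Quotient.mkₐ R I)
  have hψs : Function.Surjective ψ.toRingHom :=
    Algebra.TensorProduct.map_surjective _ _ Function.surjective_id (Ideal.Quotient.mkₐ_surjective R I)
  have hψk : RingHom.ker ψ.toRingHom = I.map ι := by
    have h := Algebra.TensorProduct.lTensor_ker (R := R) (A := k) (g := Ideal.Quotient.mkₐ R I)
      (Ideal.Quotient.mkₐ_surjective R I)
    rw [show RingHom.ker (Ideal.Quotient.mkₐ R I) = I from Ideal.mk_ker] at h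
    exact h
  have hc := PrimeSpectrum.isClosedEmbedding_comap_of_surjective _ ψ.toRingHom hψs
  have hrange : Set.range (PrimeSpectrum.comap ψ.toRingHom) = Module.support F (FlatCA.fiberMod p S N) := by
    rw [range_comap_of_surjective _ _ hψs, hψk]
    exact Set.ext fun x' => (PrimeSpectrum.mem_zeroLocus _ _).trans (hsupp x').symm
  let h := hc.isEmbedding.toHomeomorph.trans (Homeomorph.setCongr hrange)
  let φ : Spec (CommRingCat.of C₀) ⟶ Spec (CommRingCat.of R) := Spec.map (CommRingCat.ofHom (algebraMap R C₀))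
  have hzp : φ z = (⟨p, inferInstance⟩ : PrimeSpectrum R) := PrimeSpectrum.ext (by
    show z.asIdeal.comap ((Ideal.Quotient.mk I).comp (algebraMap R S)) = p
    rw [← Ideal.comap_comap, hz]
    exact (Ideal.over_def q p).symm)
  let H := (φ.fiberHomeo (⟨p, inferInstance⟩ : PrimeSpectrum R)).trans
    (PrimeSpectrum.preimageHomeomorphFiber R C₀ ⟨p, inferInstance⟩)
  obtain ⟨w, hw⟩ : ∃ w, φ.fiberι (⟨p, inferInstance⟩ : PrimeSpectrum R) w = z := by
    have : z ∈ Set.range (φ.fiberι (⟨p, inferInstance⟩ : PrimeSpectrum R)) := by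
      rw [Scheme.Hom.range_fiberι]; exact hzp
    exact this
  have hHw : (H w).asIdeal.comap (algebraMap C₀ (p.Fiber C₀)) = z.asIdeal := by
    have h3 : ((PrimeSpectrum.preimageHomeomorphFiber R C₀ ⟨p, inferInstance⟩).symm (H w)).1 = z := by
      rw [show H w = PrimeSpectrum.preimageHomeomorphFiber R C₀ ⟨p, inferInstance⟩
        (φ.fiberHomeo (⟨p, inferInstance⟩ : PrimeSpectrum R) w) from rfl,
        Homeomorph.symm_apply_apply, Scheme.Hom.fiberHomeo_apply, hw]
    exact congrArg PrimeSpectrum.asIdeal h3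
  have hx : (h (H w)).1 = eF ⟨q, inferInstance, inferInstance⟩ := by
    rw [← eF.symm_apply_eq]
    apply Subtype.ext
    rw [heF]
    show ((H w).asIdeal.comap ψ.toRingHom).comap ι = q
    rw [← hz, ← hHw, Ideal.comap_comap, Ideal.comap_comap]
    congr 1
  refine ⟨(h (H w)).1, (h (H w)).2, ?_, ?_⟩
  · rw [hx]
    exact FlatDevLoc.primesOver_fiberIdeal p q inferInstance
  · rw [Subtype.coe_eta, ← FlatDevBC.localDim_homeomorph h, ← FlatDevBC.localDim_homeomorph H,
      DescLib.fibreDimAt_eq φ z hzp w hw]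

/-- The local dimension of the support in the fibre is unchanged by elementary etale maps. -/
theorem localDim_supp_etale {R S N R' S' N' : Type u} [CommRing R] [CommRing S] [Algebra R S] [AddCommGroup N]
    [Module S N] [Module R N] [IsScalarTower R S N] [Module.Finite S N] [CommRing R'] [CommRing S']
    [Algebra R R'] [Algebra R' S'] [Algebra R S'] [Algebra S S'] [IsScalarTower R R' S'] [IsScalarTower R S S']
    [AddCommGroup N'] [Module S' N'] [Module R' N'] [IsScalarTower R' S' N'] [Module S N'] [IsScalarTower S S' N']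
    [Algebra.Etale R R'] [Algebra.Etale S S'] (l : N →ₗ[S] N') (hl : IsBaseChange S' l)
    (p : Ideal R) [p.IsPrime] (q : Ideal S) [q.IsPrime] [q.LiesOver p]
    (p' : Ideal R') [p'.IsPrime] [p'.LiesOver p] (q' : Ideal S') [q'.IsPrime] [q'.LiesOver q] [q'.LiesOver p']
    (n : WithBot ℕ∞)
    (h : ∃ (x : PrimeSpectrum (p.Fiber S)) (hx : x ∈ Module.support (p.Fiber S) (FlatCA.fiberMod p S N)),
      x.asIdeal = FlatCA.fiberIdeal p q ∧
      FlatMor.localDim (Module.support (p.Fiber S) (FlatCA.fiberMod p S N)) ⟨x, hx⟩ = n) :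
    ∃ (x : PrimeSpectrum (p'.Fiber S')) (hx : x ∈ Module.support (p'.Fiber S') (FlatCA.fiberMod p' S' N')),
      x.asIdeal = FlatCA.fiberIdeal p' q' ∧
      FlatMor.localDim (Module.support (p'.Fiber S') (FlatCA.fiberMod p' S' N')) ⟨x, hx⟩ = n := by
  haveI : Module.Finite S' N' := Module.Finite.equiv hl.equiv
  let I := Module.annihilator S N
  let I' := I.map (algebraMap S S')
  have hI : ∀ Q : PrimeSpectrum S, Q ∈ Module.support S N ↔ I ≤ Q.asIdeal := fun Q => Module.mem_support_iff_of_finite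
  have hI' : ∀ Q : PrimeSpectrum S', Q ∈ Module.support S' N' ↔ I' ≤ Q.asIdeal := fun Q => by
    rw [Groth.Agent.QCoh.mem_support_baseChange hl Q, hI, Ideal.map_le_iff_le_comap]
    rfl
  obtain ⟨x, hx, hxq, hxn⟩ := h
  let ι : S →+* p.Fiber S := (Algebra.TensorProduct.includeRight (R := R) (A := p.ResidueField) (B := S)).toRingHom
  have hq : x.asIdeal.comap ι = q := by
    rw [hxq, ← FlatDevLoc.primesOver_fiberIdeal p q inferInstance]
    exact congrArg Subtype.val ((PrimeSpectrum.primesOverOrderIsoFiber R S p).symm_apply_apply ⟨q, inferInstance, inferInstance⟩)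
  have hIq : I ≤ q := by
    rw [← hq]
    exact (FlatDevBC.mem_support_fiber_iff p x).1 hx
  have hI'q : I' ≤ q' := Ideal.map_le_iff_le_comap.2 (hIq.trans (Ideal.over_def q' q).le)
  let z : PrimeSpectrum (S ⧸ I) :=
    ⟨q.map (Ideal.Quotient.mk I), Ideal.map_isPrime_of_surjective Ideal.Quotient.mk_surjective (by rwa [Ideal.mk_ker])⟩
  let z' : PrimeSpectrum (S' ⧸ I') :=
    ⟨q'.map (Ideal.Quotient.mk I'), Ideal.map_isPrime_of_surjective Ideal.Quotient.mk_surjective (by rwa [Ideal.mk_ker])⟩
  have hz : z.asIdeal.comap (Ideal.Quotient.mk I) = q := by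
    show (q.map (Ideal.Quotient.mk I)).comap (Ideal.Quotient.mk I) = q
    rw [Ideal.comap_map_of_surjective _ Ideal.Quotient.mk_surjective, sup_eq_left, ← RingHom.ker_eq_comap_bot, Ideal.mk_ker]
    exact hIq
  have hz' : z'.asIdeal.comap (Ideal.Quotient.mk I') = q' := by
    show (q'.map (Ideal.Quotient.mk I')).comap (Ideal.Quotient.mk I') = q'
    rw [Ideal.comap_map_of_surjective _ Ideal.Quotient.mk_surjective, sup_eq_left, ← RingHom.ker_eq_comap_bot, Ideal.mk_ker]
    exact hI'q
  obtain ⟨x₁, hx₁, hx₁q, hx₁n⟩ := localDim_supp_eq p q I hI z hz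
  obtain ⟨x', hx', hx'q, hx'n⟩ := localDim_supp_eq p' q' I' hI' z' hz'
  refine ⟨x', hx', hx'q, ?_⟩
  obtain rfl : x₁ = x := PrimeSpectrum.ext (hx₁q.trans hxq.symm)
  rw [hx'n, ← hxn, hx₁n]
  let κ : S ⧸ I →+* S' ⧸ I' := Ideal.quotientMap I' (algebraMap S S') Ideal.le_comap_map
  let a := Spec.map (CommRingCat.ofHom κ)
  let b := Spec.map (CommRingCat.ofHom (algebraMap R R'))
  haveI : Etale b := HasRingHomProperty.Spec_iff.mpr (RingHom.etale_algebraMap.mpr ‹_›)
  haveI : Etale a := by
    refine HasRingHomProperty.Spec_iff.mpr ?_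
    letI : Algebra (S ⧸ I) (S' ⧸ I') := κ.toAlgebra
    show (algebraMap (S ⧸ I) (S' ⧸ I')).Etale
    rw [RingHom.etale_algebraMap]
    let e := ((Algebra.TensorProduct.quotIdealMapEquivTensorQuot S' I).toRingEquiv.trans
      (Algebra.TensorProduct.comm S S' (S ⧸ I)).toRingEquiv).symm
    exact Algebra.Etale.of_equiv (AlgEquiv.ofRingEquiv (f := e) (fun c => by
      obtain ⟨c, rfl⟩ := Ideal.Quotient.mk_surjective c
      apply e.symm.injective
      rw [RingEquiv.symm_apply_apply]
      show Ideal.Quotient.mk I c ⊗ₜ[S] (1 : S') = Algebra.TensorProduct.comm S S' (S ⧸ I)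
        (Algebra.TensorProduct.quotIdealMapEquivTensorQuot S' I (Ideal.Quotient.mk I' (algebraMap S S' c)))
      rw [Algebra.TensorProduct.quotIdealMapEquivTensorQuot_mk, Algebra.TensorProduct.comm_tmul,
        Algebra.algebraMap_eq_smul_one (A := S'), ← TensorProduct.smul_tmul]
      congr 1
      exact ((Algebra.smul_def _ _).trans (mul_one _)).symm))
  have hcomm : Spec.map (CommRingCat.ofHom (algebraMap R' (S' ⧸ I'))) ≫ b =
      a ≫ Spec.map (CommRingCat.ofHom (algebraMap R (S ⧸ I))) := by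
    rw [← Spec.map_comp, ← Spec.map_comp, ← CommRingCat.ofHom_comp, ← CommRingCat.ofHom_comp]
    congr 2
    refine RingHom.ext fun r => ?_
    show Ideal.Quotient.mk I' (algebraMap R' S' (algebraMap R R' r)) = Ideal.Quotient.mk I' (algebraMap S S' (algebraMap R S r))
    rw [← IsScalarTower.algebraMap_apply R R' S', ← IsScalarTower.algebraMap_apply R S S']
  have hzz : a z' = z := PrimeSpectrum.ext (Ideal.comap_injective_of_surjective _ Ideal.Quotient.mk_surjective (by
    show (z'.asIdeal.comap κ).comap (Ideal.Quotient.mk I) = z.asIdeal.comap (Ideal.Quotient.mk I)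
    rw [Ideal.comap_comap, show κ.comp (Ideal.Quotient.mk I) = (Ideal.Quotient.mk I').comp (algebraMap S S') from rfl,
      ← Ideal.comap_comap, hz', hz]
    exact (Ideal.over_def q' q).symm))
  exact (DescLib.fibreDimAt_eq_of_etale (Spec.map (CommRingCat.ofHom (algebraMap R (S ⧸ I))))
    (Spec.map (CommRingCat.ofHom (algebraMap R' (S' ⧸ I')))) a b hcomm z').symm.trans (congrArg _ hzz)

theorem supportDim_ge_of_localDim {F M : Type u} [CommRing F] [AddCommGroup M] [Module F M] [Module.Finite F M]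
    (x : Module.support F M) : FlatMor.localDim (Module.support F M) x ≤ Module.supportDim F M := by
  rw [← FlatDevLoc.supportDim_eq_topologicalKrullDim]
  exact (iInf_le _ ⟨⊤, trivial⟩).trans Topology.IsInducing.subtypeVal.topologicalKrullDim_le

theorem exists_step {R S : Type u} [CommRing R] [CommRing S] [Algebra R S] (N : Type u) [AddCommGroup N]
    [Module S N] [Module R N] [IsScalarTower R S N] [Module.Finite S N]
    (p : Ideal R) [p.IsPrime] (q : Ideal S) [q.IsPrime] [q.LiesOver p] (n : ℕ)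
    (h : ∃ (x : PrimeSpectrum (p.Fiber S)) (hx : x ∈ Module.support (p.Fiber S) (FlatCA.fiberMod p S N)),
      x.asIdeal = FlatCA.fiberIdeal p q ∧
      FlatMor.localDim (Module.support (p.Fiber S) (FlatCA.fiberMod p S N)) ⟨x, hx⟩ = n)
    (E : FlatCA.ElemDevissage R S N p q n) :
    ∃ σ : Step E.R' E.p' E.S' E.q' E.N',
      ∀ [Module E.R' (σ.M ⧸ LinearMap.range σ.α)] [IsScalarTower E.R' σ.B (σ.M ⧸ LinearMap.range σ.α)],
        Module.supportDim (E.p'.Fiber σ.B) (FlatCA.fiberMod E.p' σ.B (σ.M ⧸ LinearMap.range σ.α)) <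
          (n : WithBot ℕ∞) := by
  haveI := E.etaleR.1
  haveI := E.etaleS.1
  obtain ⟨_, hp'p, -⟩ := E.etaleR
  obtain ⟨_, hq'q, -⟩ := E.etaleS
  haveI := hp'p; haveI := hq'q
  haveI : Module.Finite E.S' E.N' := Module.Finite.equiv E.isBaseChange.equiv
  letI : Module E.R' E.N' := Module.compHom E.N' (algebraMap E.R' E.S')
  haveI : IsScalarTower E.R' E.S' E.N' := IsScalarTower.of_algebraMap_smul fun _ _ => rfl
  obtain ⟨x', hx', -, hx'n⟩ := localDim_supp_etale E.f E.isBaseChange p q E.p' E.q' n h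
  haveI : Module.Finite (E.p'.Fiber E.S') (FlatCA.fiberMod E.p' E.S' E.N') :=
    inferInstanceAs (Module.Finite (E.p'.Fiber E.S') ((E.p'.Fiber E.S') ⊗[E.S'] E.N'))
  have hge : (n : WithBot ℕ∞) ≤ Module.supportDim (E.p'.Fiber E.S') (FlatCA.fiberMod E.p' E.S' E.N') :=
    hx'n ▸ supportDim_ge_of_localDim ⟨x', hx'⟩
  haveI := E.finiteDC
  haveI := E.finiteG
  haveI : Module.Finite E.D E.G := Module.Finite.trans E.C E.G
  haveI : Algebra.IsIntegral E.D E.C := Algebra.IsIntegral.of_finite E.D E.C
  haveI := smooth_of_smoothRelDim n E.smooth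
  have hirr : FlatCA.GeomIrredFibres E.R' E.D :=
    haveI := E.geomInt; (inferInstance : GeometricallyIrreducible _)
  haveI := FlatDevPad.isPrime_map E.R' E.D hirr E.p'
  let P := E.p'.map (algebraMap E.R' E.D)
  haveI : P.LiesOver E.p' := ⟨le_antisymm Ideal.le_comap_map fun r hr => by
    rw [E.yOver.over]
    exact Ideal.map_le_iff_le_comap.2 E.yOver.over.le hr⟩
  haveI : Nontrivial (E.p'.Fiber E.D) := PrimeSpectrum.nonempty_iff_nontrivial.1
    ⟨PrimeSpectrum.primesOverOrderIsoFiber E.R' E.D E.p' ⟨E.y, inferInstance, inferInstance⟩⟩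
  have hdimD := FlatDevDim.ringKrullDim_fiber E.R' E.D E.p' n E.smooth
  have hsurj := E.surjC
  have hann : Module.annihilator E.S' E.N' = Module.annihilator E.S' E.G := E.iso.annihilator_eq
  have hker : RingHom.ker (algebraMap E.S' E.C) ≤ Module.annihilator E.S' E.N' := fun s hs => by
    rw [hann, Module.mem_annihilator]
    intro g
    rw [← IsScalarTower.algebraMap_smul E.C s g, RingHom.mem_ker.1 hs, zero_smul]
  let Qf : Ideal E.S' → Ideal E.C := fun t => t.map (algebraMap E.S' E.C)
  have hQp : ∀ t : Ideal E.S', t.IsPrime → Module.annihilator E.S' E.N' ≤ t → (Qf t).IsPrime := fun t ht ha =>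
    Ideal.map_isPrime_of_surjective hsurj (hker.trans ha)
  have hQc : ∀ t : Ideal E.S', Module.annihilator E.S' E.N' ≤ t → (Qf t).comap (algebraMap E.S' E.C) = t := fun t ha => by
    show (t.map (algebraMap E.S' E.C)).comap (algebraMap E.S' E.C) = t
    rw [Ideal.comap_map_of_surjective _ hsurj]
    exact sup_eq_left.2 ((le_of_eq rfl).trans (hker.trans ha))
  have hPG : (⟨P, inferInstance⟩ : PrimeSpectrum E.D) ∈ Module.support E.D E.G := by
    by_contra hnot
    let φ : ∀ t : Ideal E.S', t.IsPrime → Module.annihilator E.S' E.N' ≤ t → Ideal E.D := fun t _ _ =>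
      (Qf t).comap (algebraMap E.D E.C)
    refine (not_lt.2 hge) (FlatDevDim.supportDim_fiber_lt E.p' n hdimD φ (fun t ht ha => ?_) (fun t ht ha => ?_)
      (fun t₁ h₁ a₁ t₂ h₂ a₂ hlt => ?_) ?_)
    · haveI := hQp t ht ha
      exact Ideal.IsPrime.comap _
    · show ((Qf t).comap (algebraMap E.D E.C)).comap (algebraMap E.R' E.D) = _
      rw [Ideal.comap_comap, ← IsScalarTower.algebraMap_eq E.R' E.D E.C, IsScalarTower.algebraMap_eq E.R' E.S' E.C,
        ← Ideal.comap_comap, hQc t ha]
    · haveI := hQp t₁ h₁ a₁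
      exact Ideal.IsIntegral.comap_lt_comap (I := Qf t₁) (J := Qf t₂)
        (lt_of_le_of_ne (Ideal.map_mono hlt.le) fun he => hlt.ne (by rw [← hQc t₁ a₁, he, hQc t₂ a₂]))
    · intro t ht ha he
      apply hnot
      rw [Module.mem_support_iff_of_finite]
      intro d hd
      show d ∈ P
      rw [show P = φ t ht ha from he.symm]
      obtain ⟨s, hs⟩ := hsurj (algebraMap E.D E.C d)
      show algebraMap E.D E.C d ∈ Qf t
      rw [← hs]
      refine Ideal.mem_map_of_mem _ (ha ?_)
      rw [hann, Module.mem_annihilator]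
      intro g
      rw [← IsScalarTower.algebraMap_smul E.C s g, hs, IsScalarTower.algebraMap_smul]
      exact Module.mem_annihilator.1 hd g
  obtain ⟨r, α, hr, hα⟩ := FlatDevDim.exists_bijective_baseChange P hPG
  refine ⟨{
    A := E.C, B := E.D, M := E.G, r := r, r_pos := hr, d := n, α := α
    surj := hsurj, fp := E.fpC, finiteBA := E.finiteDC, relDim := E.smooth, geomIrred := hirr
    finiteM := E.finiteG, isoN := E.iso, y := E.y, z := E.z
    pureTrans := E.pureTrans, uniq := E.uniq, q0 := E.zOver.over.symm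
    fibreIso := fun {_} => hα }, ?_⟩
  intro _ _
  refine FlatDevDim.supportDim_fiber_lt E.p' n hdimD (S := E.D) (N := E.G ⧸ LinearMap.range α)
    (fun t _ _ => t) (fun _ ht _ => ht) (fun _ _ _ => rfl) (fun _ _ _ _ _ _ hlt => hlt) ?_
  intro t ht ha he
  apply FlatDevDim.notMem_support_coker P α hα.2
  rw [Module.mem_support_iff_of_finite]
  exact ha.trans (le_of_eq he)

end Groth.Agent.DevExist
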