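import Groth.Agent.DevExist.Thicken
import Groth.Agent.DevExist.Coord
import Groth.Agent.FlatDevBC.Fiber
import Groth.Agent.RGLib.Covering

/-! Existence of elementary dévissages. -/

set_option autoImplicit false
set_option backward.isDefEq.respectTransparency false
set_option backward.isDefEq.respectTransparency.types false
attribute [-instance] CategoryTheory.catToReflQuiver

universe u

open TensorProduct

namespace Groth.Agent.DevExist

attribute [local instance] Algebra.TensorProduct.rightAlgebra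

set_option maxHeartbeats 1600000 in
theorem exists_elemDevissage {R S : Type u} [CommRing R] [CommRing S] [Algebra R S] [Algebra.FiniteType R S]
    (N : Type u) [AddCommGroup N] [Module S N] [Module R N] [IsScalarTower R S N] [Module.Finite S N]
    (p : Ideal R) [p.IsPrime] (q : Ideal S) [q.IsPrime] [q.LiesOver p] (n : ℕ)
    (x : PrimeSpectrum (p.Fiber S)) (hxq : x.asIdeal = FlatCA.fiberIdeal p q)
    (hx : x ∈ Module.support (p.Fiber S) (FlatCA.fiberMod p S N))
    (hn : FlatMor.localDim (Module.support (p.Fiber S) (FlatCA.fiberMod p S N)) ⟨x, hx⟩ = n) :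
    Nonempty (FlatCA.ElemDevissage R S N p q n) := by
  classical
  let F := p.Fiber S
  let k := p.ResidueField
  let ι : S →+* F := (Algebra.TensorProduct.includeRight (R := R) (A := k) (B := S)).toRingHom
  haveI : IsNoetherianRing F := RGLib.isNoetherianRing_fiber p
  let eF := PrimeSpectrum.primesOverOrderIsoFiber R S p
  have heF : ∀ x' : PrimeSpectrum F, (eF.symm x').1 = x'.asIdeal.comap ι := fun _ => rfl
  have hxq' : x.asIdeal.comap ι = q := by
    refine le_antisymm ?_ (Ideal.map_le_iff_le_comap.1 hxq.ge)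
    have h1 : FlatCA.fiberIdeal p q ≤ (eF ⟨q, inferInstance, inferInstance⟩).asIdeal := by
      refine Ideal.map_le_iff_le_comap.2 ?_
      show q ≤ (eF ⟨q, inferInstance, inferInstance⟩).asIdeal.comap ι
      rw [← heF, eF.symm_apply_apply]
    refine le_trans (Ideal.comap_mono (hxq.le.trans h1)) (le_of_eq ?_)
    rw [← heF, eF.symm_apply_apply]
  obtain ⟨t, ht, hspan⟩ := (Submodule.fg_span_iff_fg_span_finset_subset (R := F)
    (ι '' (Module.annihilator S N : Set S))).1 (IsNoetherian.noetherian _)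
  obtain ⟨t₀, ht₀, rfl⟩ := Finset.subset_set_image_iff.1 ht
  let J : Ideal S := Ideal.span (t₀ : Set S)
  have hJA : J ≤ Module.annihilator S N := Ideal.span_le.2 ht₀
  have hJ : ∀ j ∈ J, ∀ m : N, j • m = 0 := fun j hj => Module.mem_annihilator.1 (hJA hj)
  have hmap : (Module.annihilator S N).map ι = J.map ι := by
    refine le_antisymm ?_ (Ideal.map_mono hJA)
    show Ideal.span (ι '' _) ≤ _
    rw [Ideal.map_span]
    exact le_of_eq (hspan.trans (by rw [Finset.coe_image]))
  have hsupp : ∀ x' : PrimeSpectrum F, x' ∈ Module.support F (FlatCA.fiberMod p S N) ↔ J.map ι ≤ x'.asIdeal := by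
    intro x'
    rw [Groth.Agent.FlatDevBC.mem_support_fiber_iff, ← hmap, heF, Ideal.map_le_iff_le_comap]
  let C₀ := S ⧸ J
  let ψ : F →ₐ[k] p.Fiber C₀ := Algebra.TensorProduct.map (AlgHom.id k k) (Ideal.Quotient.mkₐ R J)
  have hψs : Function.Surjective ψ.toRingHom :=
    Algebra.TensorProduct.map_surjective _ _ Function.surjective_id (Ideal.Quotient.mkₐ_surjective R J)
  have hψk : RingHom.ker ψ.toRingHom = J.map ι := by
    have h := Algebra.TensorProduct.lTensor_ker (R := R) (A := k) (g := Ideal.Quotient.mkₐ R J)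
      (Ideal.Quotient.mkₐ_surjective R J)
    rw [show RingHom.ker (Ideal.Quotient.mkₐ R J) = J from Ideal.mk_ker] at h
    exact h
  have hc := PrimeSpectrum.isClosedEmbedding_comap_of_surjective _ ψ.toRingHom hψs
  have hrange : Set.range (PrimeSpectrum.comap ψ.toRingHom) = Module.support F (FlatCA.fiberMod p S N) := by
    rw [range_comap_of_surjective _ _ hψs, hψk]
    exact Set.ext fun x' => (PrimeSpectrum.mem_zeroLocus _ _).trans (hsupp x').symm
  let h := hc.isEmbedding.toHomeomorph.trans (Homeomorph.setCongr hrange)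
  obtain ⟨z₀₀, hz₀₀⟩ : ∃ z₀₀, h z₀₀ = ⟨x, hx⟩ := ⟨h.symm ⟨x, hx⟩, h.apply_symm_apply _⟩
  have hdim : FlatMor.localDim (PrimeSpectrum (p.Fiber C₀)) z₀₀ = n := by
    rw [Groth.Agent.FlatDevBC.localDim_homeomorph h z₀₀, hz₀₀]
    exact hn
  have hzx : z₀₀.asIdeal.comap ψ.toRingHom = x.asIdeal :=
    congrArg (fun w => PrimeSpectrum.asIdeal w.1) hz₀₀
  let z₀ : Ideal C₀ := z₀₀.asIdeal.comap (algebraMap C₀ (p.Fiber C₀))
  haveI : z₀.IsPrime := Ideal.IsPrime.comap _
  have hz₀ : z₀.comap (Ideal.Quotient.mk J) = q := by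
    rw [← hxq', ← hzx, Ideal.comap_comap, Ideal.comap_comap]
    congr 1
  haveI : z₀.LiesOver p := ⟨by
    show p = z₀.comap ((Ideal.Quotient.mk J).comp (algebraMap R S))
    rw [← Ideal.comap_comap, hz₀]
    exact Ideal.over_def q p⟩
  haveI : Algebra.FiniteType R C₀ :=
    Algebra.FiniteType.of_surjective (Ideal.Quotient.mkₐ R J) (Ideal.Quotient.mkₐ_surjective R J)
  obtain ⟨φ, hqf, hy₀, hpure⟩ := exists_coordinates p z₀ z₀₀ rfl n hdim
  haveI := hy₀
  exact nonempty_elemDevissage_of_coordinates N p q n J ⟨t₀, rfl⟩ hJ z₀ hz₀ φ hqf hpure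

end Groth.Agent.DevExist
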