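import Groth.Agent.DevExist.BaseChange
import Groth.Agent.EtFound.LiftEtale
import Mathlib.RingTheory.Etale.Basic

/-!
Lifting an etale algebra over a closed subscheme to the ambient ring, over an etale base, and generic points of
fibres along etale maps.
-/

set_option autoImplicit false
set_option backward.isDefEq.respectTransparency false
set_option backward.isDefEq.respectTransparency.types false
attribute [-instance] CategoryTheory.catToReflQuiver

universe u

open TensorProduct

namespace Groth.Agent.DevExist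

theorem etale_rightAlgebra (R A B : Type u) [CommRing R] [CommRing A] [CommRing B] [Algebra R A] [Algebra R B]
    [Algebra.Etale R A] :
    letI := Algebra.TensorProduct.rightAlgebra (R := R) (A := A) (B := B)
    Algebra.Etale B (A ⊗[R] B) :=
  letI := Algebra.TensorProduct.rightAlgebra (R := R) (A := A) (B := B)
  Algebra.Etale.of_equiv (AlgEquiv.ofRingEquiv (f := (Algebra.TensorProduct.comm R B A).toRingEquiv)
    (fun a => Algebra.TensorProduct.comm_tmul (R := R) (A := B) (B := A) a 1))

theorem isPushout_trans (R S T R' S' T' : Type u) [CommRing R] [CommRing S] [CommRing T] [CommRing R'] [CommRing S']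
    [CommRing T'] [Algebra R S] [Algebra S T] [Algebra R T] [IsScalarTower R S T] [Algebra R R'] [Algebra R S']
    [Algebra S S'] [Algebra R' S'] [IsScalarTower R S S'] [IsScalarTower R R' S'] [Algebra.IsPushout R S R' S']
    [Algebra R T'] [Algebra S T'] [Algebra T T'] [Algebra R' T'] [Algebra S' T'] [IsScalarTower R T T']
    [IsScalarTower S T T'] [IsScalarTower S S' T'] [IsScalarTower R R' T'] [IsScalarTower R' S' T']
    [Algebra.IsPushout S T S' T'] : Algebra.IsPushout R T R' T' := by
  haveI : IsScalarTower R S' T' := IsScalarTower.of_algebraMap_eq fun r => by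
    rw [IsScalarTower.algebraMap_apply R T T', IsScalarTower.algebraMap_apply R S T,
      ← IsScalarTower.algebraMap_apply S T T', IsScalarTower.algebraMap_apply S S' T',
      ← IsScalarTower.algebraMap_apply R S S']
  exact (Algebra.IsPushout.comp_iff R S R' S').2 ‹_›

attribute [local instance] Algebra.TensorProduct.rightAlgebra

set_option maxHeartbeats 1600000 in
/-- An etale algebra over a quotient lifts, near a prime, to an etale algebra over the ambient ring and a given
etale algebra over the base. -/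
theorem exists_lift_away (R R₂ S A C : Type u) [CommRing R] [CommRing R₂] [CommRing S] [CommRing A] [CommRing C]
    [Algebra R R₂] [Algebra.Etale R R₂] [Algebra R S] [Algebra S A] [Algebra R A] [IsScalarTower R S A]
    (hsurj : Function.Surjective (algebraMap S A)) [Algebra A C] [Algebra.Etale A C] [Algebra S C]
    [IsScalarTower S A C] [Algebra R C] [IsScalarTower R A C] [Algebra R₂ C] [IsScalarTower R R₂ C]
    (z : Ideal C) [z.IsPrime] :
    ∃ c ∉ z, ∃ (S₀ : Type u) (_ : CommRing S₀) (_ : Algebra S S₀) (_ : Algebra R₂ S₀) (_ : Algebra R S₀)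
      (_ : IsScalarTower R S S₀) (_ : IsScalarTower R R₂ S₀) (_ : Algebra S₀ (Localization.Away c))
      (_ : IsScalarTower S S₀ (Localization.Away c)) (_ : IsScalarTower R₂ S₀ (Localization.Away c)),
      Algebra.Etale S S₀ ∧ Algebra.IsPushout S S₀ A (Localization.Away c) := by
  let Sa := R₂ ⊗[R] S
  let Ca := R₂ ⊗[R] A
  haveI : Algebra.Etale A Ca := etale_rightAlgebra R R₂ A
  letI : Algebra Sa Ca :=
    (Algebra.TensorProduct.map (AlgHom.id R₂ R₂) (IsScalarTower.toAlgHom R S A)).toRingHom.toAlgebra
  haveI : IsScalarTower R₂ Sa Ca := IsScalarTower.of_algebraMap_eq fun a =>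
    ((Algebra.TensorProduct.map (AlgHom.id R₂ R₂) (IsScalarTower.toAlgHom R S A)).commutes a).symm
  letI : Algebra S Ca := ((algebraMap A Ca).comp (algebraMap S A)).toAlgebra
  haveI : IsScalarTower S A Ca := IsScalarTower.of_algebraMap_eq' rfl
  haveI : IsScalarTower S Sa Ca := IsScalarTower.of_algebraMap_eq fun s => by
    show (1 : R₂) ⊗ₜ[R] algebraMap S A s =
      Algebra.TensorProduct.map (AlgHom.id R₂ R₂) (IsScalarTower.toAlgHom R S A) ((1 : R₂) ⊗ₜ[R] s)
    exact ((Algebra.TensorProduct.map_tmul _ _ _ _).trans (by rw [map_one]; rfl)).symm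
  haveI : Algebra.IsPushout S Sa A Ca := by
    haveI : Algebra.IsPushout R S R₂ Sa := Algebra.IsPushout.symm inferInstance
    haveI : Algebra.IsPushout R A R₂ Ca := Algebra.IsPushout.symm inferInstance
    haveI : Algebra.IsPushout S A Sa Ca := FlatClosed.isPushout_cancel R S A R₂ Sa Ca
    exact Algebra.IsPushout.symm inferInstance
  have hSa : Function.Surjective (algebraMap Sa Ca) :=
    Algebra.TensorProduct.map_surjective _ _ Function.surjective_id hsurj
  let πA : Ca →ₐ[R₂] C := Algebra.TensorProduct.lift (Algebra.ofId R₂ C) (IsScalarTower.toAlgHom R A C)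
    fun _ _ => Commute.all _ _
  letI : Algebra Ca C := πA.toRingHom.toAlgebra
  haveI : IsScalarTower R₂ Ca C := IsScalarTower.of_algebraMap_eq fun a => (πA.commutes a).symm
  haveI : IsScalarTower A Ca C := IsScalarTower.of_algebraMap_eq fun a => by
    show algebraMap A C a = Algebra.TensorProduct.lift _ _ _ ((1 : R₂) ⊗ₜ[R] a)
    rw [Algebra.TensorProduct.lift_tmul, map_one, one_mul]
    rfl
  haveI : Algebra.Etale Ca C := Algebra.Etale.of_restrictScalars A Ca C
  obtain ⟨c, hcz, hstd⟩ := Algebra.IsEtaleAt.exists_isStandardEtale (R := Ca) z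
  haveI := hstd
  let Cc := Localization.Away c
  obtain ⟨Pp, ⟨eq₀⟩⟩ := EtFound.exists_standardEtale_lift (A := Sa) (T := Ca) (C := Cc) hSa
  let S₀ := Pp.Ring
  letI : Algebra S₀ Cc := (eq₀.toRingEquiv.toRingHom.comp
    (Algebra.TensorProduct.includeRight (R := Sa) (A := Ca) (B := S₀)).toRingHom).toAlgebra
  letI : Algebra Sa Cc := ((algebraMap Ca Cc).comp (algebraMap Sa Ca)).toAlgebra
  haveI : IsScalarTower Sa Ca Cc := IsScalarTower.of_algebraMap_eq' rfl
  haveI : IsScalarTower Sa S₀ Cc := IsScalarTower.of_algebraMap_eq fun s => by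
    show algebraMap Ca Cc (algebraMap Sa Ca s) = eq₀ ((1 : Ca) ⊗ₜ[Sa] algebraMap Sa S₀ s)
    rw [← eq₀.commutes, Algebra.TensorProduct.algebraMap_apply, Algebra.algebraMap_eq_smul_one (A := S₀),
      ← TensorProduct.smul_tmul, ← Algebra.algebraMap_eq_smul_one]
    rfl
  haveI : Algebra.IsPushout Sa S₀ Ca Cc := by
    haveI : Algebra.IsPushout Sa Ca S₀ Cc := by
      haveI : Algebra.IsPushout Sa Ca S₀ (Ca ⊗[Sa] S₀) := inferInstance
      exact Algebra.IsPushout.of_equiv (h := this) eq₀ rfl
    exact Algebra.IsPushout.symm inferInstance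
  letI : Algebra S S₀ := ((algebraMap Sa S₀).comp (algebraMap S Sa)).toAlgebra
  haveI : IsScalarTower S Sa S₀ := IsScalarTower.of_algebraMap_eq' rfl
  letI : Algebra R₂ S₀ := ((algebraMap Sa S₀).comp (algebraMap R₂ Sa)).toAlgebra
  haveI : IsScalarTower R₂ Sa S₀ := IsScalarTower.of_algebraMap_eq' rfl
  letI : Algebra R S₀ := ((algebraMap R₂ S₀).comp (algebraMap R R₂)).toAlgebra
  haveI : IsScalarTower R R₂ S₀ := IsScalarTower.of_algebraMap_eq' rfl
  haveI : IsScalarTower R S S₀ := IsScalarTower.of_algebraMap_eq fun r => by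
    show algebraMap Sa S₀ (algebraMap R₂ Sa (algebraMap R R₂ r)) = algebraMap Sa S₀ (algebraMap S Sa (algebraMap R S r))
    rw [← IsScalarTower.algebraMap_apply R R₂ Sa, ← IsScalarTower.algebraMap_apply R S Sa]
  haveI : IsScalarTower S Sa Cc := IsScalarTower.of_algebraMap_eq fun s => by
    rw [IsScalarTower.algebraMap_apply Sa Ca Cc, ← IsScalarTower.algebraMap_apply S Sa Ca,
      IsScalarTower.algebraMap_apply S A Ca, IsScalarTower.algebraMap_apply S A Cc,
      IsScalarTower.algebraMap_apply A C Cc, IsScalarTower.algebraMap_apply Ca C Cc,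
      ← IsScalarTower.algebraMap_apply A Ca C]
  haveI : IsScalarTower S S₀ Cc := IsScalarTower.of_algebraMap_eq fun s => by
    rw [IsScalarTower.algebraMap_apply S Sa S₀, ← IsScalarTower.algebraMap_apply Sa S₀ Cc,
      ← IsScalarTower.algebraMap_apply S Sa Cc]
  haveI : IsScalarTower A Ca Cc := IsScalarTower.of_algebraMap_eq fun a => by
    rw [IsScalarTower.algebraMap_apply A C Cc, IsScalarTower.algebraMap_apply A Ca C,
      ← IsScalarTower.algebraMap_apply Ca C Cc]
  haveI : IsScalarTower R₂ S₀ Cc := IsScalarTower.of_algebraMap_eq fun a => by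
    rw [IsScalarTower.algebraMap_apply R₂ Sa S₀, ← IsScalarTower.algebraMap_apply Sa S₀ Cc,
      IsScalarTower.algebraMap_apply Sa Ca Cc, ← IsScalarTower.algebraMap_apply R₂ Sa Ca,
      IsScalarTower.algebraMap_apply R₂ C Cc, IsScalarTower.algebraMap_apply Ca C Cc,
      ← IsScalarTower.algebraMap_apply R₂ Ca C]
  haveI : Algebra.IsPushout S S₀ A Cc := isPushout_trans S Sa S₀ A Ca Cc
  haveI : Algebra.Etale S Sa := etale_rightAlgebra R R₂ S
  haveI : Algebra.Etale S S₀ := Algebra.Etale.comp S Sa S₀
  exact ⟨c, hcz, S₀, inferInstance, inferInstance, inferInstance, inferInstance, inferInstance, inferInstance,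
    inferInstance, inferInstance, inferInstance, inferInstance, inferInstance⟩

/-- Along etale maps of smooth algebras with geometrically irreducible fibres, the generic points of fibres
correspond. -/
theorem map_liesOver_of_etale (R R' B B' : Type u) [CommRing R] [CommRing R'] [CommRing B] [CommRing B']
    [Algebra R R'] [Algebra.Etale R R'] [Algebra R B] [Algebra.Smooth R B] [Algebra R' B'] [Algebra.Smooth R' B']
    [Algebra B B'] [Algebra.Etale B B'] [Algebra R B'] [IsScalarTower R R' B'] [IsScalarTower R B B']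
    (hB : FlatCA.GeomIrredFibres R B) (hB' : FlatCA.GeomIrredFibres R' B')
    (p : Ideal R) [p.IsPrime] (p' : Ideal R') [p'.IsPrime] [p'.LiesOver p] :
    (p'.map (algebraMap R' B')).LiesOver (p.map (algebraMap R B)) := by
  let B₄ := R' ⊗[R] B
  let π : B₄ →ₐ[R'] B' := Algebra.TensorProduct.lift (Algebra.ofId R' B') (IsScalarTower.toAlgHom R B B')
    fun _ _ => Commute.all _ _
  letI : Algebra B₄ B' := π.toRingHom.toAlgebra
  haveI : IsScalarTower R' B₄ B' := IsScalarTower.of_algebraMap_eq fun a => (π.commutes a).symm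
  haveI : IsScalarTower B B₄ B' := IsScalarTower.of_algebraMap_eq fun b => by
    show algebraMap B B' b = Algebra.TensorProduct.lift _ _ _ ((1 : R') ⊗ₜ[R] b)
    rw [Algebra.TensorProduct.lift_tmul, map_one, one_mul]
    rfl
  haveI : Algebra.Etale B B₄ := etale_rightAlgebra R R' B
  haveI : Algebra.Etale B₄ B' := Algebra.Etale.of_restrictScalars B B₄ B'
  let P := p'.map (algebraMap R' B₄)
  let P' := p'.map (algebraMap R' B')
  haveI : P.IsPrime := FlatDevPad.isPrime_map R' B₄ (geomIrred_baseChange hB) p'
  haveI : P'.IsPrime := FlatDevPad.isPrime_map R' B' hB' p'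
  haveI : P.LiesOver (p.map (algebraMap R B)) := FlatDevPad.map_liesOver R R' B B₄ p p'
  have hle : P ≤ P'.comap (algebraMap B₄ B') := by
    rw [Ideal.map_le_iff_le_comap, Ideal.comap_comap, ← IsScalarTower.algebraMap_eq]
    exact Ideal.le_comap_map
  haveI : P'.LiesOver (P'.comap (algebraMap B₄ B')) := ⟨rfl⟩
  obtain ⟨P'', hP''le, hP''p, hP''o⟩ := Ideal.exists_ideal_le_liesOver_of_le (R := B₄) (S := B')
    (p := P) (q := P'.comap (algebraMap B₄ B')) P' hle
  have heq : P'' = P' := le_antisymm hP''le (Ideal.map_le_iff_le_comap.2 fun x hx => by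
    show algebraMap R' B' x ∈ P''
    rw [IsScalarTower.algebraMap_apply R' B₄ B']
    exact hP''o.over.le (Ideal.mem_map_of_mem _ hx))
  haveI : P'.LiesOver P := heq ▸ hP''o
  exact Ideal.LiesOver.trans P' P (p.map (algebraMap R B))

end Groth.Agent.DevExist
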