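import Groth.Prelude.Def_FlatCA
import Mathlib.RingTheory.AlgebraicIndependent.Adjoin
import Mathlib.RingTheory.Polynomial.UniqueFactorization
import Mathlib.RingTheory.Polynomial.RationalRoot
import Mathlib.Algebra.MvPolynomial.Nilpotent
import Mathlib.RingTheory.IntegralClosure.IsIntegralClosure.Basic

/-! A purely transcendental extension contains no new algebraic elements. -/

universe u

set_option autoImplicit false

namespace Groth.Agent.DevExist

open MvPolynomial

theorem mem_range_of_isIntegral_fractionRing {k : Type u} [Field k] {ι : Type u}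
    (a : FractionRing (MvPolynomial ι k)) (ha : IsIntegral k a) :
    a ∈ (algebraMap k (FractionRing (MvPolynomial ι k))).range := by
  classical
  obtain ⟨P, rfl⟩ := IsIntegrallyClosed.isIntegral_iff.mp (ha.tower_top (A := MvPolynomial ι k))
  have hP : IsIntegral k P :=
    (isIntegral_algHom_iff (IsScalarTower.toAlgHom k _ (FractionRing (MvPolynomial ι k)))
      (IsFractionRing.injective (MvPolynomial ι k) _)).mp ha
  by_cases h : P = 0
  · exact ⟨0, by simp [h]⟩
  · obtain ⟨c, -, rfl⟩ := isUnit_iff_eq_C_of_isReduced.mp (hP.isUnit h)
    exact ⟨c, IsScalarTower.algebraMap_apply k (MvPolynomial ι k) _ c⟩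

/-- An element of a purely transcendental extension which is algebraic over the base lies in the base. -/
theorem mem_range_of_isIntegral {k K : Type u} [Field k] [Field K] [Algebra k K] {ι : Type u} (x : ι → K)
    (hx : AlgebraicIndependent k x) (htop : IntermediateField.adjoin k (Set.range x) = ⊤)
    (a : K) (ha : IsIntegral k a) : a ∈ (algebraMap k K).range := by
  let e := hx.aevalEquivField.trans ((IntermediateField.equivOfEq htop).trans IntermediateField.topEquiv)
  obtain ⟨c, hc⟩ := mem_range_of_isIntegral_fractionRing (e.symm a) (ha.map e.symm.toAlgHom)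
  exact ⟨c, by rw [← e.apply_symm_apply a, ← hc, AlgEquiv.commutes]⟩

end Groth.Agent.DevExist
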