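import Groth.Agent.DevExist.Finish
import Groth.Agent.EtFound.LiftEtale
import Groth.Agent.DevEtale.Loci
import Mathlib.RingTheory.Etale.QuasiFinite
import Mathlib.LinearAlgebra.TensorProduct.Quotient

/-!
A quasi-finite map from affine space to a closed subscheme gives, etale locally, a finite map from a smooth
algebra to a closed subscheme of an etale neighbourhood.
-/

set_option autoImplicit false
set_option backward.isDefEq.respectTransparency false
set_option backward.isDefEq.respectTransparency.types false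
attribute [-instance] CategoryTheory.catToReflQuiver

universe u

open TensorProduct

namespace Groth.Agent.DevExist

/-- The residue field map along `f` is bijective. -/
def ResBij {A B : Type u} [CommRing A] [CommRing B] (f : A →+* B) (a : Ideal A) (b : Ideal B) [a.IsPrime]
    [b.IsPrime] : Prop :=
  ∃ h : a = b.comap f, Function.Bijective (Ideal.ResidueField.map a b f h)

theorem resBij_comp_apply {A B C : Type u} [CommRing A] [CommRing B] [CommRing C] (f : A →+* B) (g : B →+* C)
    (a : Ideal A) (b : Ideal B) (c : Ideal C) [a.IsPrime] [b.IsPrime] [c.IsPrime] (hf : a = b.comap f)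
    (hg : b = c.comap g) (h : a = c.comap (g.comp f)) :
    ⇑(Ideal.ResidueField.map a c (g.comp f) h) =
      ⇑(Ideal.ResidueField.map b c g hg) ∘ ⇑(Ideal.ResidueField.map a b f hf) := by
  suffices Ideal.ResidueField.map a c (g.comp f) h =
      (Ideal.ResidueField.map b c g hg).comp (Ideal.ResidueField.map a b f hf) by rw [this]; rfl
  apply IsLocalization.ringHom_ext (nonZeroDivisors (A ⧸ a))
  refine Ideal.Quotient.ringHom_ext (RingHom.ext fun x => ?_)
  simp only [RingHom.coe_comp, Function.comp_apply, Ideal.algebraMap_quotient_residueField_mk,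
    Ideal.ResidueField.map_algebraMap]

theorem ResBij.comp {A B C : Type u} [CommRing A] [CommRing B] [CommRing C] {f : A →+* B} {g : B →+* C}
    {a : Ideal A} {b : Ideal B} {c : Ideal C} [a.IsPrime] [b.IsPrime] [c.IsPrime] (hf : ResBij f a b)
    (hg : ResBij g b c) : ResBij (g.comp f) a c := by
  obtain ⟨e₁, b₁⟩ := hf
  obtain ⟨e₂, b₂⟩ := hg
  have e : a = c.comap (g.comp f) := by rw [← Ideal.comap_comap, ← e₂, ← e₁]
  exact ⟨e, by rw [resBij_comp_apply f g a b c e₁ e₂ e]; exact b₂.comp b₁⟩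

theorem ResBij.of_comp {A B C : Type u} [CommRing A] [CommRing B] [CommRing C] {f : A →+* B} {g : B →+* C}
    {a : Ideal A} {b : Ideal B} {c : Ideal C} [a.IsPrime] [b.IsPrime] [c.IsPrime] (h : ResBij (g.comp f) a c)
    (hg : ResBij g b c) : ResBij f a b := by
  obtain ⟨e, b₁⟩ := h
  obtain ⟨e₂, b₂⟩ := hg
  have e₁ : a = b.comap f := by rw [e₂, Ideal.comap_comap, ← e]
  refine ⟨e₁, ?_⟩
  rw [resBij_comp_apply f g a b c e₁ e₂ e] at b₁
  exact (Function.Bijective.of_comp_iff' b₂ _).mp b₁

theorem resBij_of_surjectiveOnStalks {A B : Type u} [CommRing A] [CommRing B] {f : A →+* B}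
    (hf : f.SurjectiveOnStalks) (a : Ideal A) (b : Ideal B) [a.IsPrime] [b.IsPrime] (h : a = b.comap f) :
    ResBij f a b :=
  ⟨h, hf.residueFieldMap_bijective a b h⟩

theorem isEtaleNhd_of_resBij {A B : Type u} [CommRing A] [CommRing B] [Algebra A B] [Algebra.Etale A B]
    {a : Ideal A} {b : Ideal B} [a.IsPrime] [b.IsPrime] (h : ResBij (algebraMap A B) a b) :
    FlatCA.IsEtaleNhd A B a b := by
  obtain ⟨e, hb⟩ := h
  exact ⟨inferInstance, ⟨e⟩, hb⟩

attribute [local instance] Algebra.TensorProduct.rightAlgebra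

set_option maxHeartbeats 3200000 in
theorem nonempty_elemDevissage_of_coordinates {R S : Type u} [CommRing R] [CommRing S] [Algebra R S]
    [Algebra.FiniteType R S] (N : Type u) [AddCommGroup N] [Module S N] [Module.Finite S N]
    (p : Ideal R) [p.IsPrime] (q : Ideal S) [q.IsPrime] [q.LiesOver p] (n : ℕ)
    (J : Ideal S) (hJfg : J.FG) (hJ : ∀ j ∈ J, ∀ x : N, j • x = 0)
    (z₀ : Ideal (S ⧸ J)) [z₀.IsPrime] (hz₀ : z₀.comap (Ideal.Quotient.mk J) = q)
    (φ : MvPolynomial (Fin n) R →ₐ[R] S ⧸ J)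
    (hqf : letI := φ.toRingHom.toAlgebra; Algebra.QuasiFiniteAt (MvPolynomial (Fin n) R) z₀)
    [hy₀p : (z₀.comap φ.toRingHom).LiesOver p]
    (hpure : FlatCA.PurelyTranscendental p (z₀.comap φ.toRingHom)) :
    Nonempty (FlatCA.ElemDevissage R S N p q n) := by
  let P := MvPolynomial (Fin n) R
  let C₀ := S ⧸ J
  let y₀ : Ideal P := z₀.comap φ.toRingHom
  letI : Algebra P C₀ := φ.toRingHom.toAlgebra
  haveI : IsScalarTower R P C₀ := IsScalarTower.of_algebraMap_eq fun a => (φ.commutes a).symm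
  haveI : Algebra.FiniteType P C₀ := Algebra.FiniteType.of_restrictScalars_finiteType R P C₀
  haveI : Algebra.QuasiFiniteAt P z₀ := hqf
  haveI : z₀.LiesOver y₀ := ⟨rfl⟩
  obtain ⟨D₁, _, _, _, y₁, _, hy₁y₀, e, -, zA, _, hzAy, hzAc, hezA, hbij, hfinE, huniqE⟩ :=
    Algebra.exists_etale_isIdempotentElem_forall_liesOver_eq y₀ z₀
  letI : Algebra R D₁ := ((algebraMap P D₁).comp (algebraMap R P)).toAlgebra
  haveI : IsScalarTower R P D₁ := IsScalarTower.of_algebraMap_eq' rfl
  let A := D₁ ⊗[P] C₀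
  let E := Localization.Away e
  haveI : Algebra.Etale C₀ A := Algebra.Etale.of_equiv (AlgEquiv.ofRingEquiv
    (f := (Algebra.TensorProduct.comm P C₀ D₁).toRingEquiv)
    (fun a => Algebra.TensorProduct.comm_tmul (R := P) (A := C₀) (B := D₁) a 1))
  haveI : Algebra.Etale A E := Algebra.Etale.of_isLocalizationAway e
  haveI : Algebra.Etale C₀ E := Algebra.Etale.comp C₀ A E
  have hde := (Ideal.disjoint_powers_iff_notMem e (Ideal.IsPrime.isRadical ‹zA.IsPrime›)).2 hezA
  let zE : Ideal E := zA.map (algebraMap A E)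
  haveI : zE.IsPrime := IsLocalization.isPrime_of_isPrime_disjoint _ E _ ‹_› hde
  haveI hzEA : zE.LiesOver zA := IsLocalization.liesOver_map_of_isPrime_disjoint _ _ hde
  haveI : zE.LiesOver y₁ := Ideal.LiesOver.trans zE zA y₁
  haveI : zA.LiesOver z₀ := ⟨hzAc.symm⟩
  haveI : zE.LiesOver z₀ := Ideal.LiesOver.trans zE zA z₀
  haveI : Algebra.IsIntegral D₁ E := Algebra.IsIntegral.of_finite D₁ E
  have huniqE' : ∀ (z : Ideal E) [z.IsPrime], z.LiesOver y₁ → z = zE := fun z _ hz => by
    rw [← IsLocalization.map_comap (Submonoid.powers e) E z]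
    refine congrArg (Ideal.map (algebraMap A E)) (huniqE _ (Ideal.IsPrime.comap _) ⟨?_⟩ ?_)
    · show y₁ = (z.comap (algebraMap A E)).comap (algebraMap D₁ A)
      rw [Ideal.comap_comap, ← IsScalarTower.algebraMap_eq]
      exact hz.over
    · intro hez
      exact ‹z.IsPrime›.ne_top (Ideal.eq_top_of_isUnit_mem _ hez (IsLocalization.Away.algebraMap_isUnit e))
  -- standard etale structure and its lift
  obtain ⟨c, hczE, hstd⟩ := Algebra.IsEtaleAt.exists_isStandardEtale (R := C₀) zE
  haveI := hstd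
  let Ec := Localization.Away c
  obtain ⟨Pp, ⟨eq₀⟩⟩ := Groth.Agent.EtFound.exists_standardEtale_lift (A := S) (T := C₀) (C := Ec)
    Ideal.Quotient.mk_surjective
  let S₀ := Pp.Ring
  letI : Algebra R S₀ := ((algebraMap S S₀).comp (algebraMap R S)).toAlgebra
  haveI : IsScalarTower R S S₀ := IsScalarTower.of_algebraMap_eq' rfl
  let ρ : S₀ →+* Ec := eq₀.toRingEquiv.toRingHom.comp
    (Algebra.TensorProduct.includeRight (R := S) (A := C₀) (B := S₀)).toRingHom
  have hρS : ρ.comp (algebraMap S S₀) = (algebraMap C₀ Ec).comp (Ideal.Quotient.mk J) := RingHom.ext fun s => by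
    show eq₀ ((1 : C₀) ⊗ₜ[S] algebraMap S S₀ s) = algebraMap C₀ Ec (Ideal.Quotient.mk J s)
    rw [← eq₀.commutes, Algebra.TensorProduct.algebraMap_apply, Algebra.algebraMap_eq_smul_one (A := S₀),
      ← TensorProduct.smul_tmul, ← Algebra.algebraMap_eq_smul_one]
    rfl
  have hρsurj : Function.Surjective ρ := by
    intro x
    obtain ⟨y, rfl⟩ := eq₀.surjective x
    suffices ∃ s : S₀, (1 : C₀) ⊗ₜ[S] s = y from ⟨this.choose, congrArg eq₀ this.choose_spec⟩
    induction y using TensorProduct.induction_on with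
    | zero => exact ⟨0, TensorProduct.tmul_zero _ _⟩
    | add a b ha hb =>
      obtain ⟨a', rfl⟩ := ha
      obtain ⟨b', rfl⟩ := hb
      exact ⟨a' + b', TensorProduct.tmul_add _ _ _⟩
    | tmul a b =>
      obtain ⟨a, rfl⟩ := Ideal.Quotient.mk_surjective a
      refine ⟨a • b, ?_⟩
      rw [← TensorProduct.smul_tmul]
      congr 1
      exact (Algebra.smul_def _ _).trans (mul_one _)
  have hρker : RingHom.ker ρ = J.map (algebraMap S S₀) := by
    refine le_antisymm (fun x hx => ?_) (Ideal.map_le_iff_le_comap.2 fun j hj => ?_)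
    · have h0 : (1 : C₀) ⊗ₜ[S] x = 0 := eq₀.injective (hx.trans (map_zero eq₀).symm)
      have h1 := congrArg (TensorProduct.quotTensorEquivQuotSMul S₀ J) h0
      rw [map_zero, show (1 : C₀) = Ideal.Quotient.mk J 1 from (map_one _).symm,
        TensorProduct.quotTensorEquivQuotSMul_mk_tmul, one_smul, Submodule.Quotient.mk_eq_zero,
        Ideal.smul_top_eq_map] at h1
      exact h1
    · rw [Ideal.mem_comap, RingHom.mem_ker, ← RingHom.comp_apply, hρS, RingHom.comp_apply,
        Ideal.Quotient.eq_zero_iff_mem.2 hj, map_zero]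
  -- a function on the smooth algebra inverting `c`
  obtain ⟨e', d, hd, hcd⟩ := Groth.Agent.DevEtale.exists_dvd_of_unique y₁ zE huniqE' c hczE
  obtain ⟨d', hd'⟩ := hρsurj (algebraMap E Ec (algebraMap D₁ E d))
  let S₁ := Localization.Away d'
  haveI : IsScalarTower R S S₁ := IsScalarTower.of_algebraMap_eq fun a => by
    rw [IsScalarTower.algebraMap_apply R S₀ S₁, IsScalarTower.algebraMap_apply R S S₀,
      ← IsScalarTower.algebraMap_apply S S₀ S₁]
  let I₁ : Ideal S₁ := J.map (algebraMap S S₁)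
  let C₁ := S₁ ⧸ I₁
  have hkerle : RingHom.ker ρ ≤ RingHom.ker ((Ideal.Quotient.mk I₁).comp (algebraMap S₀ S₁)) := by
    rw [hρker, Ideal.map_le_iff_le_comap]
    intro j hj
    rw [Ideal.mem_comap, RingHom.mem_ker, RingHom.comp_apply, ← IsScalarTower.algebraMap_apply,
      Ideal.Quotient.eq_zero_iff_mem]
    exact Ideal.mem_map_of_mem _ hj
  let π : Ec →+* C₁ := RingHom.liftOfSurjective ρ hρsurj
    ⟨(Ideal.Quotient.mk I₁).comp (algebraMap S₀ S₁), hkerle⟩
  have hπ : ∀ s, π (ρ s) = Ideal.Quotient.mk I₁ (algebraMap S₀ S₁ s) := fun s =>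
    RingHom.liftOfRightInverse_comp_apply _ _ _ _ s
  let ψ : E →+* C₁ := π.comp (algebraMap E Ec)
  let δ₀ : D₁ →+* C₁ := ψ.comp (algebraMap D₁ E)
  have hψC : ∀ s : S, ψ (algebraMap C₀ E (Ideal.Quotient.mk J s)) = algebraMap S C₁ s := fun s => by
    show π (algebraMap E Ec _) = _
    rw [← IsScalarTower.algebraMap_apply C₀ E Ec]
    show π (((algebraMap C₀ Ec).comp (Ideal.Quotient.mk J)) s) = _
    rw [← hρS, RingHom.comp_apply, hπ,
      ← IsScalarTower.algebraMap_apply S S₀ S₁]
    rfl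
  have hPD : ∀ x : P, algebraMap D₁ E (algebraMap P D₁ x) = algebraMap C₀ E (φ x) := fun x => by
    rw [IsScalarTower.algebraMap_apply D₁ A E, IsScalarTower.algebraMap_apply C₀ A E]
    congr 1
    exact (Algebra.TensorProduct.includeLeft (R := P) (S := P) (A := D₁) (B := C₀)).commutes x |>.trans
      ((Algebra.TensorProduct.includeRight (R := P) (A := D₁) (B := C₀)).commutes x).symm
  have hδ₀R : ∀ a : R, δ₀ (algebraMap R D₁ a) = algebraMap R C₁ a := fun a => by
    show ψ (algebraMap D₁ E (algebraMap P D₁ (algebraMap R P a))) = _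
    rw [hPD, φ.commutes, show algebraMap R C₀ a = Ideal.Quotient.mk J (algebraMap R S a) from rfl, hψC,
      ← IsScalarTower.algebraMap_apply R S C₁]
  have hdu : IsUnit (δ₀ d) := by
    show IsUnit (π (algebraMap E Ec (algebraMap D₁ E d)))
    rw [← hd', hπ]
    exact (IsLocalization.Away.algebraMap_isUnit d').map _
  let D₁' := Localization.Away d
  let δ' : D₁' →+* C₁ := IsLocalization.Away.lift d hdu
  have hδ' : ∀ x, δ' (algebraMap D₁ D₁' x) = δ₀ x := fun x => IsLocalization.Away.lift_eq d hdu x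
  let δ : D₁' →ₐ[R] C₁ := { δ' with
    commutes' := fun a => by
      show δ' (algebraMap R D₁' a) = _
      rw [IsScalarTower.algebraMap_apply R D₁ D₁', hδ', hδ₀R] }
  -- finiteness
  have hfin : δ.toRingHom.Finite := by
    letI : Algebra D₁' C₁ := δ.toRingHom.toAlgebra
    show Module.Finite D₁' C₁
    classical
    obtain ⟨s, hs⟩ := (Module.finite_def (R := D₁) (M := E)).1 hfinE
    let M : Submodule D₁' C₁ := Submodule.span D₁' (ψ '' (s : Set E))
    refine ⟨⟨s.image ψ, ?_⟩⟩
    rw [Finset.coe_image, eq_top_iff]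
    intro x _
    show x ∈ M
    have h1 : ∀ a : E, ψ a ∈ M := fun a => by
      have ha : a ∈ Submodule.span D₁ (s : Set E) := hs ▸ trivial
      induction ha using Submodule.span_induction with
      | mem x hx => exact Submodule.subset_span ⟨x, hx, rfl⟩
      | zero => rw [map_zero]; exact zero_mem _
      | add a b _ _ ha hb => rw [map_add]; exact add_mem ha hb
      | smul r b _ hb =>
        rw [Algebra.smul_def, map_mul, show ψ (algebraMap D₁ E r) = δ' (algebraMap D₁ D₁' r) from (hδ' r).symm]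
        exact M.smul_mem (algebraMap D₁ D₁' r) hb
    obtain ⟨v, hv⟩ := (IsLocalization.Away.algebraMap_isUnit (S := D₁') d).exists_left_inv
    have hv' : δ' v * δ₀ d = 1 := by rw [← hδ', ← map_mul, hv, map_one]
    have h2 : ∀ t : S₀, Ideal.Quotient.mk I₁ (algebraMap S₀ S₁ t) ∈ M := fun t => by
      obtain ⟨⟨a, ⟨_, k, rfl⟩⟩, ha⟩ := IsLocalization.surj (Submonoid.powers c) (ρ t)
      have e2 : Ideal.Quotient.mk I₁ (algebraMap S₀ S₁ t) = δ' (v ^ k) * ψ (a * e' ^ k) := by
        have h3 : π (ρ t) * ψ c ^ k = ψ a := by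
          have := congrArg π ha
          simp only [map_mul, map_pow] at this
          exact this
        rw [← hπ, map_mul, ← h3, map_pow, map_pow, mul_assoc, ← mul_pow, ← map_mul, hcd, mul_left_comm,
          show ψ (algebraMap D₁ E d) = δ₀ d from rfl, ← mul_pow, hv', one_pow, mul_one]
      rw [e2]
      exact M.smul_mem (v ^ k) (h1 _)
    obtain ⟨x, rfl⟩ := Ideal.Quotient.mk_surjective x
    obtain ⟨⟨t, ⟨_, k, rfl⟩⟩, hx⟩ := IsLocalization.surj (Submonoid.powers d') x
    have e3 : Ideal.Quotient.mk I₁ x = δ' (v ^ k) * Ideal.Quotient.mk I₁ (algebraMap S₀ S₁ t) := by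
      rw [← hx, map_mul, map_pow, map_pow, map_pow, mul_left_comm,
        show Ideal.Quotient.mk I₁ (algebraMap S₀ S₁ d') = δ₀ d by rw [← hπ, hd']; rfl,
        ← mul_pow, hv', one_pow, mul_one]
    rw [e3]
    exact M.smul_mem (v ^ k) (h2 _)
  -- the points
  have hdc := (Ideal.disjoint_powers_iff_notMem c (Ideal.IsPrime.isRadical ‹zE.IsPrime›)).2 hczE
  let zc : Ideal Ec := zE.map (algebraMap E Ec)
  haveI : zc.IsPrime := IsLocalization.isPrime_of_isPrime_disjoint _ Ec _ ‹_› hdc
  haveI hzcE : zc.LiesOver zE := IsLocalization.liesOver_map_of_isPrime_disjoint _ _ hdc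
  let q₀ : Ideal S₀ := zc.comap ρ
  haveI : q₀.IsPrime := Ideal.IsPrime.comap _
  have hd'q₀ : d' ∉ q₀ := fun h => by
    rw [Ideal.mem_comap, hd', ← Ideal.mem_comap, show zc.comap (algebraMap E Ec) = zE from hzcE.over.symm,
      ← Ideal.mem_comap, show zE.comap (algebraMap D₁ E) = y₁ from (Ideal.over_def zE y₁).symm] at h
    exact hd h
  have hdd := (Ideal.disjoint_powers_iff_notMem d' (Ideal.IsPrime.isRadical ‹q₀.IsPrime›)).2 hd'q₀
  let q₁ : Ideal S₁ := q₀.map (algebraMap S₀ S₁)
  haveI : q₁.IsPrime := IsLocalization.isPrime_of_isPrime_disjoint _ S₁ _ ‹_› hdd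
  haveI hq₁q₀ : q₁.LiesOver q₀ := IsLocalization.liesOver_map_of_isPrime_disjoint _ _ hdd
  have hI₁q : I₁ ≤ q₁ := by
    show J.map (algebraMap S S₁) ≤ _
    rw [IsScalarTower.algebraMap_eq S S₀ S₁, ← Ideal.map_map, ← hρker]
    exact Ideal.map_mono (Ideal.comap_mono bot_le)
  let z₁ : Ideal C₁ := q₁.map (Ideal.Quotient.mk I₁)
  haveI : z₁.IsPrime := Ideal.map_isPrime_of_surjective Ideal.Quotient.mk_surjective (by rwa [Ideal.mk_ker])
  have hz₁ : z₁.comap (Ideal.Quotient.mk I₁) = q₁ := by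
    rw [Ideal.comap_map_of_surjective _ Ideal.Quotient.mk_surjective, sup_eq_left, ← RingHom.ker_eq_comap_bot, Ideal.mk_ker]
    exact hI₁q
  have hz₁π : z₁.comap π = zc := Ideal.comap_injective_of_surjective ρ hρsurj (by
    rw [Ideal.comap_comap, show π.comp ρ = (Ideal.Quotient.mk I₁).comp (algebraMap S₀ S₁) from RingHom.ext hπ,
      ← Ideal.comap_comap, hz₁]
    exact hq₁q₀.over.symm)
  -- residue fields
  have hres : FlatCA.IsEtaleNhd S S₁ q q₁ := by
    haveI : Algebra.Etale S₀ S₁ := Algebra.Etale.of_isLocalizationAway d'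
    haveI : Algebra.Etale S S₁ := Algebra.Etale.comp S S₀ S₁
    apply isEtaleNhd_of_resBij
    rw [IsScalarTower.algebraMap_eq S S₀ S₁]
    refine ResBij.comp (b := q₀) (ResBij.of_comp (g := ρ) (c := zc) ?_ ?_) ?_
    · rw [hρS, IsScalarTower.algebraMap_eq C₀ E Ec, IsScalarTower.algebraMap_eq C₀ A E]
      refine ResBij.comp (b := z₀) (resBij_of_surjectiveOnStalks
        (RingHom.surjectiveOnStalks_of_surjective Ideal.Quotient.mk_surjective) q z₀ hz₀.symm) ?_
      refine ResBij.comp (b := zE) (ResBij.comp (b := zA) ?_ ?_) ?_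
      · exact ⟨hzAc.symm, Groth.Agent.FlatDevBC.residueField_bijective y₀ y₁ hbij z₀ zA⟩
      · exact resBij_of_surjectiveOnStalks (RingHom.surjectiveOnStalks_of_isLocalization (M := Submonoid.powers e) E) zA zE hzEA.over
      · exact resBij_of_surjectiveOnStalks (RingHom.surjectiveOnStalks_of_isLocalization (M := Submonoid.powers c) Ec) zE zc hzcE.over
    · exact resBij_of_surjectiveOnStalks (RingHom.surjectiveOnStalks_of_surjective hρsurj) q₀ zc rfl
    · exact resBij_of_surjectiveOnStalks (RingHom.surjectiveOnStalks_of_isLocalization (M := Submonoid.powers d') S₁) q₀ q₁ hq₁q₀.over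
  -- the smooth algebra
  have hdy := (Ideal.disjoint_powers_iff_notMem d (Ideal.IsPrime.isRadical ‹y₁.IsPrime›)).2 hd
  let y₁' : Ideal D₁' := y₁.map (algebraMap D₁ D₁')
  haveI : y₁'.IsPrime := IsLocalization.isPrime_of_isPrime_disjoint _ D₁' _ ‹_› hdy
  haveI : y₁'.LiesOver y₁ := IsLocalization.liesOver_map_of_isPrime_disjoint _ _ hdy
  haveI : y₁.LiesOver p := Ideal.LiesOver.trans y₁ y₀ p
  haveI : y₁'.LiesOver p := Ideal.LiesOver.trans y₁' y₁ p
  haveI : p.LiesOver p := ⟨rfl⟩
  haveI : IsLocalization (⊥ : Submonoid R) R := IsLocalization.self bot_le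
  have hRR := Groth.Agent.FlatDevLoc.residueField_bijectiveₐ_of_isLocalization (⊥ : Submonoid R) p p
  haveI : Algebra.Etale D₁ D₁' := Algebra.Etale.of_isLocalizationAway d
  refine nonempty_elemDevissage N p q n J hJfg hJ S₁ q₁ hres z₁ hz₁ D₁'
    (smoothRelDim_etale n (smoothRelDim_etale n (smoothRelDim_mvPolynomial R n) : FlatCA.SmoothRelDim n R D₁))
    δ hfin y₁' ?_ ?_ ?_
  · rw [← IsLocalization.map_comap (Submonoid.powers d) D₁' (z₁.comap δ.toRingHom)]
    show ((z₁.comap δ.toRingHom).comap (algebraMap D₁ D₁')).map (algebraMap D₁ D₁') = y₁'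
    rw [Ideal.comap_comap, show δ.toRingHom.comp (algebraMap D₁ D₁') = δ₀ from RingHom.ext hδ',
      ← Ideal.comap_comap, ← Ideal.comap_comap, hz₁π, show zc.comap (algebraMap E Ec) = zE from hzcE.over.symm,
      show zE.comap (algebraMap D₁ E) = y₁ from (Ideal.over_def zE y₁).symm]
  · intro z hz hzy
    have h1 : z.comap ψ = zE := by
      haveI := Ideal.IsPrime.comap ψ (K := z)
      refine huniqE' _ ⟨?_⟩
      show y₁ = (z.comap ψ).comap (algebraMap D₁ E)
      rw [Ideal.comap_comap, show ψ.comp (algebraMap D₁ E) = δ.toRingHom.comp (algebraMap D₁ D₁') from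
        RingHom.ext fun x => (hδ' x).symm, ← Ideal.comap_comap, hzy]
      exact Ideal.over_def y₁' y₁
    have h2 : z.comap π = zc := by
      haveI := Ideal.IsPrime.comap π (K := z)
      rw [← IsLocalization.map_comap (Submonoid.powers c) Ec (z.comap π)]
      exact congrArg (Ideal.map (algebraMap E Ec)) ((Ideal.comap_comap _ _).trans h1)
    apply Ideal.comap_injective_of_surjective _ Ideal.Quotient.mk_surjective
    rw [hz₁, ← IsLocalization.map_comap (Submonoid.powers d') S₁ (z.comap (Ideal.Quotient.mk I₁))]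
    refine congrArg (Ideal.map (algebraMap S₀ S₁)) ?_
    show (z.comap (Ideal.Quotient.mk I₁)).comap (algebraMap S₀ S₁) = zc.comap ρ
    rw [← h2, Ideal.comap_comap, Ideal.comap_comap]
    congr 1
    exact RingHom.ext fun s => (hπ s).symm
  · refine Groth.Agent.FlatDevLoc.purelyTranscendental_of_bijective p p hRR y₁ y₁'
      (Groth.Agent.FlatDevLoc.residueField_bijective_of_isLocalization (Submonoid.powers d) y₁ y₁') ?_
    exact Groth.Agent.FlatDevLoc.purelyTranscendental_of_bijective p p hRR y₀ y₁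
      ((bijective_mapₐ_iff y₀ y₁).1 hbij) hpure

end Groth.Agent.DevExist
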