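import Groth.Agent.DevExist.Shrink
import Groth.Agent.DevExist.GeomNhd
import Groth.Agent.DevExist.PureTrans
import Groth.Agent.DevExist.Thicken
import Groth.Agent.DevExist.LiftNhd
import Groth.Agent.FlatDevLoc.Shrink

/-!
A step of a dévissage and a dévissage of its cokernel on an etale neighbourhood give a dévissage on an etale
neighbourhood.
-/

set_option autoImplicit false
set_option backward.isDefEq.respectTransparency false
set_option backward.isDefEq.respectTransparency.types false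
attribute [-instance] CategoryTheory.catToReflQuiver

universe u

open TensorProduct

namespace Groth.Agent.DevExist

/-- Iterated steps of a dévissage exist on an elementary etale neighbourhood. -/
def HasDevNhd (R : Type u) [CommRing R] (S : Type u) [CommRing S] [Algebra R S] (N : Type u) [AddCommGroup N]
    [Module S N] (p : Ideal R) [p.IsPrime] (q : Ideal S) [q.IsPrime] : Prop :=
  ∃ (R' S' : Type u) (_ : CommRing R') (_ : CommRing S') (_ : Algebra R R') (_ : Algebra S S') (_ : Algebra R' S')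
      (_ : Algebra R S') (_ : IsScalarTower R R' S') (_ : IsScalarTower R S S')
      (p' : Ideal R') (q' : Ideal S') (_ : p'.IsPrime) (_ : q'.IsPrime),
      FlatCA.IsEtaleNhd R R' p p' ∧ FlatCA.IsEtaleNhd S S' q q' ∧ q'.LiesOver p' ∧
      ∀ (N' : Type u) [AddCommGroup N'] [Module S' N'] [Module S N'] [IsScalarTower S S' N']
        (f : N →ₗ[S] N'), IsBaseChange S' f → DevAt R' p' S' q' N'

theorem surjective_of_isPushout (S S' A A' : Type u) [CommRing S] [CommRing S'] [CommRing A] [CommRing A']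
    [Algebra S S'] [Algebra S A] [Algebra S' A'] [Algebra A A'] [Algebra S A'] [IsScalarTower S S' A']
    [IsScalarTower S A A'] [Algebra.IsPushout S S' A A'] (h : Function.Surjective (algebraMap S A)) :
    Function.Surjective (algebraMap S' A') := by
  intro a
  obtain ⟨x, rfl⟩ := (Algebra.IsPushout.equiv S S' A A').surjective a
  induction x using TensorProduct.induction_on with
  | zero => exact ⟨0, by rw [map_zero, map_zero]⟩
  | add x y hx hy =>
    obtain ⟨a, ha⟩ := hx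
    obtain ⟨b, hb⟩ := hy
    exact ⟨a + b, by rw [map_add, map_add, ha, hb]⟩
  | tmul x a =>
    obtain ⟨t, rfl⟩ := h a
    refine ⟨x * algebraMap S S' t, ?_⟩
    rw [Algebra.IsPushout.equiv_tmul, map_mul, ← IsScalarTower.algebraMap_apply S S' A',
      IsScalarTower.algebraMap_apply S A A']

/-- Shrinking a smooth algebra with an open with geometrically integral fibres to one with geometrically
irreducible fibres. -/
theorem geomIrred_shrink {R T : Type u} [CommRing R] [CommRing T] [Algebra R T] [Algebra.Smooth R T] (w : T)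
    (hGI : FlatCA.GeomIntegralFibres R (Localization.Away w)) (g₁ g₀ : R) (h : T)
    (hsub : (PrimeSpectrum.basicOpen g₀ : Set (PrimeSpectrum R)) ⊆
      PrimeSpectrum.comap (algebraMap R T) '' (PrimeSpectrum.basicOpen h : Set (PrimeSpectrum T)))
    (hw : w ∣ h * algebraMap R T (g₁ * g₀))
    (R' T' : Type u) [CommRing R'] [CommRing T'] [Algebra R R'] [IsLocalization.Away (g₁ * g₀) R'] [Algebra T T']
    [IsLocalization.Away (h * algebraMap R T (g₁ * g₀)) T'] [Algebra R' T'] [Algebra R T'] [IsScalarTower R R' T']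
    [IsScalarTower R T T'] : FlatCA.GeomIrredFibres R' T' := by
  let g := g₁ * g₀
  let eT : T := h * algebraMap R T g
  haveI : IsLocalization.Away eT T' := ‹_›
  let Tw := Localization.Away w
  haveI : Algebra.Smooth T Tw := Algebra.Smooth.of_isLocalization_Away w
  haveI : Algebra.Smooth R Tw := Algebra.Smooth.comp R T Tw
  have huw : IsUnit (algebraMap T T' w) :=
    isUnit_of_dvd_unit (map_dvd _ hw) (IsLocalization.Away.algebraMap_isUnit eT)
  letI : Algebra Tw T' := (IsLocalization.Away.lift w huw).toAlgebra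
  haveI : IsScalarTower T Tw T' := IsScalarTower.of_algebraMap_eq fun x => (IsLocalization.Away.lift_eq w huw x).symm
  haveI : IsScalarTower R Tw T' := IsScalarTower.of_algebraMap_eq fun r => by
    rw [IsScalarTower.algebraMap_apply R T Tw, ← IsScalarTower.algebraMap_apply T Tw T',
      ← IsScalarTower.algebraMap_apply R T T']
  haveI : IsLocalization.Away (w * eT) T' :=
    away_of_mutual_dvd eT _ (dvd_mul_left eT w) 2 (by rw [sq]; exact mul_dvd_mul_right hw eT)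
  haveI : IsLocalization.Away (algebraMap T Tw eT) T' := away_factor w eT
  have hGI' : FlatCA.GeomIrredFibres R Tw :=
    haveI := hGI; (inferInstance : AlgebraicGeometry.GeometricallyIrreducible _)
  refine geomIrred_away hGI' g (algebraMap T Tw eT) fun r hr => ?_
  obtain ⟨Q, hQ, hQr⟩ := hsub (show r ∈ (PrimeSpectrum.basicOpen g₀ : Set _) from fun h' =>
    hr (Ideal.mul_mem_left _ _ h'))
  have heQ : eT ∉ Q.asIdeal := fun h' => (Q.isPrime.mem_or_mem h').elim hQ fun h'' => hr (by rw [← hQr]; exact h'')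
  have hwQ : w ∉ Q.asIdeal := fun h' => heQ (Ideal.mem_of_dvd _ hw h')
  have hdw := (Ideal.disjoint_powers_iff_notMem w Q.isPrime.isRadical).2 hwQ
  have hQc : (Q.asIdeal.map (algebraMap T Tw)).comap (algebraMap T Tw) = Q.asIdeal :=
    IsLocalization.comap_map_of_isPrime_disjoint _ Tw Q.isPrime hdw
  refine ⟨⟨_, IsLocalization.isPrime_of_isPrime_disjoint _ Tw _ Q.isPrime hdw⟩, fun h' => heQ ?_, PrimeSpectrum.ext ?_⟩
  · rw [← hQc]; exact h'
  · show (Q.asIdeal.map (algebraMap T Tw)).comap (algebraMap R Tw) = r.asIdeal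
    rw [IsScalarTower.algebraMap_eq R T Tw, ← Ideal.comap_comap, hQc, ← hQr]
    rfl

attribute [local instance] Algebra.TensorProduct.rightAlgebra

set_option maxHeartbeats 1600000 in
/-- The moved step and a dévissage of the moved cokernel give a dévissage on an etale neighbourhood. -/
theorem Step.hasDevNhd_of {R : Type u} [CommRing R] {p : Ideal R} [p.IsPrime] {S : Type u} [CommRing S] [Algebra R S]
    {q : Ideal S} [q.IsPrime] {N : Type u} [AddCommGroup N] [Module S N] (σ : Step R p S q N)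
    (R₄ : Type u) [CommRing R₄] [Algebra R R₄] (p₄ : Ideal R₄) [p₄.IsPrime] (hR₄ : FlatCA.IsEtaleNhd R R₄ p p₄)
    (T₄ : Type u) [CommRing T₄] [Algebra R₄ T₄] [Algebra R T₄] [Algebra σ.B T₄] [IsScalarTower R R₄ T₄]
    [IsScalarTower R σ.B T₄] (hrel : FlatCA.SmoothRelDim σ.d R₄ T₄) (hirr : FlatCA.GeomIrredFibres R₄ T₄)
    (y₄ : Ideal T₄) [y₄.IsPrime] [y₄.LiesOver p₄] (hT₄ : FlatCA.IsEtaleNhd σ.B T₄ σ.y y₄)
    (S₅ : Type u) [CommRing S₅] [Algebra S S₅] [Algebra R₄ S₅] [Algebra R S₅] [IsScalarTower R S S₅]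
    [IsScalarTower R R₄ S₅] [Algebra.Etale S S₅]
    (A₄ : Type u) [CommRing A₄] [Algebra S₅ A₄] [Algebra T₄ A₄] [Algebra σ.A A₄] [Algebra σ.B A₄] [Algebra S A₄]
    [Algebra R₄ A₄] [IsScalarTower R₄ T₄ A₄] [IsScalarTower R₄ S₅ A₄] [IsScalarTower σ.B T₄ A₄]
    [IsScalarTower σ.B σ.A A₄] [IsScalarTower S S₅ A₄] [IsScalarTower S σ.A A₄]
    [Algebra.IsPushout σ.B T₄ σ.A A₄] [Algebra.IsPushout S S₅ σ.A A₄]
    (htail : ∀ (Mc : Type u) [AddCommGroup Mc] [Module T₄ Mc] [Module σ.B Mc] [IsScalarTower σ.B T₄ Mc]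
      (l : (σ.M ⧸ LinearMap.range σ.α) →ₗ[σ.B] Mc), IsBaseChange T₄ l → DevAt R₄ p₄ T₄ y₄ Mc) :
    HasDevNhd R S N p q := by
  obtain ⟨heR, hp₄, hκ₄⟩ := hR₄
  obtain ⟨heT, hy₄, hκy⟩ := hT₄
  haveI := heR; haveI := hp₄; haveI := heT; haveI := hy₄
  haveI := σ.smooth
  haveI : Algebra.Smooth R₄ T₄ := smooth_of_smoothRelDim σ.d hrel
  have hgen := map_liesOver_of_etale R R₄ σ.B T₄ σ.geomIrred hirr p p₄
  obtain ⟨zz, hzz, hzzz, hzzy⟩ := FlatDevBC.exists_prime_over (R := σ.B) (R' := T₄) (T := σ.A) (T' := A₄)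
    σ.y y₄ hκy σ.z
  haveI := hzz; haveI := hzzz; haveI := hzzy
  let q₅ : Ideal S₅ := zz.comap (algebraMap S₅ A₄)
  haveI : q₅.IsPrime := Ideal.IsPrime.comap _
  have hsurj₅ : Function.Surjective (algebraMap S₅ A₄) := surjective_of_isPushout S S₅ σ.A A₄ σ.surj
  have hres : ResBij (algebraMap S S₅) q q₅ := by
    refine ResBij.of_comp (g := algebraMap S₅ A₄) (c := zz) ?_
      (resBij_of_surjectiveOnStalks (RingHom.surjectiveOnStalks_of_surjective hsurj₅) q₅ zz rfl)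
    rw [← IsScalarTower.algebraMap_eq, IsScalarTower.algebraMap_eq S σ.A A₄]
    refine ResBij.comp (b := σ.z) (resBij_of_surjectiveOnStalks
      (RingHom.surjectiveOnStalks_of_surjective σ.surj) q σ.z σ.q0.symm) ?_
    exact ⟨hzzz.over, FlatDevBC.residueField_bijective (R := σ.B) (R' := T₄) (T := σ.A) (T' := A₄)
      σ.y y₄ hκy σ.z zz⟩
  haveI : zz.LiesOver p₄ := Ideal.LiesOver.trans zz y₄ p₄
  haveI hq₅p : q₅.LiesOver p₄ := ⟨by
    show p₄ = (zz.comap (algebraMap S₅ A₄)).comap (algebraMap R₄ S₅)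
    rw [Ideal.comap_comap, ← IsScalarTower.algebraMap_eq]
    exact Ideal.over_def zz p₄⟩
  refine ⟨R₄, S₅, inferInstance, inferInstance, inferInstance, inferInstance, inferInstance, inferInstance,
    inferInstance, inferInstance, p₄, q₅, inferInstance, inferInstance, ⟨heR, hp₄, hκ₄⟩, isEtaleNhd_of_resBij hres,
    hq₅p, ?_⟩
  intro N' _ _ _ _ f hf
  obtain ⟨q', -, -, -, hq', hdev⟩ := σ.transport R₄ p₄ hκ₄ T₄ hrel hirr hgen y₄
    ((bijective_mapₐ_iff σ.y y₄).1 hκy) S₅ A₄ N' f hf (Or.inr htail)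
  have h : q' = q₅ := hq' zz
  subst h
  exact hdev

set_option maxHeartbeats 3200000 in
/-- An etale neighbourhood of the smooth algebra of a step with geometrically integral fibres, with the dévissage
of the cokernel. -/
theorem Step.exists_geomNhd {R : Type u} [CommRing R] {p : Ideal R} [p.IsPrime] {S : Type u} [CommRing S]
    [Algebra R S] {q : Ideal S} {N : Type u} [AddCommGroup N] [Module S N] (σ : Step R p S q N)
    (R₂ : Type u) [CommRing R₂] [Algebra R R₂] (p₂ : Ideal R₂) [p₂.IsPrime] (hR₂ : FlatCA.IsEtaleNhd R R₂ p p₂)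
    (D₂ : Type u) [CommRing D₂] [Algebra σ.B D₂] [Algebra R₂ D₂] [Algebra R D₂] [IsScalarTower R R₂ D₂]
    [IsScalarTower R σ.B D₂] (y₂ : Ideal D₂) [y₂.IsPrime] (hD₂ : FlatCA.IsEtaleNhd σ.B D₂ σ.y y₂) [y₂.LiesOver p₂]
    (hdev : ∀ (Mc : Type u) [AddCommGroup Mc] [Module D₂ Mc] [Module σ.B Mc] [IsScalarTower σ.B D₂ Mc]
      (l : (σ.M ⧸ LinearMap.range σ.α) →ₗ[σ.B] Mc), IsBaseChange D₂ l → DevAt R₂ p₂ D₂ y₂ Mc) :
    ∃ (R₃ T : Type u) (_ : CommRing R₃) (_ : CommRing T) (_ : Algebra R R₃) (_ : Algebra R₃ T) (_ : Algebra R T)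
      (_ : Algebra σ.B T) (_ : IsScalarTower R R₃ T) (_ : IsScalarTower R σ.B T)
      (p₃ : Ideal R₃) (y₃ : Ideal T) (_ : p₃.IsPrime) (_ : y₃.IsPrime) (_ : y₃.LiesOver p₃) (w : T),
      FlatCA.IsEtaleNhd R R₃ p p₃ ∧ FlatCA.IsEtaleNhd σ.B T σ.y y₃ ∧ FlatCA.SmoothRelDim σ.d R₃ T ∧
      w ∉ y₃ ∧ FlatCA.GeomIntegralFibres R₃ (Localization.Away w) ∧
      ∀ (Mc : Type u) [AddCommGroup Mc] [Module T Mc] [Module σ.B Mc] [IsScalarTower σ.B T Mc]
        (l : (σ.M ⧸ LinearMap.range σ.α) →ₗ[σ.B] Mc), IsBaseChange T l → DevAt R₃ p₃ T y₃ Mc := by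
  haveI := σ.smooth
  obtain ⟨heR₂, hp₂, hκ₂⟩ := hR₂
  obtain ⟨heD₂, hy₂, hκD⟩ := hD₂
  haveI := heR₂; haveI := hp₂; haveI := heD₂; haveI := hy₂
  let B₂ := R₂ ⊗[R] σ.B
  let πB : B₂ →ₐ[R₂] D₂ := Algebra.TensorProduct.lift (Algebra.ofId R₂ D₂) (IsScalarTower.toAlgHom R σ.B D₂)
    fun _ _ => Commute.all _ _
  letI : Algebra B₂ D₂ := πB.toRingHom.toAlgebra
  haveI : IsScalarTower R₂ B₂ D₂ := IsScalarTower.of_algebraMap_eq fun a => (πB.commutes a).symm
  haveI : IsScalarTower σ.B B₂ D₂ := IsScalarTower.of_algebraMap_eq fun b => by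
    show algebraMap σ.B D₂ b = Algebra.TensorProduct.lift _ _ _ ((1 : R₂) ⊗ₜ[R] b)
    rw [Algebra.TensorProduct.lift_tmul, map_one, one_mul]
    rfl
  haveI : Algebra.Etale σ.B B₂ := etale_rightAlgebra R R₂ σ.B
  haveI : Algebra.Etale B₂ D₂ := Algebra.Etale.of_restrictScalars σ.B B₂ D₂
  have hrel₂ : FlatCA.SmoothRelDim σ.d R₂ D₂ := smoothRelDim_etale σ.d (smoothRelDim_baseChange σ.d σ.relDim)
  haveI : Algebra.Smooth R₂ D₂ := smooth_of_smoothRelDim σ.d hrel₂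
  have hpure₂ : FlatCA.PurelyTranscendental p₂ y₂ :=
    FlatDevLoc.purelyTranscendental_of_bijective p p₂ hκ₂ σ.y y₂ ((bijective_mapₐ_iff σ.y y₂).1 hκD) σ.pureTrans
  obtain ⟨R₃, _, _, p₃, _, hR₃, w, y₃, _, hwy, hy₃y, hy₃p, hGI⟩ := exists_geomIntegral_nhd p₂ y₂ (by
    haveI h : y₂.LiesOver p₂ := inferInstance
    letI := (Ideal.ResidueField.mapₐ p₂ y₂ (Algebra.ofId R₂ D₂) h.over).toRingHom.toAlgebra
    obtain ⟨ι, x, hx, htop⟩ := hpure₂
    exact fun a ha => mem_range_of_isIntegral x hx.1 htop a ha)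
  obtain ⟨heR₃, hp₃, hκ₃⟩ := hR₃
  haveI := heR₃; haveI := hp₃; haveI := hy₃y; haveI := hy₃p
  let T := R₃ ⊗[R₂] D₂
  letI : Algebra R R₃ := ((algebraMap R₂ R₃).comp (algebraMap R R₂)).toAlgebra
  haveI : IsScalarTower R R₂ R₃ := IsScalarTower.of_algebraMap_eq' rfl
  letI : Algebra σ.B T := ((algebraMap D₂ T).comp (algebraMap σ.B D₂)).toAlgebra
  haveI : IsScalarTower σ.B D₂ T := IsScalarTower.of_algebraMap_eq' rfl
  haveI : IsScalarTower R σ.B T := IsScalarTower.of_algebraMap_eq fun r => by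
    show algebraMap R R₃ r ⊗ₜ[R₂] (1 : D₂) = (1 : R₃) ⊗ₜ[R₂] algebraMap σ.B D₂ (algebraMap R σ.B r)
    rw [← IsScalarTower.algebraMap_apply R σ.B D₂, IsScalarTower.algebraMap_apply R R₂ D₂,
      IsScalarTower.algebraMap_apply R R₂ R₃, Algebra.algebraMap_eq_smul_one (A := R₃),
      Algebra.algebraMap_eq_smul_one (A := D₂), TensorProduct.smul_tmul]
  haveI : Algebra.Etale D₂ T := etale_rightAlgebra R₂ R₃ D₂
  have h3 : FlatCA.IsEtaleNhd D₂ T y₂ y₃ :=
    ⟨inferInstance, hy₃y, (bijective_mapₐ_iff y₂ y₃).2 (FlatDevBC.residueField_bijective p₂ p₃ hκ₃ y₂ y₃)⟩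
  refine ⟨R₃, T, inferInstance, inferInstance, inferInstance, inferInstance, inferInstance, inferInstance,
    inferInstance, inferInstance, p₃, y₃, inferInstance, inferInstance, hy₃p, w,
    isEtaleNhd_trans (p₁ := p₂) ⟨heR₂, hp₂, hκ₂⟩ ⟨heR₃, hp₃, hκ₃⟩,
    isEtaleNhd_trans (p₁ := y₂) ⟨heD₂, hy₂, hκD⟩ h3, smoothRelDim_baseChange σ.d hrel₂, hwy, hGI, ?_⟩
  intro Mc _ _ _ _ l hl
  let M₀ := σ.M ⧸ LinearMap.range σ.α
  let M₂ := D₂ ⊗[σ.B] M₀
  let l₂ : M₀ →ₗ[σ.B] M₂ := TensorProduct.mk σ.B D₂ M₀ 1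
  have hl₂ : IsBaseChange D₂ l₂ := TensorProduct.isBaseChange σ.B M₀ D₂
  letI : Module D₂ Mc := Module.compHom Mc (algebraMap D₂ T)
  haveI : IsScalarTower D₂ T Mc := IsScalarTower.of_algebraMap_smul fun _ _ => rfl
  haveI : IsScalarTower σ.B D₂ Mc := IsScalarTower.to₁₂₄ σ.B D₂ T Mc
  let a₂ : M₂ →ₗ[D₂] Mc := hl₂.lift l
  have e₂ : (a₂.restrictScalars σ.B).comp l₂ = l := LinearMap.ext fun m => hl₂.lift_eq l m
  have h2 : IsBaseChange T a₂ := IsBaseChange.of_comp hl₂ (by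
    rw [show ((a₂ : M₂ →ₗ[σ.B] Mc) ∘ₗ l₂) = l from e₂]; exact hl)
  exact (hdev M₂ l₂ hl₂).baseChange_at R₃ p₃ hκ₃ T Mc a₂ h2 y₃

set_option maxHeartbeats 3200000 in
/-- A step and a dévissage of its cokernel on an etale neighbourhood give a dévissage on an etale neighbourhood. -/
theorem Step.extend {R : Type u} [CommRing R] {p : Ideal R} [p.IsPrime] {S : Type u} [CommRing S] [Algebra R S]
    {q : Ideal S} [q.IsPrime] {N : Type u} [AddCommGroup N] [Module S N] (σ : Step R p S q N)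
    (R₂ : Type u) [CommRing R₂] [Algebra R R₂] (p₂ : Ideal R₂) [p₂.IsPrime] (hR₂ : FlatCA.IsEtaleNhd R R₂ p p₂)
    (D₂ : Type u) [CommRing D₂] [Algebra σ.B D₂] [Algebra R₂ D₂] [Algebra R D₂] [IsScalarTower R R₂ D₂]
    [IsScalarTower R σ.B D₂] (y₂ : Ideal D₂) [y₂.IsPrime] (hD₂ : FlatCA.IsEtaleNhd σ.B D₂ σ.y y₂) [y₂.LiesOver p₂]
    (hdev : ∀ (Mc : Type u) [AddCommGroup Mc] [Module D₂ Mc] [Module σ.B Mc] [IsScalarTower σ.B D₂ Mc]
      (l : (σ.M ⧸ LinearMap.range σ.α) →ₗ[σ.B] Mc), IsBaseChange D₂ l → DevAt R₂ p₂ D₂ y₂ Mc) :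
    HasDevNhd R S N p q := by
  haveI := σ.finiteBA
  haveI := σ.fp
  obtain ⟨R₃, T, _, _, _, _, _, _, _, _, p₃, y₃, _, _, hy₃p, w, hR₃, hT, hrel₃, hwy, hGI, hdev₃⟩ :=
    σ.exists_geomNhd R₂ p₂ hR₂ D₂ y₂ hD₂ hdev
  have hR₃' := hR₃
  have hT' := hT
  obtain ⟨heR₃, hp₃, hκ₃⟩ := hR₃'
  obtain ⟨heT, hy₃, hκT⟩ := hT'
  haveI := heR₃; haveI := hp₃; haveI := heT; haveI := hy₃; haveI := hy₃p
  haveI : Algebra.Smooth R₃ T := smooth_of_smoothRelDim σ.d hrel₃
  -- the quotient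
  let C₃ := T ⊗[σ.B] σ.A
  haveI : IsScalarTower R σ.A C₃ := IsScalarTower.of_algebraMap_eq fun r => by
    show (algebraMap R T r) ⊗ₜ[σ.B] (1 : σ.A) = (1 : T) ⊗ₜ[σ.B] algebraMap R σ.A r
    rw [IsScalarTower.algebraMap_apply R σ.B T, IsScalarTower.algebraMap_apply R σ.B σ.A,
      Algebra.algebraMap_eq_smul_one (A := T), Algebra.algebraMap_eq_smul_one (A := σ.A) (algebraMap R σ.B r),
      TensorProduct.smul_tmul]
  haveI : IsScalarTower R₃ T C₃ := IsScalarTower.of_algebraMap_eq fun _ => rfl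
  haveI : IsScalarTower R R₃ C₃ := IsScalarTower.of_algebraMap_eq fun r => by
    show algebraMap R T r ⊗ₜ[σ.B] (1 : σ.A) = algebraMap R₃ T (algebraMap R R₃ r) ⊗ₜ[σ.B] (1 : σ.A)
    rw [← IsScalarTower.algebraMap_apply]
  haveI : IsScalarTower σ.B σ.A C₃ := IsScalarTower.of_algebraMap_eq fun b => by
    show (algebraMap σ.B T b) ⊗ₜ[σ.B] (1 : σ.A) = (1 : T) ⊗ₜ[σ.B] algebraMap σ.B σ.A b
    rw [Algebra.algebraMap_eq_smul_one (A := T), Algebra.algebraMap_eq_smul_one (A := σ.A), TensorProduct.smul_tmul]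
  letI : Algebra S C₃ := ((algebraMap σ.A C₃).comp (algebraMap S σ.A)).toAlgebra
  haveI : IsScalarTower S σ.A C₃ := IsScalarTower.of_algebraMap_eq' rfl
  obtain ⟨z₃, hz₃, hz₃z, hz₃y⟩ := FlatDevBC.exists_prime_over (R := σ.B) (R' := T) (T := σ.A) (T' := C₃)
    σ.y y₃ hκT σ.z
  haveI := hz₃; haveI := hz₃z; haveI := hz₃y
  have huniq₃ : ∀ (Q : Ideal C₃) [Q.IsPrime], Q.LiesOver y₃ → Q = z₃ := fun Q _ hQ => by
    haveI := hQ
    haveI : Q.LiesOver σ.z := ⟨by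
      refine (σ.uniq (Q.comap (algebraMap σ.A C₃)) ⟨?_⟩).symm
      show σ.y = (Q.comap (algebraMap σ.A C₃)).comap (algebraMap σ.B σ.A)
      rw [Ideal.comap_comap, ← IsScalarTower.algebraMap_eq, IsScalarTower.algebraMap_eq σ.B T C₃,
        ← Ideal.comap_comap, show Q.comap (algebraMap T C₃) = y₃ from hQ.over.symm]
      exact hy₃.over⟩
    exact FlatDevBC.eq_of_liesOver (R := σ.B) (R' := T) (T := σ.A) (T' := C₃) σ.y y₃ hκT σ.z Q z₃
  haveI : Module.Finite T C₃ := inferInstanceAs (Module.Finite T (T ⊗[σ.B] σ.A))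
  haveI : Algebra.IsIntegral T C₃ := Algebra.IsIntegral.of_finite T C₃
  haveI : Algebra.Etale σ.A C₃ := etale_rightAlgebra σ.B T σ.A
  obtain ⟨c, hcz, S₀, _, _, _, _, _, _, _, _, _, hS₀et, hS₀push⟩ := exists_lift_away R R₃ S σ.A C₃ σ.surj z₃
  haveI := hS₀et; haveI := hS₀push
  let Cc := Localization.Away c
  obtain ⟨e, d, hd, hcd⟩ := DevEtale.exists_dvd_of_unique y₃ z₃ huniq₃ c hcz
  -- shrinking
  let M₀ := σ.M ⧸ LinearMap.range σ.α
  let M₃ := T ⊗[σ.B] M₀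
  let l₃ : M₀ →ₗ[σ.B] M₃ := TensorProduct.mk σ.B T M₀ 1
  have hl₃ : IsBaseChange T l₃ := TensorProduct.isBaseChange σ.B M₀ T
  obtain ⟨g₁, hg₁, h, hh, hwdvd, hg₁h, hsh⟩ := (hdev₃ M₃ l₃ hl₃).shrink (w * d)
    fun hh => (Ideal.IsPrime.mem_or_mem ‹y₃.IsPrime› hh).elim hwy hd
  let U : Set (PrimeSpectrum R₃) := PrimeSpectrum.comap (algebraMap R₃ T) '' (PrimeSpectrum.basicOpen h : Set _)
  have hU : IsOpen U :=
    PrimeSpectrum.isOpenMap_comap_of_hasGoingDown_of_finitePresentation _ (PrimeSpectrum.basicOpen h).isOpen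
  obtain ⟨_, ⟨g₀, rfl⟩, hg₀, hsub⟩ := PrimeSpectrum.isTopologicalBasis_basic_opens.exists_subset_of_mem_open
    (show (⟨p₃, inferInstance⟩ : PrimeSpectrum R₃) ∈ U from
      ⟨⟨y₃, inferInstance⟩, hh, PrimeSpectrum.ext hy₃p.over.symm⟩) hU
  have hg₀ : g₀ ∉ p₃ := hg₀
  let g := g₁ * g₀
  have hg : g ∉ p₃ := fun hh' => (Ideal.IsPrime.mem_or_mem ‹p₃.IsPrime› hh').elim hg₁ hg₀
  let eT : T := h * algebraMap R₃ T g
  have heT' : eT ∉ y₃ := fun hh' =>
    (Ideal.IsPrime.mem_or_mem ‹y₃.IsPrime› hh').elim hh fun h' => hg (hy₃p.over.symm ▸ h')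
  have hsh' : ShrunkAt R₃ p₃ T y₃ M₃ g eT := hsh.mono hg₁ hh hg₁h g₀ hg₀
  have hwe : w ∣ eT := (dvd_trans (dvd_mul_right w _) hwdvd).trans (dvd_mul_right h _)
  have hde : d ∣ eT := (dvd_trans (dvd_mul_left _ w) hwdvd).trans (dvd_mul_right h _)
  -- the new base and smooth algebra
  let R₄ := Localization.Away g
  let T₄ := Localization.Away eT
  have hgT : IsUnit (((algebraMap T T₄).comp (algebraMap R₃ T)) g) :=
    isUnit_of_dvd_unit (map_dvd (algebraMap T T₄) (dvd_mul_left (algebraMap R₃ T g) h))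
      (IsLocalization.Away.algebraMap_isUnit eT)
  letI : Algebra R₄ T₄ := (IsLocalization.Away.lift g hgT).toAlgebra
  haveI : IsScalarTower R₃ R₄ T₄ := IsScalarTower.of_algebraMap_eq fun r => by
    show algebraMap R₃ T₄ r = IsLocalization.Away.lift g hgT (algebraMap R₃ R₄ r)
    rw [IsLocalization.Away.lift_eq, RingHom.comp_apply, ← IsScalarTower.algebraMap_apply]
  haveI : IsScalarTower R R₄ T₄ := IsScalarTower.of_algebraMap_eq fun r => by
    rw [IsScalarTower.algebraMap_apply R R₃ R₄, ← IsScalarTower.algebraMap_apply R₃ R₄ T₄,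
      ← IsScalarTower.algebraMap_apply R R₃ T₄]
  obtain ⟨hp₄0, hp₄p0⟩ := FlatDevLoc.isPrime_map_away (T' := R₄) g p₃ hg
  let p₄ : Ideal R₄ := p₃.map (algebraMap R₃ R₄)
  haveI : p₄.IsPrime := hp₄0
  haveI hp₄p : p₄.LiesOver p₃ := hp₄p0
  obtain ⟨hy₄0, hy₄y0⟩ := FlatDevLoc.isPrime_map_away (T' := T₄) eT y₃ heT'
  let y₄ : Ideal T₄ := y₃.map (algebraMap T T₄)
  haveI : y₄.IsPrime := hy₄0
  haveI hy₄y : y₄.LiesOver y₃ := hy₄y0
  haveI : y₄.LiesOver p₄ := ⟨FlatDevLoc.eq_of_comap_away g _ _ (by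
    show p₄.comap (algebraMap R₃ R₄) = (y₄.comap (algebraMap R₄ T₄)).comap (algebraMap R₃ R₄)
    rw [Ideal.comap_comap, ← IsScalarTower.algebraMap_eq, IsScalarTower.algebraMap_eq R₃ T T₄, ← Ideal.comap_comap,
      show y₄.comap (algebraMap T T₄) = y₃ from hy₄y.over.symm, show p₄.comap (algebraMap R₃ R₄) = p₃ from hp₄p.over.symm]
    exact hy₃p.over)⟩
  have hirr : FlatCA.GeomIrredFibres R₄ T₄ := geomIrred_shrink w hGI g₁ g₀ h hsub hwe R₄ T₄
  have hrel₄ : FlatCA.SmoothRelDim σ.d R₄ T₄ := FlatDevLoc.smoothRelDim_away g σ.d hrel₃ eT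
  have hR₄ : FlatCA.IsEtaleNhd R R₄ p p₄ := isEtaleNhd_trans (p₁ := p₃) hR₃ (isEtaleNhd_away R₄ g p₃ p₄)
  have hT₄ : FlatCA.IsEtaleNhd σ.B T₄ σ.y y₄ := isEtaleNhd_trans (p₁ := y₃) hT (isEtaleNhd_away T₄ eT y₃ y₄)
  -- the new quotient and ambient ring
  let e₃ : C₃ := algebraMap T C₃ eT
  let gC : C₃ := algebraMap R₃ C₃ g
  have hgC : gC ∣ e₃ := by
    refine dvd_trans (dvd_of_eq ?_) (map_dvd (algebraMap T C₃) (dvd_mul_left (algebraMap R₃ T g) h))
    exact IsScalarTower.algebraMap_apply R₃ T C₃ g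
  have hce : c ∣ e₃ := (dvd_mul_right c e).trans ((dvd_of_eq hcd).trans (map_dvd (algebraMap T C₃) hde))
  let A₄ := Localization.Away (algebraMap C₃ Cc (e₃ * gC))
  haveI : IsLocalization.Away (c * (e₃ * gC)) A₄ := IsLocalization.Away.mul' Cc A₄ c (e₃ * gC)
  haveI : IsLocalization.Away e₃ A₄ := FlatDevLoc.away_of_dvd e₃ (c * (e₃ * gC))
    (dvd_mul_of_dvd_right (dvd_mul_right e₃ gC) c) 3
    (by rw [pow_succ', sq]; exact mul_dvd_mul hce (mul_dvd_mul_left e₃ hgC))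
  haveI : IsLocalization (Algebra.algebraMapSubmonoid C₃ (Submonoid.powers eT)) A₄ := by
    rw [Algebra.algebraMapSubmonoid, Submonoid.map_powers]
    exact (inferInstance : IsLocalization.Away e₃ A₄)
  letI : Algebra T₄ A₄ := (IsLocalization.Away.lift eT (g := algebraMap T A₄) (by
    rw [IsScalarTower.algebraMap_apply T C₃ A₄]
    exact IsLocalization.Away.algebraMap_isUnit e₃)).toAlgebra
  haveI : IsScalarTower T T₄ A₄ := IsScalarTower.of_algebraMap_eq fun x => (IsLocalization.Away.lift_eq eT _ x).symm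
  haveI : Algebra.IsPushout T T₄ C₃ A₄ :=
    (Algebra.isPushout_of_isLocalization (Submonoid.powers eT) _ _ _).symm
  haveI : IsScalarTower σ.B T₄ A₄ := IsScalarTower.of_algebraMap_eq fun b => by
    rw [IsScalarTower.algebraMap_apply σ.B T T₄, ← IsScalarTower.algebraMap_apply T T₄ A₄,
      ← IsScalarTower.algebraMap_apply σ.B T A₄]
  haveI : Algebra.IsPushout σ.B T₄ σ.A A₄ := isPushout_trans σ.B T T₄ σ.A C₃ A₄
  have hsurj₀ : Function.Surjective (algebraMap S₀ Cc) := surjective_of_isPushout S S₀ σ.A Cc σ.surj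
  obtain ⟨s, hs⟩ := hsurj₀ (algebraMap C₃ Cc e₃)
  let s' : S₀ := s * algebraMap R₃ S₀ g
  have hs' : algebraMap S₀ Cc s' = algebraMap C₃ Cc (e₃ * gC) := by
    show algebraMap S₀ Cc (s * algebraMap R₃ S₀ g) = _
    rw [map_mul (algebraMap S₀ Cc) s, map_mul (algebraMap C₃ Cc) e₃, hs, ← IsScalarTower.algebraMap_apply R₃ S₀ Cc,
      ← IsScalarTower.algebraMap_apply R₃ C₃ Cc]
  let S₅ := Localization.Away s'
  letI : Algebra S₅ A₄ := (IsLocalization.Away.lift s' (g := algebraMap S₀ A₄) (by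
    rw [IsScalarTower.algebraMap_apply S₀ Cc A₄, hs']
    exact IsLocalization.Away.algebraMap_isUnit _)).toAlgebra
  haveI : IsScalarTower S₀ S₅ A₄ := IsScalarTower.of_algebraMap_eq fun x => (IsLocalization.Away.lift_eq s' _ x).symm
  haveI : Algebra.IsPushout S₀ S₅ Cc A₄ := by
    haveI : IsLocalization (Algebra.algebraMapSubmonoid Cc (Submonoid.powers s')) A₄ := by
      rw [Algebra.algebraMapSubmonoid, Submonoid.map_powers, hs']
      infer_instance
    exact (Algebra.isPushout_of_isLocalization (Submonoid.powers s') _ _ _).symm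
  haveI : IsScalarTower S S₅ A₄ := IsScalarTower.of_algebraMap_eq fun x => by
    rw [IsScalarTower.algebraMap_apply S S₀ S₅, ← IsScalarTower.algebraMap_apply S₀ S₅ A₄,
      ← IsScalarTower.algebraMap_apply S S₀ A₄]
  haveI : Algebra.IsPushout S S₅ σ.A A₄ := isPushout_trans S S₀ S₅ σ.A Cc A₄
  haveI : Algebra.Etale S₀ S₅ := Algebra.Etale.of_isLocalizationAway s'
  haveI : Algebra.Etale S S₅ := Algebra.Etale.comp S S₀ S₅
  have hu5 : IsUnit (algebraMap R₃ S₅ g) := by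
    rw [IsScalarTower.algebraMap_apply R₃ S₀ S₅]
    exact isUnit_of_dvd_unit (map_dvd (algebraMap S₀ S₅) (dvd_mul_left _ s)) (IsLocalization.Away.algebraMap_isUnit s')
  letI : Algebra R₄ S₅ := (IsLocalization.Away.lift g hu5).toAlgebra
  haveI : IsScalarTower R₃ R₄ S₅ := IsScalarTower.of_algebraMap_eq fun r => (IsLocalization.Away.lift_eq g hu5 r).symm
  haveI : IsScalarTower R R₄ S₅ := IsScalarTower.of_algebraMap_eq fun r => by
    rw [IsScalarTower.algebraMap_apply R R₃ R₄, ← IsScalarTower.algebraMap_apply R₃ R₄ S₅,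
      ← IsScalarTower.algebraMap_apply R R₃ S₅]
  letI : Algebra R₄ A₄ := ((algebraMap T₄ A₄).comp (algebraMap R₄ T₄)).toAlgebra
  haveI : IsScalarTower R₄ T₄ A₄ := IsScalarTower.of_algebraMap_eq' rfl
  haveI : IsScalarTower R₄ S₅ A₄ := IsScalarTower.of_algebraMap_eq' (IsLocalization.ringHom_ext (Submonoid.powers g)
    (RingHom.ext fun r => by
      show algebraMap T₄ A₄ (algebraMap R₄ T₄ (algebraMap R₃ R₄ r)) = algebraMap S₅ A₄ (algebraMap R₄ S₅ (algebraMap R₃ R₄ r))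
      rw [← IsScalarTower.algebraMap_apply R₃ R₄ T₄, ← IsScalarTower.algebraMap_apply R₃ R₄ S₅,
        IsScalarTower.algebraMap_apply R₃ T T₄, ← IsScalarTower.algebraMap_apply T T₄ A₄,
        ← IsScalarTower.algebraMap_apply R₃ T A₄, IsScalarTower.algebraMap_apply R₃ S₀ S₅,
        ← IsScalarTower.algebraMap_apply S₀ S₅ A₄, ← IsScalarTower.algebraMap_apply R₃ S₀ A₄]))
  refine σ.hasDevNhd_of R₄ p₄ hR₄ T₄ hrel₄ hirr y₄ hT₄ S₅ A₄ fun Mc _ _ _ _ l hl => ?_
  letI : Module T Mc := Module.compHom Mc (algebraMap T T₄)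
  haveI : IsScalarTower T T₄ Mc := IsScalarTower.of_algebraMap_smul fun _ _ => rfl
  haveI : IsScalarTower σ.B T Mc := IsScalarTower.to₁₂₄ σ.B T T₄ Mc
  let a₃ : M₃ →ₗ[T] Mc := hl₃.lift l
  have e₃' : (a₃.restrictScalars σ.B).comp l₃ = l := LinearMap.ext fun m => hl₃.lift_eq l m
  have h3 : IsBaseChange T₄ a₃ := IsBaseChange.of_comp hl₃ (by
    rw [show ((a₃ : M₃ →ₗ[σ.B] Mc) ∘ₗ l₃) = l from e₃']; exact hl)
  exact hsh' R₄ p₄ T₄ y₄ Mc a₃ h3

end Groth.Agent.DevExist
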