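import Groth.Agent.GeomField.Connected
import Groth.Agent.GrpFieldLib.TwSplit
import Groth.Agent.GrpSchLib.SmoothReduced
import Groth.Agent.CurveCohLib.SmoothCurve
import Groth.Agent.DevExist.PureTrans
import Mathlib.AlgebraicGeometry.Fiber
import Mathlib.RingTheory.RingHom.Smooth

/-!
A smooth algebra, shrunk around a point of a fibre with algebraically closed residue field extension, has
geometrically connected fibre there.
-/

set_option autoImplicit false
set_option backward.isDefEq.respectTransparency false
set_option backward.isDefEq.respectTransparency.types false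

universe u

open CategoryTheory CategoryTheory.Limits AlgebraicGeometry TopologicalSpace TensorProduct

namespace Groth.Agent.DevExist

/-- A point with no new algebraic elements in a connected affine scheme over a field. -/
theorem geometricallyConnected_affine {k F : Type u} [Field k] [CommRing F] [Algebra k F]
    [ConnectedSpace (PrimeSpectrum F)] (x : PrimeSpectrum F)
    (hx : ∀ a : x.asIdeal.ResidueField,
      ((algebraMap F x.asIdeal.ResidueField).comp (algebraMap k F)).IsIntegralElem a →
      a ∈ ((algebraMap F x.asIdeal.ResidueField).comp (algebraMap k F)).range) :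
    GeometricallyConnected (Spec.map (CommRingCat.ofHom (algebraMap k F))) := by
  letI : (Spec (CommRingCat.of F)).Over (Spec (CommRingCat.of k)) :=
    ⟨Spec.map (CommRingCat.ofHom (algebraMap k F))⟩
  haveI : ConnectedSpace ↥(Spec (CommRingCat.of F)) := ‹ConnectedSpace (PrimeSpectrum F)›
  let e := Scheme.Spec.residueFieldIso (CommRingCat.of F) x
  have he : CommRingCat.ofHom (Curv2.resMap k (Spec (CommRingCat.of F)) x) =
      CommRingCat.ofHom (algebraMap k x.asIdeal.ResidueField) ≫ e.inv := by
    show (Scheme.ΓSpecIso (CommRingCat.of k)).inv ≫ (Spec.map (CommRingCat.ofHom (algebraMap k F))).appTop ≫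
      (Spec (CommRingCat.of F)).presheaf.germ ⊤ x trivial ≫ (Spec (CommRingCat.of F)).residue x = _
    rw [← Scheme.ΓSpecIso_inv_naturality_assoc, ← Scheme.Spec.algebraMap_residueFieldIso_inv,
      ← Category.assoc, ← CommRingCat.ofHom_comp, ← IsScalarTower.algebraMap_eq]
  refine Groth.Agent.GeomField.geometricallyConnected_of_point (k := k) (X := Spec (CommRingCat.of F)) x ?_
  intro a ha
  have hinv : ∀ c, Curv2.resMap k (Spec (CommRingCat.of F)) x c = e.inv.hom (algebraMap k _ c) :=
    fun c => DFunLike.congr_fun (congrArg CommRingCat.Hom.hom he) c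
  obtain ⟨P, hP, hPa⟩ := ha
  have ha' : ((algebraMap F x.asIdeal.ResidueField).comp (algebraMap k F)).IsIntegralElem (e.hom.hom a) := by
    refine ⟨P, hP, ?_⟩
    have h1 := congrArg e.hom.hom hPa
    rw [map_zero, Polynomial.hom_eval₂] at h1
    have hcomb : e.hom.hom.comp (Curv2.resMap k (Spec (CommRingCat.of F)) x) =
        algebraMap k x.asIdeal.ResidueField := RingHom.ext fun c => by
      show e.hom.hom (Curv2.resMap k (Spec (CommRingCat.of F)) x c) = _
      rw [hinv]
      exact congr($(e.inv_hom_id).hom _)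
    rw [hcomb, IsScalarTower.algebraMap_eq k F] at h1
    exact h1
  obtain ⟨c, hc⟩ := hx _ ha'
  refine ⟨c, ?_⟩
  rw [hinv, IsScalarTower.algebraMap_eq k F, hc]
  exact congr($(e.hom_inv_id).hom a)

/-- An element cutting out, in the fibre, part of the connected component of a given point. -/
theorem exists_connected_fibre {R D : Type u} [CommRing R] [CommRing D] [Algebra R D] [Algebra.Smooth R D]
    (p : Ideal R) [p.IsPrime] (y : Ideal D) [y.IsPrime] [y.LiesOver p] :
    ∃ g : D, g ∉ y ∧ ∀ (D' : Type u) [CommRing D'] [Algebra D D'] [Algebra R D'] [IsScalarTower R D D']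
      [IsLocalization.Away g D'], ConnectedSpace (PrimeSpectrum (p.Fiber D')) := by
  classical
  let p' : PrimeSpectrum R := ⟨p, inferInstance⟩
  let f := Spec.map (CommRingCat.ofHom (algebraMap R D))
  haveI : Smooth f := HasRingHomProperty.Spec_iff.mpr (RingHom.smooth_algebraMap.mpr ‹_›)
  let h := f.fiberToSpecResidueField p'
  haveI : Smooth h := MorphismProperty.pullback_snd _ _ inferInstance
  haveI : IsLocallyNoetherian (f.fiber p') := LocallyOfFiniteType.isLocallyNoetherian h
  haveI : CompactSpace ↥(f.fiber p') := QuasiCompact.compactSpace_of_compactSpace h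
  haveI : IsNoetherian (f.fiber p') := {}
  let y' : PrimeSpectrum D := ⟨y, inferInstance⟩
  have hy' : f y' = p' := PrimeSpectrum.ext (Ideal.over_def y p).symm
  obtain ⟨y₀, hy₀⟩ : y' ∈ Set.range (f.fiberι p') := by rw [f.range_fiberι]; exact hy'
  have hZo : IsOpen (connectedComponent y₀) := by
    have : LocallyConnectedSpace ↥(f.fiber p') :=
      Groth.Agent.GrpFieldLib.TwSplit.locallyConnectedSpace_of_isLocallyNoetherian _
    exact isOpen_connectedComponent
  let T : Set (PrimeSpectrum D) := f.fiberι p' '' (connectedComponent y₀)ᶜ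
  have hyT : y' ∉ closure T := by
    intro hc
    have hemb := (f.fiberι p').isEmbedding
    have h1 : y₀ ∈ closure ((connectedComponent y₀)ᶜ) := by
      rw [hemb.closure_eq_preimage_closure_image]
      show f.fiberι p' y₀ ∈ closure T
      rwa [hy₀]
    rw [hZo.isClosed_compl.closure_eq] at h1
    exact h1 mem_connectedComponent
  obtain ⟨_, ⟨g, rfl⟩, hyg, hg⟩ := PrimeSpectrum.isTopologicalBasis_basic_opens.exists_subset_of_mem_open
    (show y' ∈ (closure T)ᶜ from hyT) isClosed_closure.isOpen_compl
  refine ⟨g, hyg, fun D' _ _ _ _ _ => ?_⟩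
  let f' := Spec.map (CommRingCat.ofHom (algebraMap R D'))
  let i := Spec.map (CommRingCat.ofHom (algebraMap D D'))
  haveI : IsOpenImmersion i := IsOpenImmersion.of_isLocalization g
  have hif : i ≫ f = f' := by
    rw [← Spec.map_comp, ← CommRingCat.ofHom_comp, ← IsScalarTower.algebraMap_eq]
  let j : f'.fiber p' ⟶ f.fiber p' := pullback.map _ _ _ _ i (𝟙 _) (𝟙 _)
    (by simp [hif]) (by simp)
  haveI : IsOpenImmersion j := inferInstance
  have hj : j ≫ f.fiberι p' = f'.fiberι p' ≫ i := pullback.lift_fst _ _ _
  let Z : (f.fiber p').Opens := ⟨connectedComponent y₀, hZo⟩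
  have hrange : Set.range j ⊆ (Z : Set ↥(f.fiber p')) := by
    rintro _ ⟨z, rfl⟩
    show j z ∈ connectedComponent y₀
    by_contra hz
    have h2 : f.fiberι p' (j z) = i (f'.fiberι p' z) := congr($(hj).base z)
    have h3 : i (f'.fiberι p' z) ∈ (PrimeSpectrum.basicOpen g : Set (PrimeSpectrum D)) :=
      (PrimeSpectrum.localization_away_comap_range D' g).subset ⟨_, rfl⟩
    exact hg h3 (subset_closure ⟨j z, hz, h2⟩)
  haveI : ConnectedSpace ↥Z.toScheme := isConnected_iff_connectedSpace.1 isConnected_connectedComponent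
  haveI : CompactSpace ↥Z.toScheme :=
    isCompact_iff_compactSpace.1 (NoetherianSpace.isCompact (Z : Set ↥(f.fiber p')))
  haveI : IsIntegral Z.toScheme := CurveCohLib.isIntegral_of_smooth_connected (Z.ι ≫ h)
  let j' : f'.fiber p' ⟶ Z.toScheme := IsOpenImmersion.lift Z.ι j (by rw [Scheme.Opens.range_ι]; exact hrange)
  have hj' : j' ≫ Z.ι = j := IsOpenImmersion.lift_fac _ _ _
  haveI : IsOpenImmersion (j' ≫ Z.ι) := hj'.symm ▸ inferInstance
  haveI : IsOpenImmersion j' := IsOpenImmersion.of_comp j' Z.ι
  haveI : PreirreducibleSpace ↥(f'.fiber p') := j'.isOpenEmbedding.preirreducibleSpace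
  obtain ⟨z, hz⟩ : ∃ z, i z = y' := (PrimeSpectrum.localization_away_comap_range D' g).ge hyg
  obtain ⟨z₀, -⟩ : z ∈ Set.range (f'.fiberι p') := by
    rw [f'.range_fiberι]
    show f' z = p'
    rw [← hif]
    exact (congrArg f hz).trans hy'
  haveI : IrreducibleSpace ↥(f'.fiber p') := { toNonempty := ⟨z₀⟩ }
  let eA := Spec.fiberToSpecResidueFieldIso R D' p'
  let eS : f'.fiber p' ≅ Spec (CommRingCat.of (p.Fiber D')) := Arrow.leftFunc.mapIso eA
  haveI : IrreducibleSpace ↥(Spec (CommRingCat.of (p.Fiber D'))) :=
    eS.hom.homeomorph.irreducibleSpace_iff.mp inferInstance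
  exact inferInstanceAs (ConnectedSpace ↥(Spec (CommRingCat.of (p.Fiber D'))))

end Groth.Agent.DevExist
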