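import Groth.Agent.GrassX.PolySmooth
import Groth.Prelude.Def_FlatCA
import Mathlib.AlgebraicGeometry.Morphisms.Etale
import Mathlib.RingTheory.RingHom.Smooth

/-! Relative dimension of smooth algebras: polynomials, étale extensions, base change. -/

set_option autoImplicit false
set_option backward.isDefEq.respectTransparency false
set_option backward.isDefEq.respectTransparency.types false

universe u

open CategoryTheory AlgebraicGeometry TensorProduct

namespace Groth.Agent.DevExist

theorem smooth_of_smoothRelDim {R A : Type u} [CommRing R] [CommRing A] [Algebra R A] (n : ℕ)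
    (h : FlatCA.SmoothRelDim n R A) : Algebra.Smooth R A := by
  haveI := h
  haveI : Smooth (Spec.map (CommRingCat.ofHom (algebraMap R A))) := SmoothOfRelativeDimension.smooth n _
  exact RingHom.smooth_algebraMap.mp (HasRingHomProperty.Spec_iff.mp ‹Smooth _›)

theorem smoothRelDim_mvPolynomial (R : Type u) [CommRing R] (n : ℕ) :
    FlatCA.SmoothRelDim n R (MvPolynomial (Fin n) R) := by
  haveI : Algebra.IsStandardSmoothOfRelativeDimension n R (MvPolynomial (Fin n) R) :=
    haveI := Groth.Agent.GrassX.standardSmooth_mvPolynomial R (ULift.{u} (Fin n)) (d := n) (by simp)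
    Algebra.IsStandardSmoothOfRelativeDimension.of_algEquiv n (MvPolynomial.renameEquiv R Equiv.ulift)
  exact HasRingHomProperty.Spec_iff.mpr (RingHom.locally_of RingHom.isStandardSmoothOfRelativeDimension_respectsIso _
    ((RingHom.isStandardSmoothOfRelativeDimension_algebraMap n).mpr ‹_›))

theorem smoothRelDim_etale {R A B : Type u} [CommRing R] [CommRing A] [CommRing B] [Algebra R A] [Algebra A B]
    [Algebra R B] [IsScalarTower R A B] [Algebra.Etale A B] (n : ℕ) (h : FlatCA.SmoothRelDim n R A) :
    FlatCA.SmoothRelDim n R B := by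
  haveI := h
  haveI : Etale (Spec.map (CommRingCat.ofHom (algebraMap A B))) :=
    HasRingHomProperty.Spec_iff.mpr (RingHom.etale_algebraMap.mpr ‹_›)
  show SmoothOfRelativeDimension n _
  rw [show Spec.map (CommRingCat.ofHom (algebraMap R B)) =
      Spec.map (CommRingCat.ofHom (algebraMap A B)) ≫ Spec.map (CommRingCat.ofHom (algebraMap R A)) by
    rw [← Spec.map_comp, ← CommRingCat.ofHom_comp, ← IsScalarTower.algebraMap_eq]]
  exact (Nat.zero_add n) ▸ (inferInstance : SmoothOfRelativeDimension (0 + n)
    (Spec.map (CommRingCat.ofHom (algebraMap A B)) ≫ Spec.map (CommRingCat.ofHom (algebraMap R A))))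

theorem smoothRelDim_baseChange {R R' A : Type u} [CommRing R] [CommRing R'] [CommRing A] [Algebra R R']
    [Algebra R A] (n : ℕ) (h : FlatCA.SmoothRelDim n R A) : FlatCA.SmoothRelDim n R' (R' ⊗[R] A) := by
  letI := Algebra.TensorProduct.rightAlgebra (R := R) (A := R') (B := A)
  haveI := smoothOfRelativeDimension_isStableUnderBaseChange (n := n)
  have hsq := isPullback_SpecMap_of_isPushout _ _ _ _ (CommRingCat.isPushout_of_isPushout R R' A (R' ⊗[R] A))
  exact MorphismProperty.of_isPullback (P := @SmoothOfRelativeDimension n) hsq.flip h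

end Groth.Agent.DevExist
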