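import Groth.Agent.DevExist.GeomNhd
import Groth.Agent.DevExist.RelDim
import Groth.Agent.DevExist.PureTrans
import Groth.Agent.FlatDevLoc.Basic

/-!
From a finite map of a smooth algebra to an etale thickening of a closed subscheme carrying the module to an
elementary dévissage.
-/

set_option autoImplicit false
set_option backward.isDefEq.respectTransparency false
set_option backward.isDefEq.respectTransparency.types false
attribute [-instance] CategoryTheory.catToReflQuiver

universe u

open TensorProduct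

namespace Groth.Agent.DevExist

theorem bijective_mapₐ_iff {T T' : Type u} [CommRing T] [CommRing T'] [Algebra T T'] (y : Ideal T) [y.IsPrime]
    (y' : Ideal T') [y'.IsPrime] [hy : y'.LiesOver y] :
    Function.Bijective (Ideal.ResidueField.mapₐ y y' (Algebra.ofId T T') hy.over) ↔
      Function.Bijective (Ideal.ResidueField.map y y' (algebraMap T T') hy.over) := Iff.rfl

attribute [local instance] Algebra.TensorProduct.rightAlgebra

set_option maxHeartbeats 3200000 in
theorem nonempty_elemDevissage {R S : Type u} [CommRing R] [CommRing S] [Algebra R S]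
    (N : Type u) [AddCommGroup N] [Module S N] [Module.Finite S N]
    (p : Ideal R) [p.IsPrime] (q : Ideal S) [q.IsPrime] [hqp : q.LiesOver p] (n : ℕ)
    (J : Ideal S) (hJfg : J.FG) (hJ : ∀ j ∈ J, ∀ x : N, j • x = 0)
    (S₁ : Type u) [CommRing S₁] [Algebra S S₁] [Algebra R S₁] [IsScalarTower R S S₁]
    (q₁ : Ideal S₁) [q₁.IsPrime] (hS₁ : FlatCA.IsEtaleNhd S S₁ q q₁)
    (z₁ : Ideal (S₁ ⧸ J.map (algebraMap S S₁))) [z₁.IsPrime]
    (hz₁ : z₁.comap (Ideal.Quotient.mk _) = q₁)
    (D₁ : Type u) [CommRing D₁] [Algebra R D₁] (hD₁ : FlatCA.SmoothRelDim n R D₁)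
    (δ : D₁ →ₐ[R] S₁ ⧸ J.map (algebraMap S S₁)) (hfin : δ.toRingHom.Finite)
    (y₁ : Ideal D₁) [y₁.IsPrime] [hy₁p : y₁.LiesOver p] (hy₁ : z₁.comap δ.toRingHom = y₁)
    (huniq : ∀ z : Ideal (S₁ ⧸ J.map (algebraMap S S₁)), z.IsPrime → z.comap δ.toRingHom = y₁ → z = z₁)
    (hpure : FlatCA.PurelyTranscendental p y₁) :
    Nonempty (FlatCA.ElemDevissage R S N p q n) := by
  haveI : Algebra.Smooth R D₁ := smooth_of_smoothRelDim n hD₁
  obtain ⟨heS₁, hq₁q, hbS₁⟩ := hS₁
  haveI := heS₁; haveI := hq₁q
  haveI hq₁p : q₁.LiesOver p := Ideal.LiesOver.trans q₁ q p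
  -- the neighbourhood of the base
  obtain ⟨R', _, _, p', _, hR', w, y', _, hwy, hy'y, hy'p, hGI⟩ := exists_geomIntegral_nhd p y₁ (by
    letI := (Ideal.ResidueField.mapₐ p y₁ (Algebra.ofId R D₁) hy₁p.over).toRingHom.toAlgebra
    obtain ⟨ι, x, hx, htop⟩ := hpure
    exact fun a ha => mem_range_of_isIntegral x hx.1 htop a ha)
  have hR'' := hR'
  obtain ⟨heR', hp'p, hκ⟩ := hR''
  haveI := heR'; haveI := hp'p; haveI := hy'y; haveI := hy'p
  let T₁ := R' ⊗[R] D₁
  let T := R' ⊗[R] S₁
  let I₁ := J.map (algebraMap S S₁)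
  let I : Ideal T := I₁.map (algebraMap S₁ T)
  let β : S₁ ⧸ I₁ →ₐ[R] T ⧸ I := Ideal.quotientMapₐ I (IsScalarTower.toAlgHom R S₁ T) Ideal.le_comap_map
  let θ : T₁ →ₐ[R'] T ⧸ I :=
    Algebra.TensorProduct.lift (Algebra.ofId R' _) (β.comp δ) fun _ _ => Commute.all _ _
  have hθr : ∀ d : D₁, θ ((1 : R') ⊗ₜ[R] d) = β (δ d) := fun d => by
    show Algebra.TensorProduct.lift _ _ _ _ = _
    rw [Algebra.TensorProduct.lift_tmul, map_one, one_mul]
    rfl
  obtain ⟨w', hw'⟩ := Ideal.Quotient.mk_surjective (θ w)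
  -- the points
  obtain ⟨Q, hQ, hQq, hQp⟩ := Groth.Agent.FlatDevBC.exists_prime_over (T' := T) p p' hκ q₁
  haveI := hQ; haveI := hQq; haveI := hQp
  have hIQ : I ≤ Q := Ideal.map_le_iff_le_comap.2 fun s hs => by
    rw [show Q.comap (algebraMap S₁ T) = q₁ from hQq.over.symm, ← hz₁, Ideal.mem_comap,
      Ideal.Quotient.eq_zero_iff_mem.2 hs]
    exact zero_mem _
  haveI : (Q.map (Ideal.Quotient.mk I)).IsPrime :=
    Ideal.map_isPrime_of_surjective Ideal.Quotient.mk_surjective (by rwa [Ideal.mk_ker])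
  have hQc : (Q.map (Ideal.Quotient.mk I)).comap (Ideal.Quotient.mk I) = Q := by
    rw [Ideal.comap_map_of_surjective _ Ideal.Quotient.mk_surjective, sup_eq_left, ← RingHom.ker_eq_comap_bot, Ideal.mk_ker]
    exact hIQ
  have hzQ : (Q.map (Ideal.Quotient.mk I)).comap β.toRingHom = z₁ := by
    apply Ideal.comap_injective_of_surjective _ Ideal.Quotient.mk_surjective
    rw [hz₁, Ideal.comap_comap,
      show β.toRingHom.comp (Ideal.Quotient.mk I₁) = (Ideal.Quotient.mk I).comp (algebraMap S₁ T) from rfl,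
      ← Ideal.comap_comap, hQc]
    exact hQq.over.symm
  have hθQ : (Q.map (Ideal.Quotient.mk I)).comap θ.toRingHom = y' := by
    haveI : ((Q.map (Ideal.Quotient.mk I)).comap θ.toRingHom).IsPrime := Ideal.IsPrime.comap _
    haveI : ((Q.map (Ideal.Quotient.mk I)).comap θ.toRingHom).LiesOver y₁ := ⟨by
      show y₁ = ((Q.map (Ideal.Quotient.mk I)).comap θ.toRingHom).comap (algebraMap D₁ T₁)
      rw [Ideal.comap_comap, show θ.toRingHom.comp (algebraMap D₁ T₁) = β.toRingHom.comp δ.toRingHom from
        RingHom.ext hθr, ← Ideal.comap_comap, hzQ, hy₁]⟩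
    haveI : ((Q.map (Ideal.Quotient.mk I)).comap θ.toRingHom).LiesOver p' := ⟨by
      show p' = ((Q.map (Ideal.Quotient.mk I)).comap θ.toRingHom).comap (algebraMap R' T₁)
      rw [Ideal.comap_comap, show θ.toRingHom.comp (algebraMap R' T₁) =
        (Ideal.Quotient.mk I).comp (algebraMap R' T) from θ.comp_algebraMap, ← Ideal.comap_comap, hQc]
      exact hQp.over⟩
    exact Groth.Agent.FlatDevBC.eq_of_liesOver p p' hκ y₁ _ _
  have hw'Q : w' ∉ Q := fun h => hwy (by
    rw [← hθQ, Ideal.mem_comap, show θ.toRingHom w = θ w from rfl, ← hw']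
    exact Ideal.mem_map_of_mem (Ideal.Quotient.mk I) h)
  -- the rings
  let S' := Localization.Away w'
  letI : Algebra S T := ((algebraMap S₁ T).comp (algebraMap S S₁)).toAlgebra
  haveI : IsScalarTower S S₁ T := IsScalarTower.of_algebraMap_eq' rfl
  haveI : IsScalarTower R S T := IsScalarTower.of_algebraMap_eq fun r => by
    show algebraMap R T r = algebraMap S₁ T (algebraMap S S₁ (algebraMap R S r))
    rw [← IsScalarTower.algebraMap_apply R S S₁, ← IsScalarTower.algebraMap_apply R S₁ T]
  haveI : IsScalarTower R S S' := IsScalarTower.of_algebraMap_eq fun r => by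
    rw [IsScalarTower.algebraMap_apply R T S', IsScalarTower.algebraMap_apply R S T,
      ← IsScalarTower.algebraMap_apply S T S']
  let I' : Ideal S' := I.map (algebraMap T S')
  let C := S' ⧸ I'
  let D := Localization.Away w
  let χ : T ⧸ I →ₐ[R'] C := Ideal.quotientMapₐ I' (IsScalarTower.toAlgHom R' T S') Ideal.le_comap_map
  have hχ : ∀ t : T, χ (Ideal.Quotient.mk I t) = Ideal.Quotient.mk I' (algebraMap T S' t) := fun _ => rfl
  have hunit : IsUnit ((χ.comp θ) w) := by
    show IsUnit (χ (θ w))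
    rw [← hw', hχ]
    exact (IsLocalization.Away.algebraMap_isUnit w').map _
  let θ' : D →ₐ[R'] C := IsLocalization.Away.liftAlgHom (S := D) w hunit
  have hθ' : ∀ t : T₁, θ' (algebraMap T₁ D t) = χ (θ t) := fun t =>
    IsLocalization.Away.lift_eq w hunit t
  letI : Algebra D C := θ'.toRingHom.toAlgebra
  haveI : IsScalarTower R' D C := IsScalarTower.of_algebraMap_eq fun a => (θ'.commutes a).symm
  -- finiteness
  have hDC : Module.Finite D C := by
    letI : Algebra D₁ (S₁ ⧸ I₁) := δ.toRingHom.toAlgebra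
    haveI : Module.Finite D₁ (S₁ ⧸ I₁) := hfin
    obtain ⟨s, hs⟩ := (Module.finite_def (R := D₁) (M := S₁ ⧸ I₁)).1 inferInstance
    let M : Submodule D C := Submodule.span D ((fun x => χ (β x)) '' (s : Set (S₁ ⧸ I₁)))
    classical
    refine ⟨⟨s.image fun x => χ (β x), ?_⟩⟩
    rw [Finset.coe_image, eq_top_iff]
    intro c _
    show c ∈ M
    have h1 : ∀ x : S₁ ⧸ I₁, χ (β x) ∈ M := fun x => by
      have hx : x ∈ Submodule.span D₁ (s : Set (S₁ ⧸ I₁)) := hs ▸ trivial
      induction hx using Submodule.span_induction with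
      | mem x hx => exact Submodule.subset_span ⟨x, hx, rfl⟩
      | zero => rw [map_zero, map_zero]; exact zero_mem _
      | add a b _ _ ha hb => rw [map_add, map_add]; exact add_mem ha hb
      | smul a b _ hb =>
        have e : χ (β (a • b)) = algebraMap T₁ D ((1 : R') ⊗ₜ[R] a) • χ (β b) := by
          rw [show a • b = δ a * b from rfl, map_mul, map_mul, ← hθr, ← hθ']
          rfl
        rw [e]
        exact M.smul_mem _ hb
    have h2 : ∀ t : T, Ideal.Quotient.mk I' (algebraMap T S' t) ∈ M := fun t => by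
      induction t using TensorProduct.induction_on with
      | zero => rw [map_zero, map_zero]; exact zero_mem _
      | add a b ha hb => rw [map_add, map_add]; exact add_mem ha hb
      | tmul a b =>
        have e : Ideal.Quotient.mk I' (algebraMap T S' (a ⊗ₜ[R] b)) =
            algebraMap R' D a • χ (β (Ideal.Quotient.mk I₁ b)) := by
          rw [Algebra.smul_def, ← IsScalarTower.algebraMap_apply R' D C,
            show a ⊗ₜ[R] b = algebraMap R' T a * algebraMap S₁ T b by
              show a ⊗ₜ[R] b = (a ⊗ₜ[R] (1 : S₁)) * ((1 : R') ⊗ₜ[R] b)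
              rw [Algebra.TensorProduct.tmul_mul_tmul, mul_one, one_mul],
            map_mul, map_mul, ← IsScalarTower.algebraMap_apply R' T S']
          rfl
        rw [e]
        exact M.smul_mem _ (h1 _)
    obtain ⟨c, rfl⟩ := Ideal.Quotient.mk_surjective c
    obtain ⟨⟨t, ⟨_, k, rfl⟩⟩, hc⟩ := IsLocalization.surj (Submonoid.powers w') c
    have hu := (IsLocalization.Away.algebraMap_isUnit (S := D) w).pow k
    obtain ⟨v, hv⟩ := hu.exists_left_inv
    have e : Ideal.Quotient.mk I' c = v • Ideal.Quotient.mk I' (algebraMap T S' t) := by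
      rw [← hc, map_mul, map_pow, map_pow, Algebra.smul_def, mul_left_comm]
      have e1 : algebraMap D C v * (Ideal.Quotient.mk I' (algebraMap T S' w')) ^ k = 1 := by
        rw [show Ideal.Quotient.mk I' (algebraMap T S' w') = algebraMap D C (algebraMap T₁ D w) by
          show _ = θ' _
          rw [hθ', ← hw', hχ], ← map_pow, ← map_mul, hv, map_one]
      rw [e1, mul_one]
    rw [e]
    exact M.smul_mem _ (h2 _)
  -- the module
  have hJI : ∀ x ∈ I', ∀ m : S' ⊗[S] N, x • m = 0 := by
    have hI' : I' = J.map (algebraMap S S') := by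
      show ((J.map (algebraMap S S₁)).map (algebraMap S₁ T)).map (algebraMap T S') = _
      rw [Ideal.map_map, Ideal.map_map, RingHom.comp_assoc]
      rfl
    rw [hI']
    intro x hx m
    induction hx using Submodule.span_induction generalizing m with
    | mem x hx =>
      obtain ⟨j, hj, rfl⟩ := hx
      rw [algebraMap_smul]
      induction m using TensorProduct.induction_on with
      | zero => rw [smul_zero]
      | add a b ha hb => rw [smul_add, ha, hb, add_zero]
      | tmul a b => rw [← TensorProduct.tmul_smul, hJ j hj, TensorProduct.tmul_zero]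
    | zero => rw [zero_smul]
    | add a b _ _ ha hb => rw [add_smul, ha, hb, add_zero]
    | smul a b _ hb => rw [smul_eq_mul, mul_smul, hb, smul_zero]
  let N' := S' ⊗[S] N
  letI mCG : Module C N' := Module.IsTorsionBySet.module (R := S') (I := I') fun m x => hJI x.1 x.2 m
  haveI tS'CG : IsScalarTower S' C N' := Module.IsTorsionBySet.isScalarTower (R := S') (S := S') _
  haveI : Module.Finite C N' := Module.Finite.of_restrictScalars_finite S' C N'
  letI mDG : Module D N' := Module.compHom N' (algebraMap D C)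
  haveI tDCG : IsScalarTower D C N' := IsScalarTower.of_algebraMap_smul fun _ _ => rfl
  haveI tR'CG : IsScalarTower R' C N' := by
    refine ⟨fun a c m => ?_⟩
    obtain ⟨s, rfl⟩ := Ideal.Quotient.mk_surjective c
    show Ideal.Quotient.mk I' (a • s) • m = a • (Ideal.Quotient.mk I' s • m)
    show (a • s) • m = a • (s • m)
    exact smul_assoc a s m
  haveI tR'DG : IsScalarTower R' D N' := IsScalarTower.of_algebraMap_smul fun a m => by
    show algebraMap D C (algebraMap R' D a) • m = a • m
    rw [← IsScalarTower.algebraMap_apply, algebraMap_smul]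
  -- the points
  have hdw := (Ideal.disjoint_powers_iff_notMem w (Ideal.IsPrime.isRadical ‹y'.IsPrime›)).2 hwy
  let yD : Ideal D := y'.map (algebraMap T₁ D)
  haveI : yD.IsPrime := IsLocalization.isPrime_of_isPrime_disjoint _ D _ ‹_› hdw
  haveI : yD.LiesOver y' := IsLocalization.liesOver_map_of_isPrime_disjoint _ _ hdw
  haveI : yD.LiesOver p' := Ideal.LiesOver.trans yD y' p'
  haveI : yD.LiesOver y₁ := Ideal.LiesOver.trans yD y' y₁
  have hdQ := (Ideal.disjoint_powers_iff_notMem w' (Ideal.IsPrime.isRadical ‹Q.IsPrime›)).2 hw'Q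
  let q' : Ideal S' := Q.map (algebraMap T S')
  haveI : q'.IsPrime := IsLocalization.isPrime_of_isPrime_disjoint _ S' _ ‹_› hdQ
  haveI hq'Q : q'.LiesOver Q := IsLocalization.liesOver_map_of_isPrime_disjoint _ _ hdQ
  haveI : q'.LiesOver p' := Ideal.LiesOver.trans q' Q p'
  haveI : q'.LiesOver q₁ := Ideal.LiesOver.trans q' Q q₁
  have hI'q : I' ≤ q' := Ideal.map_mono hIQ
  let z : Ideal C := q'.map (Ideal.Quotient.mk I')
  haveI : z.IsPrime := Ideal.map_isPrime_of_surjective Ideal.Quotient.mk_surjective (by rwa [Ideal.mk_ker])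
  have hzc : z.comap (Ideal.Quotient.mk I') = q' := by
    rw [Ideal.comap_map_of_surjective _ Ideal.Quotient.mk_surjective, sup_eq_left, ← RingHom.ker_eq_comap_bot, Ideal.mk_ker]
    exact hI'q
  haveI hzq : z.LiesOver q' := ⟨hzc.symm⟩
  -- comparison of points of `C` and of `T`
  have hcmp : ∀ (z₂ : Ideal C), ((z₂.comap (algebraMap D C)).comap (algebraMap T₁ D)) =
      (((z₂.comap (Ideal.Quotient.mk I')).comap (algebraMap T S')).map (Ideal.Quotient.mk I)).comap θ.toRingHom := by
    intro z₂
    have e : ((z₂.comap (Ideal.Quotient.mk I')).comap (algebraMap T S')).map (Ideal.Quotient.mk I) =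
        z₂.comap χ.toRingHom := by
      rw [← Ideal.map_comap_of_surjective _ Ideal.Quotient.mk_surjective (z₂.comap χ.toRingHom)]
      rfl
    rw [e, Ideal.comap_comap, Ideal.comap_comap]
    congr 1
    exact RingHom.ext hθ'
  have hzy' : z.comap (algebraMap D C) = yD := by
    rw [← IsLocalization.map_comap (Submonoid.powers w) D (z.comap (algebraMap D C))]
    show ((z.comap (algebraMap D C)).comap (algebraMap T₁ D)).map (algebraMap T₁ D) = yD
    rw [hcmp, hzc,
      show q'.comap (algebraMap T S') = Q from hq'Q.over.symm, hθQ]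
  haveI : z.LiesOver yD := ⟨hzy'.symm⟩
  refine ⟨{
    R' := R', S' := S', C := C, D := D, N' := N', G := N'
    p' := p', q' := q', z := z, y := yD
    etaleR := hR'
    etaleS := ?_
    f := TensorProduct.mk S S' N 1
    isBaseChange := TensorProduct.isBaseChange S N S'
    surjC := Ideal.Quotient.mk_surjective
    fpC := Algebra.FinitePresentation.quotient (((hJfg.map _).map _).map _)
    iso := LinearEquiv.refl S' N'
    finiteDC := hDC
    finiteG := inferInstance
    uniq := ?_
    pureTrans := ?_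
    smooth := ?_
    geomInt := hGI }⟩
  · haveI : Algebra.Etale S₁ T := Algebra.Etale.of_equiv (AlgEquiv.ofRingEquiv
      (f := (Algebra.TensorProduct.comm R S₁ R').toRingEquiv)
      (fun a => Algebra.TensorProduct.comm_tmul (R := R) (A := S₁) (B := R') a 1))
    have hQe : FlatCA.IsEtaleNhd S₁ T q₁ Q :=
      ⟨inferInstance, hQq, (bijective_mapₐ_iff q₁ Q).2 (Groth.Agent.FlatDevBC.residueField_bijective p p' hκ q₁ Q)⟩
    exact isEtaleNhd_trans (p₁ := Q) (isEtaleNhd_trans (p₁ := q₁) ⟨heS₁, hq₁q, hbS₁⟩ hQe) (isEtaleNhd_away S' w' Q q')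
  · intro z₂ _ hz₂
    let Q₂ := (z₂.comap (Ideal.Quotient.mk I')).comap (algebraMap T S')
    have hIQ₂ : I ≤ Q₂ := fun t ht => by
      show Ideal.Quotient.mk I' (algebraMap T S' t) ∈ z₂
      rw [Ideal.Quotient.eq_zero_iff_mem.2 (Ideal.mem_map_of_mem _ ht)]
      exact zero_mem _
    have h1 : ((Q₂.map (Ideal.Quotient.mk I)).comap θ.toRingHom) = y' := by
      rw [← hcmp, show z₂.comap (algebraMap D C) = yD from hz₂.over.symm]
      exact (Ideal.over_def yD y').symm
    haveI : (Q₂.map (Ideal.Quotient.mk I)).IsPrime :=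
      Ideal.map_isPrime_of_surjective Ideal.Quotient.mk_surjective (by rwa [Ideal.mk_ker])
    have hQ₂c : (Q₂.map (Ideal.Quotient.mk I)).comap (Ideal.Quotient.mk I) = Q₂ := by
      rw [Ideal.comap_map_of_surjective _ Ideal.Quotient.mk_surjective, sup_eq_left, ← RingHom.ker_eq_comap_bot, Ideal.mk_ker]
      exact hIQ₂
    haveI : Q₂.LiesOver p' := ⟨by
      show p' = Q₂.comap (algebraMap R' T)
      conv_rhs => rw [← hQ₂c]
      rw [Ideal.comap_comap, show (Ideal.Quotient.mk I).comp (algebraMap R' T) = θ.toRingHom.comp (algebraMap R' T₁) from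
        θ.comp_algebraMap.symm, ← Ideal.comap_comap, h1]
      exact hy'p.over⟩
    haveI : Q₂.LiesOver q₁ := ⟨by
      show q₁ = Q₂.comap (algebraMap S₁ T)
      have h2 : (Q₂.map (Ideal.Quotient.mk I)).comap β.toRingHom = z₁ := by
        refine huniq _ (Ideal.IsPrime.comap _) ?_
        rw [Ideal.comap_comap, show β.toRingHom.comp δ.toRingHom = θ.toRingHom.comp (algebraMap D₁ T₁) from
          RingHom.ext fun d => (hθr d).symm, ← Ideal.comap_comap, h1]
        exact hy'y.over.symm
      rw [← hz₁, ← h2, Ideal.comap_comap,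
        show β.toRingHom.comp (Ideal.Quotient.mk I₁) = (Ideal.Quotient.mk I).comp (algebraMap S₁ T) from rfl,
        ← Ideal.comap_comap, hQ₂c]⟩
    have hQQ : Q₂ = Q := Groth.Agent.FlatDevBC.eq_of_liesOver p p' hκ q₁ _ _
    apply Ideal.comap_injective_of_surjective _ Ideal.Quotient.mk_surjective
    rw [hzc, ← IsLocalization.map_comap (Submonoid.powers w') S' (z₂.comap (Ideal.Quotient.mk I'))]
    exact congrArg (Ideal.map (algebraMap T S')) hQQ
  · haveI : p'.LiesOver p' := ⟨rfl⟩
    haveI : IsLocalization (⊥ : Submonoid R') R' := IsLocalization.self bot_le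
    exact Groth.Agent.FlatDevLoc.purelyTranscendental_of_bijective p' p'
      (Groth.Agent.FlatDevLoc.residueField_bijectiveₐ_of_isLocalization (⊥ : Submonoid R') p' p') y' yD
      (Groth.Agent.FlatDevLoc.residueField_bijective_of_isLocalization (Submonoid.powers w) y' yD)
      (Groth.Agent.FlatDevBC.purelyTranscendental_baseChange p p' hκ y₁ y' hpure)
  · haveI : Algebra.Etale T₁ D := Algebra.Etale.of_isLocalizationAway w
    exact smoothRelDim_etale n (smoothRelDim_baseChange (R' := R') n hD₁)

end Groth.Agent.DevExist
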