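import Groth.Agent.S1324
import Groth.Agent.S9765
import Groth.Agent.GrpFieldLib.SCSection
import Groth.Agent.CurveCohLib.SmoothCurve
import Groth.Agent.GrpSchLib.IsogenyFibre
import Groth.Agent.GrpSchLib.GeomIrr
import Groth.Agent.AlgSpPts.Geom

/-!
An open on which the geometric fibres are irreducible, from a section over a finite etale cover with one
point over the given point of the base.
-/

set_option autoImplicit false
set_option backward.isDefEq.respectTransparency false
set_option backward.isDefEq.respectTransparency.types false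

universe u

open CategoryTheory CategoryTheory.Limits AlgebraicGeometry TopologicalSpace

namespace Groth.Agent.DevExist

variable {W S X₁ : Scheme.{u}}

theorem lift_point {X S : Scheme.{u}} (g : X ⟶ S) [Etale g] {K : Type u} [Field K] [IsAlgClosed K]
    (x : Spec (CommRingCat.of K) ⟶ S) (hx : x (IsLocalRing.closedPoint K) ∈ Set.range g) :
    ∃ x₁ : Spec (CommRingCat.of K) ⟶ X, x₁ ≫ g = x := by
  obtain ⟨a, ha⟩ := hx
  obtain ⟨w, -, hw⟩ := Scheme.Pullback.exists_preimage_pullback (f := g) (g := x) a (IsLocalRing.closedPoint K : PrimeSpectrum K) ha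
  haveI : Etale (CategoryTheory.Over.homMk (U := Over.mk (pullback.snd g x ≫ x)) (V := Over.mk x)
    (pullback.snd g x) rfl).left := by
    show Etale (pullback.snd g x); infer_instance
  obtain ⟨s, hs, -⟩ := Groth.Agent.AlgSpPts.exists_section_of_etale
    (CategoryTheory.Over.homMk (U := Over.mk (pullback.snd g x ≫ x)) (V := Over.mk x) (pullback.snd g x) rfl) w
  refine ⟨s.left ≫ pullback.fst g x, ?_⟩
  have h2 : s.left ≫ pullback.snd g x = 𝟙 _ := congrArg (fun m => m.left) hs
  rw [Category.assoc, pullback.condition, reassoc_of% h2]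

theorem exists_irreducible_open (f : W ⟶ S) [Smooth f] [IsAffine W] [IsAffine S] (g : X₁ ⟶ S) [IsFinite g]
    [Etale g] (σ : X₁ ⟶ W) (hσ : σ ≫ f = g) (x₁ : X₁) (huniq : ∀ z, g z = g x₁ → z = x₁)
    (hconn : GeometricallyConnected (f.fiberToSpecResidueField (g x₁))) :
    ∃ U : W.Opens, (∀ w, f w = g x₁ → w ∈ U) ∧
      ∀ (K : Type u) [Field K] [IsAlgClosed K] (x : Spec (CommRingCat.of K) ⟶ S),
        x (IsLocalRing.closedPoint K) ∈ Set.range g → Nonempty ↥(pullback (U.ι ≫ f) x) →
        IrreducibleSpace ↥(pullback (U.ι ≫ f) x) := by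
  haveI : IsAffine X₁ := isAffine_of_isAffineHom g
  let f₁ := pullback.snd f g
  let π := pullback.fst f g
  let e : X₁ ⟶ pullback f g := pullback.lift σ (𝟙 _) (by rw [hσ, Category.id_comp])
  have he : e ≫ f₁ = 𝟙 _ := pullback.lift_snd _ _ _
  haveI : QuasiSeparatedSpace ↥(pullback f g) := inferInstance
  let C := MoreMor.sectionComponents f₁ e
  have hC : IsOpen C := GrpFieldLib.SecComp.isOpen_sectionComponents f₁ e he
  haveI : IsFinite π := MorphismProperty.pullback_fst f g inferInstance
  have hcl : IsClosed (π '' Cᶜ) := π.isClosedMap _ hC.isClosed_compl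
  let U : W.Opens := ⟨(π '' Cᶜ)ᶜ, hcl.isOpen_compl⟩
  have hfib : ∀ z, f₁ z = x₁ → z ∈ C := by
    intro z hz
    have h1 : GeometricallyConnected (f₁.fiberToSpecResidueField x₁) := by
      have := (Set.ext_iff.mp (Groth.Agent.S9765.result f g f₁ π (IsPullback.of_hasPullback f g)) x₁).2 hconn
      exact this
    haveI : ConnectedSpace ↥(f₁.fiber x₁) :=
      h1.geometrically_connectedSpace _ (𝟙 _) (f₁.fiberToSpecResidueField x₁) (IsPullback.of_id_fst)
    have hpre : _root_.IsPreconnected (f₁ ⁻¹' {x₁}) := by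
      rw [← f₁.range_fiberι]
      exact isPreconnected_range (f₁.fiberι x₁).continuous
    show z ∈ connectedComponentIn (f₁ ⁻¹' {f₁ z}) (e (f₁ z))
    rw [hz]
    exact hpre.subset_connectedComponentIn (show f₁ (e x₁) = x₁ from congr($(he).base x₁)) subset_rfl hz
  refine ⟨U, fun w hw => ?_, fun K _ _ x hx hne => ?_⟩
  · rintro ⟨z, hz, rfl⟩
    refine hz (hfib z (huniq _ ?_))
    have := congr($(pullback.condition (f := f) (g := g)).base z)
    exact this.symm.trans hw
  obtain ⟨x', hx'⟩ := lift_point g x hx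
  let b := pullback.snd f x
  let t : pullback f x ⟶ pullback f g := pullback.lift (pullback.fst f x) (b ≫ x')
    (by rw [Category.assoc, hx', pullback.condition])
  have ht1 : t ≫ π = pullback.fst f x := pullback.lift_fst _ _ _
  have ht2 : t ≫ f₁ = b ≫ x' := pullback.lift_snd _ _ _
  have hp : IsPullback t b f₁ x' := by
    refine IsPullback.of_right ?_ ht2 (IsPullback.of_hasPullback f g)
    rw [ht1, hx']
    exact IsPullback.of_hasPullback f x
  let eK : Spec (CommRingCat.of K) ⟶ pullback f x := pullback.lift (x' ≫ σ) (𝟙 _)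
    (by rw [Category.assoc, hσ, hx', Category.id_comp])
  have heK : eK ≫ b = 𝟙 _ := pullback.lift_snd _ _ _
  have heKt : eK ≫ t = x' ≫ e := by
    apply pullback.hom_ext
    · rw [Category.assoc, ht1, Category.assoc, pullback.lift_fst, pullback.lift_fst]
    · rw [Category.assoc, ht2, ← Category.assoc, heK, Category.id_comp, Category.assoc, he, Category.comp_id]
  have hsc := Groth.Agent.S1324.result f₁ e he b t x' hp eK heK heKt
  let y : ↥(Spec (CommRingCat.of K)) := IsLocalRing.closedPoint K
  haveI : Subsingleton ↥(Spec (CommRingCat.of K)) := inferInstanceAs (Subsingleton (PrimeSpectrum K))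
  have hcomp : MoreMor.sectionComponents b eK = connectedComponent (eK y) := by
    ext z
    show z ∈ connectedComponentIn (b ⁻¹' {b z}) (eK (b z)) ↔ _
    rw [show b ⁻¹' {b z} = Set.univ from Set.eq_univ_of_forall fun _ => Subsingleton.elim _ _,
      connectedComponentIn_univ, Subsingleton.elim (b z) y]
  let Z : (pullback f x).Opens := ⟨t ⁻¹' C, hC.preimage t.continuous⟩
  have hZ : (Z : Set ↥(pullback f x)) = connectedComponent (eK y) := hsc.symm.trans hcomp
  haveI : ConnectedSpace ↥Z.toScheme := isConnected_iff_connectedSpace.1 (hZ ▸ isConnected_connectedComponent)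
  haveI : IsLocallyNoetherian (pullback f x) := LocallyOfFiniteType.isLocallyNoetherian b
  haveI : IsNoetherian (pullback f x) := {}
  haveI : CompactSpace ↥Z.toScheme := isCompact_iff_compactSpace.1 (NoetherianSpace.isCompact (Z : Set ↥(pullback f x)))
  haveI : IsIntegral Z.toScheme := CurveCohLib.isIntegral_of_smooth_connected (Z.ι ≫ b)
  let j : pullback (U.ι ≫ f) x ⟶ pullback f x := pullback.map _ _ _ _ U.ι (𝟙 _) (𝟙 _) (by simp) (by simp)
  haveI : IsOpenImmersion j := inferInstance
  have hj1 : j ≫ pullback.fst f x = pullback.fst _ _ ≫ U.ι := pullback.lift_fst _ _ _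
  have hrange : Set.range j ⊆ (Z : Set ↥(pullback f x)) := by
    rintro _ ⟨p, rfl⟩
    show t (j p) ∈ C
    by_contra hbad
    have h1 : π (t (j p)) = U.ι (pullback.fst (U.ι ≫ f) x p) :=
      (congr($(ht1).base (j p))).trans (congr($(hj1).base p))
    have hU : U.ι (pullback.fst (U.ι ≫ f) x p) ∈ U := (pullback.fst (U.ι ≫ f) x p).2
    exact hU ⟨_, hbad, h1⟩
  let j' : pullback (U.ι ≫ f) x ⟶ Z.toScheme := IsOpenImmersion.lift Z.ι j (by rw [Scheme.Opens.range_ι]; exact hrange)
  have hj' : j' ≫ Z.ι = j := IsOpenImmersion.lift_fac _ _ _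
  haveI : IsOpenImmersion (j' ≫ Z.ι) := hj'.symm ▸ inferInstance
  haveI : IsOpenImmersion j' := IsOpenImmersion.of_comp j' Z.ι
  haveI : PreirreducibleSpace ↥Z.toScheme := inferInstance
  haveI : PreirreducibleSpace ↥(pullback (U.ι ≫ f) x) := j'.isOpenEmbedding.preirreducibleSpace
  exact { toNonempty := hne }

end Groth.Agent.DevExist
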