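import Groth.Agent.DevExist.GeomComp
import Groth.Agent.DevExist.Fibre
import Groth.Agent.S0412
import Groth.Agent.FlatDevBC.At
import Groth.Agent.FlatDevLoc.Basic
import Mathlib.RingTheory.Etale.QuasiFinite
import Mathlib.RingTheory.RingHom.Etale

/-!
Geometrically integral fibres after an elementary etale localization of the base, near a point of a smooth
algebra whose residue field extension has no new algebraic elements.
-/

set_option autoImplicit false
set_option backward.isDefEq.respectTransparency false
set_option backward.isDefEq.respectTransparency.types false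
attribute [-instance] CategoryTheory.catToReflQuiver

universe u

open CategoryTheory CategoryTheory.Limits AlgebraicGeometry TopologicalSpace TensorProduct

namespace Groth.Agent.DevExist

theorem residueFieldBot_bijective (R : Type u) [CommRing R] (p : Ideal R) [p.IsPrime]
    [h : (⊥ : Ideal p.ResidueField).LiesOver p] :
    Function.Bijective (Ideal.ResidueField.mapₐ p (⊥ : Ideal p.ResidueField)
      (Algebra.ofId R p.ResidueField) h.over) := by
  refine ⟨RingHom.injective _, fun z => ?_⟩
  obtain ⟨a, b, -, rfl⟩ := IsFractionRing.div_surjective (A := p.ResidueField ⧸ (⊥ : Ideal p.ResidueField)) z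
  obtain ⟨a, rfl⟩ := Ideal.Quotient.mk_surjective a
  obtain ⟨b, rfl⟩ := Ideal.Quotient.mk_surjective b
  let m := Ideal.ResidueField.mapₐ p (⊥ : Ideal p.ResidueField) (Algebra.ofId R p.ResidueField) h.over
  have hm : m.toRingHom = algebraMap p.ResidueField (⊥ : Ideal p.ResidueField).ResidueField := by
    apply IsLocalization.ringHom_ext (nonZeroDivisors (R ⧸ p))
    refine Ideal.Quotient.ringHom_ext (RingHom.ext fun r => ?_)
    simp only [RingHom.coe_comp, Function.comp_apply, Ideal.algebraMap_quotient_residueField_mk]
    show m (algebraMap R p.ResidueField r) = _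
    rw [AlgHom.commutes, IsScalarTower.algebraMap_apply R p.ResidueField]
  refine ⟨a / b, ?_⟩
  show m.toRingHom (a / b) = _
  rw [map_div₀, hm, Ideal.algebraMap_quotient_residueField_mk, Ideal.algebraMap_quotient_residueField_mk]

attribute [local instance] Algebra.TensorProduct.rightAlgebra

/-- The fibre of a shrinking of a smooth algebra is geometrically connected. -/
theorem exists_geomConnected_away {R D : Type u} [CommRing R] [CommRing D] [Algebra R D] [Algebra.Smooth R D]
    (p : Ideal R) [hp : p.IsPrime] (y : Ideal D) [y.IsPrime] [hyp : y.LiesOver p]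
    (hy : ∀ a : y.ResidueField, (Ideal.ResidueField.mapₐ p y (Algebra.ofId R D) hyp.over).toRingHom.IsIntegralElem a →
      a ∈ (Ideal.ResidueField.mapₐ p y (Algebra.ofId R D) hyp.over).toRingHom.range) :
    ∃ g : D, g ∉ y ∧ GeometricallyConnected
      ((Spec.map (CommRingCat.ofHom (algebraMap R (Localization.Away g)))).fiberToSpecResidueField ⟨p, hp⟩) := by
  obtain ⟨g, hg, hconn⟩ := exists_connected_fibre p y
  refine ⟨g, hg, ?_⟩
  let D0 := Localization.Away g
  haveI : ConnectedSpace (PrimeSpectrum (p.Fiber D0)) := hconn D0
  have hd := (Ideal.disjoint_powers_iff_notMem g (Ideal.IsPrime.isRadical ‹y.IsPrime›)).2 hg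
  let y0 : Ideal D0 := y.map (algebraMap D D0)
  haveI : y0.IsPrime := IsLocalization.isPrime_of_isPrime_disjoint _ D0 _ ‹_› hd
  haveI hy0 : y0.LiesOver y := IsLocalization.liesOver_map_of_isPrime_disjoint _ _ hd
  haveI : y0.LiesOver p := Ideal.LiesOver.trans y0 y p
  haveI hbot : (⊥ : Ideal p.ResidueField).LiesOver p := ⟨by
    ext r
    show r ∈ p ↔ algebraMap R p.ResidueField r = 0
    exact Ideal.algebraMap_residueField_eq_zero.symm⟩
  obtain ⟨x, hx, hxy, hxb⟩ := Groth.Agent.FlatDevBC.exists_prime_over (T' := p.Fiber D0) p
    (⊥ : Ideal p.ResidueField) (residueFieldBot_bijective R p) y0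
  have hκ := Groth.Agent.FlatDevBC.residueField_bijective p (⊥ : Ideal p.ResidueField)
    (residueFieldBot_bijective R p) y0 x
  have hκ0 := Groth.Agent.FlatDevLoc.residueField_bijective_of_isLocalization (T' := D0) (Submonoid.powers g) y y0
  have hG : GeometricallyConnected (Spec.map (CommRingCat.ofHom (algebraMap p.ResidueField (p.Fiber D0)))) := by
    refine geometricallyConnected_affine (⟨x, hx⟩ : PrimeSpectrum (p.Fiber D0)) fun a ha => ?_
    let m : y.ResidueField →+* x.ResidueField :=
      (Ideal.ResidueField.map y0 x (algebraMap D0 (p.Fiber D0)) hxy.over).comp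
        (Ideal.ResidueField.map y y0 (algebraMap D D0) hy0.over)
    have hm : Function.Bijective m := hκ.comp hκ0
    let mp := (Ideal.ResidueField.mapₐ p y (Algebra.ofId R D) hyp.over).toRingHom
    have hcomp : m.comp mp =
        (algebraMap (p.Fiber D0) x.ResidueField).comp (algebraMap p.ResidueField (p.Fiber D0)) := by
      apply IsLocalization.ringHom_ext (nonZeroDivisors (R ⧸ p))
      refine Ideal.Quotient.ringHom_ext (RingHom.ext fun r => ?_)
      simp only [RingHom.coe_comp, Function.comp_apply, Ideal.algebraMap_quotient_residueField_mk]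
      show Ideal.ResidueField.map y0 x (algebraMap D0 (p.Fiber D0)) hxy.over
        (Ideal.ResidueField.map y y0 (algebraMap D D0) hy0.over
          (Ideal.ResidueField.mapₐ p y (Algebra.ofId R D) hyp.over (algebraMap R p.ResidueField r))) = _
      rw [AlgHom.commutes, IsScalarTower.algebraMap_apply R D y.ResidueField, Ideal.ResidueField.map_algebraMap,
        Ideal.ResidueField.map_algebraMap, ← IsScalarTower.algebraMap_apply R D D0,
        ← IsScalarTower.algebraMap_apply R D0 (p.Fiber D0),
        ← IsScalarTower.algebraMap_apply R p.ResidueField (p.Fiber D0)]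
    obtain ⟨b, rfl⟩ := hm.2 a
    obtain ⟨P, hP, hPb⟩ := ha
    have hb : mp.IsIntegralElem b := by
      refine ⟨P, hP, hm.1 ?_⟩
      rw [map_zero, Polynomial.hom_eval₂, hcomp]
      exact hPb
    obtain ⟨c, hc⟩ := hy b hb
    refine ⟨c, ?_⟩
    rw [← hc]
    exact (DFunLike.congr_fun hcomp c).symm
  exact (MorphismProperty.arrow_mk_iso_iff @GeometricallyConnected
    (Spec.fiberToSpecResidueFieldIso R D0 ⟨p, hp⟩)).2 hG

theorem geomIntegral_of_algClosed {R D : Type u} [CommRing R] [CommRing D] [Algebra R D] [Algebra.Smooth R D]
    (h : ∀ (K : Type u) [Field K] [IsAlgClosed K] (x : Spec (CommRingCat.of K) ⟶ Spec (CommRingCat.of R)),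
      IrreducibleSpace ↥(pullback (Spec.map (CommRingCat.ofHom (algebraMap R D))) x)) :
    FlatCA.GeomIntegralFibres R D := by
  let f := Spec.map (CommRingCat.ofHom (algebraMap R D))
  haveI : Smooth f := HasRingHomProperty.Spec_iff.mpr (RingHom.smooth_algebraMap.mpr ‹_›)
  haveI : GeometricallyReduced f := GrpSchLib.IsogenyFibre.geometricallyReduced_of_smooth' f
  haveI : GeometricallyIrreducible f := by
    rw [GeometricallyIrreducible.iff_geometricallyIrreducible_fiber]
    intro s
    refine GrpSchLib.geometricallyIrreducible_of_algClosure (K := (Spec (CommRingCat.of R)).residueField s) _ ?_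
    exact (pullbackLeftPullbackSndIso f ((Spec (CommRingCat.of R)).fromSpecResidueField s) _).hom.homeomorph.irreducibleSpace_iff.mpr (h _ _)
  exact GeometricallyIntegral.of_geometricallyReduced_of_geometricallyIrreducible f

end Groth.Agent.DevExist
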