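import Groth.Agent.DevExist.Extend
import Groth.Agent.DevExist.Dim
import Groth.Agent.DevExist.Elem
import Groth.Agent.DevExist.Build

/-! Existence of complete dévissages on elementary etale neighbourhoods. -/

set_option autoImplicit false
set_option backward.isDefEq.respectTransparency false
set_option backward.isDefEq.respectTransparency.types false
attribute [-instance] CategoryTheory.catToReflQuiver

universe u

open TensorProduct

namespace Groth.Agent.DevExist

/-- A dévissage on a neighbourhood of an elementary etale neighbourhood gives one. -/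
theorem HasDevNhd.of_nhd {R : Type u} [CommRing R] {S : Type u} [CommRing S] [Algebra R S] {N : Type u}
    [AddCommGroup N] [Module S N] {p : Ideal R} [p.IsPrime] {q : Ideal S} [q.IsPrime]
    (R' S' : Type u) [CommRing R'] [CommRing S'] [Algebra R R'] [Algebra S S'] [Algebra R' S'] [Algebra R S']
    [IsScalarTower R R' S'] [IsScalarTower R S S'] (p' : Ideal R') (q' : Ideal S') [p'.IsPrime] [q'.IsPrime]
    (hR : FlatCA.IsEtaleNhd R R' p p') (hS : FlatCA.IsEtaleNhd S S' q q')
    (N' : Type u) [AddCommGroup N'] [Module S' N'] [Module S N'] [IsScalarTower S S' N'] (f : N →ₗ[S] N')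
    (hf : IsBaseChange S' f) (h : HasDevNhd R' S' N' p' q') : HasDevNhd R S N p q := by
  obtain ⟨R'', S'', _, _, _, _, _, _, _, _, p'', q'', _, _, hR', hS', hover, hdev⟩ := h
  letI : Algebra R R'' := ((algebraMap R' R'').comp (algebraMap R R')).toAlgebra
  haveI : IsScalarTower R R' R'' := IsScalarTower.of_algebraMap_eq' rfl
  letI : Algebra S S'' := ((algebraMap S' S'').comp (algebraMap S S')).toAlgebra
  haveI : IsScalarTower S S' S'' := IsScalarTower.of_algebraMap_eq' rfl
  letI : Algebra R S'' := ((algebraMap R'' S'').comp (algebraMap R R'')).toAlgebra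
  haveI : IsScalarTower R R'' S'' := IsScalarTower.of_algebraMap_eq' rfl
  haveI : IsScalarTower R S S'' := IsScalarTower.of_algebraMap_eq fun r => by
    show algebraMap R'' S'' (algebraMap R' R'' (algebraMap R R' r)) =
      algebraMap S' S'' (algebraMap S S' (algebraMap R S r))
    rw [← IsScalarTower.algebraMap_apply R S S', IsScalarTower.algebraMap_apply R R' S',
      ← IsScalarTower.algebraMap_apply R' R'' S'', ← IsScalarTower.algebraMap_apply R' S' S'']
  refine ⟨R'', S'', inferInstance, inferInstance, inferInstance, inferInstance, inferInstance, inferInstance,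
    inferInstance, inferInstance, p'', q'', inferInstance, inferInstance, isEtaleNhd_trans (p₁ := p') hR hR',
    isEtaleNhd_trans (p₁ := q') hS hS', hover, ?_⟩
  intro N'' _ _ _ _ f'' hf''
  letI : Module S' N'' := Module.compHom N'' (algebraMap S' S'')
  haveI : IsScalarTower S' S'' N'' := IsScalarTower.of_algebraMap_smul fun _ _ => rfl
  haveI : IsScalarTower S S' N'' := IsScalarTower.to₁₂₄ S S' S'' N''
  let a : N' →ₗ[S'] N'' := hf.lift f''
  have e : (a.restrictScalars S).comp f = f'' := LinearMap.ext fun m => hf.lift_eq f'' m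
  exact hdev N'' a (IsBaseChange.of_comp hf (by
    rw [show ((a : N' →ₗ[S] N'') ∘ₗ f) = f'' from e]; exact hf''))

/-- A step with cokernel killed off the point gives a dévissage on an open neighbourhood. -/
theorem Step.hasDevNhd_of_smul {R : Type u} [CommRing R] {p : Ideal R} [p.IsPrime] {S : Type u} [CommRing S]
    [Algebra R S] {q : Ideal S} [q.IsPrime] [hqp : q.LiesOver p] {N : Type u} [AddCommGroup N] [Module S N]
    (σ : Step R p S q N) (d : σ.B) (hd : d ∉ σ.y) (hz : ∀ m : σ.M ⧸ LinearMap.range σ.α, d • m = 0) :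
    HasDevNhd R S N p q := by
  obtain ⟨g, hg, hX, hhX, -, hgX, hsh⟩ := σ.shrink 1 (fun h => Ideal.IsPrime.ne_top ‹q.IsPrime›
    ((Ideal.eq_top_iff_one _).2 h)) fun d' hd' =>
      ⟨1, fun h => Ideal.IsPrime.ne_top ‹p.IsPrime› ((Ideal.eq_top_iff_one _).2 h), d' * d,
        fun h => (σ.hy.mem_or_mem h).elim hd' hd, dvd_mul_right _ _, Or.inl fun m => by rw [mul_smul, hz, smul_zero]⟩
  let R' := Localization.Away g
  let S' := Localization.Away hX
  have hgS : IsUnit (((algebraMap S S').comp (algebraMap R S)) g) :=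
    isUnit_of_dvd_unit (map_dvd (algebraMap S S') hgX) (IsLocalization.Away.algebraMap_isUnit hX)
  letI : Algebra R' S' := (IsLocalization.Away.lift g hgS).toAlgebra
  haveI : IsScalarTower R R' S' := IsScalarTower.of_algebraMap_eq fun r => by
    show algebraMap R S' r = IsLocalization.Away.lift g hgS (algebraMap R R' r)
    rw [IsLocalization.Away.lift_eq, RingHom.comp_apply, ← IsScalarTower.algebraMap_apply]
  obtain ⟨hp0, hpp0⟩ := FlatDevLoc.isPrime_map_away (T' := R') g p hg
  obtain ⟨hq0, hqq0⟩ := FlatDevLoc.isPrime_map_away (T' := S') hX q hhX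
  let p' : Ideal R' := p.map (algebraMap R R')
  let q' : Ideal S' := q.map (algebraMap S S')
  haveI : p'.IsPrime := hp0
  haveI hp'p : p'.LiesOver p := hpp0
  haveI : q'.IsPrime := hq0
  haveI hq'q : q'.LiesOver q := hqq0
  haveI hover : q'.LiesOver p' := ⟨FlatDevLoc.eq_of_comap_away g _ _ (by
    show p'.comap (algebraMap R R') = (q'.comap (algebraMap R' S')).comap (algebraMap R R')
    rw [Ideal.comap_comap, ← IsScalarTower.algebraMap_eq, IsScalarTower.algebraMap_eq R S S', ← Ideal.comap_comap,
      show q'.comap (algebraMap S S') = q from hq'q.over.symm,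
      show p'.comap (algebraMap R R') = p from hp'p.over.symm]
    exact hqp.over)⟩
  exact ⟨R', S', inferInstance, inferInstance, inferInstance, inferInstance, inferInstance, inferInstance,
    inferInstance, inferInstance, p', q', inferInstance, inferInstance, isEtaleNhd_away R' g p p',
    isEtaleNhd_away S' hX q q', hover, fun N' _ _ _ _ f hf => hsh R' p' S' q' N' f hf⟩

theorem exists_nat_of_lt {a : WithBot ℕ∞} {n : ℕ} (h0 : 0 ≤ a) (h : a < (n : WithBot ℕ∞)) :
    ∃ m : ℕ, a = m ∧ m < n := by
  induction a with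
  | bot => exact absurd h0 (by simp)
  | coe a =>
    induction a using ENat.recTopCoe with
    | top =>
      refine absurd h (not_lt.2 ?_)
      rw [← WithBot.coe_natCast]
      exact WithBot.coe_le_coe.2 le_top
    | coe m => exact ⟨m, rfl, by simpa using h⟩

theorem localDim_nonneg {X : Type u} [TopologicalSpace X] (x : X) : 0 ≤ FlatMor.localDim X x := by
  refine le_iInf fun U => ?_
  let pt : (U.1 : Set X) := ⟨x, U.2⟩
  haveI : Nonempty (TopologicalSpace.IrreducibleCloseds (U.1 : Set X)) :=
    ⟨⟨closure {pt}, isIrreducible_singleton.closure, isClosed_closure⟩⟩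
  exact Order.krullDim_nonneg

attribute [local instance] Algebra.TensorProduct.rightAlgebra

set_option maxHeartbeats 1600000 in
theorem hasDevNhd_of_localDim : ∀ (n : ℕ) (R S : Type u) [CommRing R] [CommRing S] [Algebra R S]
    [Algebra.FiniteType R S] (N : Type u) [AddCommGroup N] [Module S N] [Module R N] [IsScalarTower R S N]
    [Module.Finite S N] (p : Ideal R) [p.IsPrime] (q : Ideal S) [q.IsPrime] [q.LiesOver p]
    (x : PrimeSpectrum (p.Fiber S)) (hx : x ∈ Module.support (p.Fiber S) (FlatCA.fiberMod p S N)),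
    x.asIdeal = FlatCA.fiberIdeal p q →
    FlatMor.localDim (Module.support (p.Fiber S) (FlatCA.fiberMod p S N)) ⟨x, hx⟩ = n →
    HasDevNhd R S N p q := by
  intro n
  induction n using Nat.strong_induction_on with
  | _ n IH =>
  intro R S _ _ _ _ N _ _ _ _ _ p _ q _ _ x hx hxq hn
  obtain ⟨E⟩ := exists_elemDevissage N p q n x hxq hx hn
  obtain ⟨σ, hσ⟩ := exists_step N p q n ⟨x, hx, hxq, hn⟩ E
  refine HasDevNhd.of_nhd E.R' E.S' E.p' E.q' E.etaleR E.etaleS E.N' E.f E.isBaseChange ?_
  let M₀ := σ.M ⧸ LinearMap.range σ.α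
  letI : Module E.R' M₀ := Module.compHom M₀ (algebraMap E.R' σ.B)
  haveI : IsScalarTower E.R' σ.B M₀ := IsScalarTower.of_algebraMap_smul fun _ _ => rfl
  by_cases hcase : Module.annihilator σ.B M₀ ≤ σ.y
  · haveI := σ.finite_M
    haveI := σ.smooth
    haveI : Module.Finite σ.B M₀ := Module.Finite.quotient σ.B _
    haveI : Algebra.FiniteType E.R' σ.B := inferInstance
    haveI : Module.Finite (E.p'.Fiber σ.B) (FlatCA.fiberMod E.p' σ.B M₀) :=
      inferInstanceAs (Module.Finite (E.p'.Fiber σ.B) ((E.p'.Fiber σ.B) ⊗[σ.B] M₀))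
    let eF := PrimeSpectrum.primesOverOrderIsoFiber E.R' σ.B E.p'
    let x' := eF ⟨σ.y, inferInstance, inferInstance⟩
    have hx' : x' ∈ Module.support (E.p'.Fiber σ.B) (FlatCA.fiberMod E.p' σ.B M₀) := by
      rw [FlatDevBC.mem_support_fiber_iff, eF.symm_apply_apply]
      exact hcase
    obtain ⟨m, hm, hmn⟩ := exists_nat_of_lt (localDim_nonneg (⟨x', hx'⟩ : Module.support _ _))
      (lt_of_le_of_lt (supportDim_ge_of_localDim (M := FlatCA.fiberMod E.p' σ.B M₀) ⟨x', hx'⟩) hσ)
    obtain ⟨R₂, D₂, _, _, _, _, _, _, _, _, p₂, y₂, _, _, hR₂, hD₂, hover, hdev⟩ :=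
      IH m hmn E.R' σ.B M₀ E.p' σ.y x' hx' (FlatDevLoc.primesOver_fiberIdeal E.p' σ.y inferInstance) hm
    haveI := hover
    exact σ.extend R₂ p₂ hR₂ D₂ y₂ hD₂ hdev
  · obtain ⟨d, hd, hdy⟩ := SetLike.not_le_iff_exists.1 hcase
    exact σ.hasDevNhd_of_smul d hdy (Module.mem_annihilator.1 hd)

/-- Complete dévissages exist on elementary etale neighbourhoods. -/
theorem exists_hasDevNhd {R S : Type u} [CommRing R] [CommRing S] [Algebra R S] [Algebra.FiniteType R S]
    (N : Type u) [AddCommGroup N] [Module S N] [Module R N] [IsScalarTower R S N] [Module.Finite S N]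
    (p : Ideal R) [p.IsPrime] (q : Ideal S) [q.IsPrime] [q.LiesOver p]
    (hsupp : ∃ x ∈ Module.support (p.Fiber S) (FlatCA.fiberMod p S N), x.asIdeal = FlatCA.fiberIdeal p q) :
    HasDevNhd R S N p q := by
  obtain ⟨x, hx, hxq⟩ := hsupp
  let F := p.Fiber S
  haveI : Module.Finite F (FlatCA.fiberMod p S N) := inferInstanceAs (Module.Finite F (F ⊗[S] N))
  obtain ⟨k, f, hf⟩ := Algebra.FiniteType.iff_quotient_mvPolynomial''.1
    (inferInstanceAs (Algebra.FiniteType p.ResidueField (p.ResidueField ⊗[R] S)) : Algebra.FiniteType p.ResidueField F)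
  have hF : ringKrullDim F ≤ (k : WithBot ℕ∞) := by
    refine (ringKrullDim_le_of_surjective f.toRingHom hf).trans ?_
    rw [MvPolynomial.ringKrullDim_of_isNoetherianRing, ringKrullDim_eq_zero_of_field]
    simp
  obtain ⟨n, hn, -⟩ := exists_nat_of_lt (n := k + 1) (localDim_nonneg (⟨x, hx⟩ : Module.support _ _))
    (lt_of_le_of_lt ((supportDim_ge_of_localDim (M := FlatCA.fiberMod p S N) ⟨x, hx⟩).trans
      ((Module.supportDim_le_ringKrullDim _ _).trans hF)) (by exact_mod_cast Nat.lt_succ_self k))
  exact hasDevNhd_of_localDim n R S N p q x hx hxq hn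

end Groth.Agent.DevExist
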