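import Groth.Agent.DevExist.Elem
import Groth.Agent.MorLib.ElemEtaleFinite
import Groth.Agent.DescLib.LocalDim
import Groth.Agent.FlatDevLoc.Basic

/-! The local structure of morphisms locally of finite type. -/

set_option autoImplicit false
set_option backward.isDefEq.respectTransparency false
set_option backward.isDefEq.respectTransparency.types false
attribute [-instance] CategoryTheory.catToReflQuiver

universe u

open CategoryTheory CategoryTheory.Limits AlgebraicGeometry TensorProduct

namespace Groth.Agent.DevExist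

theorem isEtaleNbhd_of_ring {R R' : Type u} [CommRing R] [CommRing R'] [Algebra R R'] (p : Ideal R) [p.IsPrime]
    (p' : Ideal R') [p'.IsPrime] (h : FlatCA.IsEtaleNhd R R' p p') {X : Scheme.{u}}
    (j : Spec (CommRingCat.of R) ⟶ X) [IsOpenImmersion j] :
    Hens2.IsEtaleNbhd (Spec.map (CommRingCat.ofHom (algebraMap R R')) ≫ j) (⟨p', inferInstance⟩ : PrimeSpectrum R')
      (j (⟨p, inferInstance⟩ : PrimeSpectrum R)) := by
  obtain ⟨he, hov, hb⟩ := h
  haveI := he; haveI := hov
  haveI : Etale (Spec.map (CommRingCat.ofHom (algebraMap R R'))) :=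
    HasRingHomProperty.Spec_iff.mpr (RingHom.etale_algebraMap.mpr ‹_›)
  have hpt : Spec.map (CommRingCat.ofHom (algebraMap R R')) (⟨p', inferInstance⟩ : PrimeSpectrum R') =
      (⟨p, inferInstance⟩ : PrimeSpectrum R) := PrimeSpectrum.ext hov.over.symm
  refine ⟨inferInstance, by rw [Scheme.Hom.comp_apply, hpt], ?_⟩
  refine MorLib.EEF.bijective_rfm_comp _ _ _ (MorLib.EEF.bijective_rfm_SpecMap _ _ ?_)
    (MorLib.EEF.bijective_rfm_isOpenImmersion _ _)
  exact MorLib.EEF.bijective_map_congr (algebraMap R R') hov.over hov.over hb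

set_option maxHeartbeats 1600000 in
theorem exists_local_structure {X S : Scheme.{u}} (f : X ⟶ S) [LocallyOfFiniteType f] (x : X) (n : ℕ)
    (hn : FlatMor.fibreDimAt f x = n) :
    ∃ (S' Y' X' : Scheme.{u}) (e : S' ⟶ S) (h : Y' ⟶ S') (π : X' ⟶ Y') (g : X' ⟶ X) (s' : S') (x' : X'),
      IsAffine S' ∧ IsAffine Y' ∧ IsAffine X' ∧ Hens2.IsEtaleNbhd e s' (f x) ∧ Hens2.IsEtaleNbhd g x' x ∧
      g ≫ f = π ≫ h ≫ e ∧ SmoothOfRelativeDimension n h ∧ GeometricallyIntegral h ∧ IsFinite π ∧ h (π x') = s' ∧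
      ∀ z : X', π z = π x' → z = x' := by
  obtain ⟨U, hU, hxU, -⟩ := exists_isAffineOpen_mem_and_subset (x := f x) (U := (⊤ : S.Opens)) trivial
  obtain ⟨V, hV, hxV, hUV'⟩ := exists_isAffineOpen_mem_and_subset (x := x) (U := f ⁻¹ᵁ U) hxU
  have hUV : V ≤ f ⁻¹ᵁ U := hUV'
  have hft : (f.appLE U V hUV).hom.FiniteType := f.finiteType_appLE hU hV hUV
  let A := Γ(S, U)
  let B := Γ(X, V)
  letI : Algebra A B := (f.appLE U V hUV).hom.toAlgebra
  haveI : Algebra.FiniteType A B := hft
  let φ : Spec (CommRingCat.of B) ⟶ Spec (CommRingCat.of A) := Spec.map (CommRingCat.ofHom (algebraMap A B))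
  have hcomm : φ ≫ hU.fromSpec = hV.fromSpec ≫ f := hU.SpecMap_appLE_fromSpec f hV hUV
  let qx : PrimeSpectrum B := hV.primeIdealOf ⟨x, hxV⟩
  let px : PrimeSpectrum A := φ qx
  have hqx : hV.fromSpec qx = x := hV.fromSpec_primeIdealOf _
  have hpx : hU.fromSpec px = f x := by
    show hU.fromSpec (φ qx) = f x
    refine ((Scheme.Hom.comp_apply φ hU.fromSpec qx).symm.trans ?_)
    rw [hcomm]
    exact (Scheme.Hom.comp_apply _ _ _).trans (congrArg f hqx)
  haveI : qx.asIdeal.LiesOver px.asIdeal := ⟨rfl⟩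
  -- the fibre dimension in the chart
  have hdim : FlatMor.fibreDimAt φ qx = n := by
    have h1 := DescLib.fibreDimAt_eq_of_etale f φ hV.fromSpec hU.fromSpec hcomm qx
    exact h1.symm.trans ((congrArg (FlatMor.fibreDimAt f) hqx).trans hn)
  letI : Module A B := Algebra.toModule
  let H := (φ.fiberHomeo px).trans (PrimeSpectrum.preimageHomeomorphFiber A B px)
  let w : PrimeSpectrum (px.asIdeal.Fiber B) := H (φ.asFiber qx)
  have hw : w.asIdeal = FlatCA.fiberIdeal px.asIdeal qx.asIdeal := by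
    let eF := PrimeSpectrum.primesOverOrderIsoFiber A B px.asIdeal
    have h2 : eF ⟨qx.asIdeal, inferInstance, inferInstance⟩ = w := by
      rw [← eF.eq_symm_apply]
      apply Subtype.ext
      have h3 : ((PrimeSpectrum.preimageHomeomorphFiber A B px).symm w).1 = qx := by
        rw [show w = PrimeSpectrum.preimageHomeomorphFiber A B px (φ.fiberHomeo px (φ.asFiber qx)) from rfl,
          Homeomorph.symm_apply_apply, Scheme.Hom.fiberHomeo_apply, Scheme.Hom.fiberι_asFiber]
      exact (congrArg PrimeSpectrum.asIdeal h3).symm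
    rw [← h2]
    exact Groth.Agent.FlatDevLoc.primesOver_fiberIdeal px.asIdeal qx.asIdeal inferInstance
  have hsupp : ∀ v, v ∈ Module.support (px.asIdeal.Fiber B) (FlatCA.fiberMod px.asIdeal B B) := fun v => by
    rw [Groth.Agent.FlatDevBC.mem_support_fiber_iff, Module.annihilator_eq_bot.2 inferInstance]
    exact bot_le
  have hdimw : FlatMor.localDim (Module.support (px.asIdeal.Fiber B) (FlatCA.fiberMod px.asIdeal B B))
      ⟨w, hsupp w⟩ = n := by
    let H₂ : PrimeSpectrum (px.asIdeal.Fiber B) ≃ₜ Module.support (px.asIdeal.Fiber B) (FlatCA.fiberMod px.asIdeal B B) :=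
      (Homeomorph.Set.univ _).symm.trans (Homeomorph.setCongr (Set.eq_univ_of_forall hsupp).symm)
    rw [show (⟨w, hsupp w⟩ : Module.support _ _) = (H.trans H₂) (φ.asFiber qx) from rfl,
      ← Groth.Agent.FlatDevBC.localDim_homeomorph]
    exact hdim
  obtain ⟨E⟩ := exists_elemDevissage B px.asIdeal qx.asIdeal n w hw (hsupp w) hdimw
  -- `E.C` is the whole of `E.S'`
  have hbij : Function.Bijective (algebraMap E.S' E.C) := by
    refine ⟨(injective_iff_map_eq_zero _).2 fun a ha => ?_, E.surjC⟩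
    let e₁ : E.S' ⊗[B] B ≃ₗ[E.S'] E.N' := E.isBaseChange.equiv
    have h1 : a • e₁ ((1 : E.S') ⊗ₜ[B] (1 : B)) = 0 := by
      apply E.iso.injective
      rw [map_smul, map_zero, ← algebraMap_smul E.C, ha, zero_smul]
    rw [← map_smul, LinearEquiv.map_eq_zero_iff, TensorProduct.smul_tmul'] at h1
    have h2 := congrArg (TensorProduct.AlgebraTensorModule.rid B E.S' E.S') h1
    rw [map_zero, TensorProduct.AlgebraTensorModule.rid_tmul, one_smul, smul_eq_mul, mul_one] at h2
    exact h2
  let eC : E.S' ≃+* E.C := RingEquiv.ofBijective _ hbij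
  let πh : E.D →+* E.S' := eC.symm.toRingHom.comp (algebraMap E.D E.C)
  have hπh : (algebraMap E.S' E.C).comp πh = algebraMap E.D E.C :=
    RingHom.ext fun d => eC.apply_symm_apply _
  have hπfin : πh.Finite :=
    RingHom.Finite.comp (RingHom.Finite.of_surjective _ eC.symm.surjective) (RingHom.finite_algebraMap.2 E.finiteDC)
  have hzq : E.q' = E.z.comap (algebraMap E.S' E.C) := E.zOver.over
  have hπq : E.q'.comap πh = E.y := by
    rw [hzq, Ideal.comap_comap, hπh]
    exact E.zOverY.over.symm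
  refine ⟨Spec (CommRingCat.of E.R'), Spec (CommRingCat.of E.D), Spec (CommRingCat.of E.S'),
    Spec.map (CommRingCat.ofHom (algebraMap A E.R')) ≫ hU.fromSpec,
    Spec.map (CommRingCat.ofHom (algebraMap E.R' E.D)), Spec.map (CommRingCat.ofHom πh),
    Spec.map (CommRingCat.ofHom (algebraMap B E.S')) ≫ hV.fromSpec,
    (⟨E.p', inferInstance⟩ : PrimeSpectrum E.R'), (⟨E.q', inferInstance⟩ : PrimeSpectrum E.S'),
    inferInstance, inferInstance, inferInstance, ?_, ?_, ?_, E.smooth, E.geomInt,
    (IsFinite.SpecMap_iff _).2 hπfin, ?_, ?_⟩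
  · rw [← hpx]; exact isEtaleNbhd_of_ring px.asIdeal E.p' E.etaleR hU.fromSpec
  · rw [← hqx]; exact isEtaleNbhd_of_ring qx.asIdeal E.q' E.etaleS hV.fromSpec
  · have h1 : (algebraMap B E.S').comp (algebraMap A B) = (πh.comp (algebraMap E.R' E.D)).comp (algebraMap A E.R') := by
      refine RingHom.ext fun a => hbij.injective ?_
      show _ = ((algebraMap E.S' E.C).comp πh) (algebraMap E.R' E.D (algebraMap A E.R' a))
      rw [hπh]
      show algebraMap E.S' E.C (algebraMap B E.S' (algebraMap A B a)) = _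
      rw [← IsScalarTower.algebraMap_apply A B E.S', IsScalarTower.algebraMap_apply A E.R' E.S',
        ← IsScalarTower.algebraMap_apply E.R' E.S' E.C, ← IsScalarTower.algebraMap_apply E.R' E.D E.C]
    rw [Category.assoc, ← hcomm]
    show _ = Spec.map (CommRingCat.ofHom πh) ≫ _
    rw [← Category.assoc, ← Category.assoc (Spec.map (CommRingCat.ofHom (algebraMap E.R' E.D))),
      ← Category.assoc (Spec.map (CommRingCat.ofHom πh))]
    congr 1
    rw [← Spec.map_comp, ← Spec.map_comp, ← Spec.map_comp, ← CommRingCat.ofHom_comp, ← CommRingCat.ofHom_comp,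
      ← CommRingCat.ofHom_comp, h1, RingHom.comp_assoc]
  · apply PrimeSpectrum.ext
    show (E.q'.comap πh).comap (algebraMap E.R' E.D) = E.p'
    rw [hπq]
    exact E.yOver.over.symm
  · intro z hz
    have h1 : z.asIdeal.comap πh = E.y := (congrArg PrimeSpectrum.asIdeal hz).trans hπq
    haveI := Ideal.IsPrime.comap eC.symm.toRingHom (K := z.asIdeal)
    have h2 : z.asIdeal.comap eC.symm.toRingHom = E.z :=
      E.uniq _ ⟨by rw [show Ideal.under E.D (z.asIdeal.comap eC.symm.toRingHom) =
        (z.asIdeal.comap eC.symm.toRingHom).comap (algebraMap E.D E.C) from rfl, Ideal.comap_comap]; exact h1.symm⟩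
    apply PrimeSpectrum.ext
    show z.asIdeal = E.q'
    rw [hzq, ← h2, Ideal.comap_comap,
      show eC.symm.toRingHom.comp (algebraMap E.S' E.C) = RingHom.id _ from RingHom.ext eC.symm_apply_apply,
      Ideal.comap_id]

end Groth.Agent.DevExist
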