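import Groth.Agent.DevExist.BaseChange
import Groth.Agent.DevExist.AwayAux
import Groth.Agent.DevEtale.Loci
import Groth.Agent.FlatDevLoc.Step

/-! Standard shrinkings of iterated steps of a dévissage inside a given open. -/

set_option autoImplicit false
set_option backward.isDefEq.respectTransparency false
set_option backward.isDefEq.respectTransparency.types false
attribute [-instance] CategoryTheory.catToReflQuiver

universe u

open TensorProduct

namespace Groth.Agent.DevExist

/-- The localized data at `g` and `h` carries iterated steps, for every model. -/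
def ShrunkAt (R : Type u) [CommRing R] (p : Ideal R) [p.IsPrime] (S : Type u) [CommRing S] [Algebra R S]
    (q : Ideal S) (N : Type u) [AddCommGroup N] [Module S N] (g : R) (hX : S) : Prop :=
  ∀ (R' : Type u) [CommRing R'] [Algebra R R'] [IsLocalization.Away g R'] (p' : Ideal R') [p'.IsPrime]
    [p'.LiesOver p] (S' : Type u) [CommRing S'] [Algebra R' S'] [Algebra R S'] [Algebra S S'] [IsScalarTower R R' S']
    [IsScalarTower R S S'] [IsLocalization.Away hX S'] (q' : Ideal S') [q'.IsPrime] [q'.LiesOver q] [q'.LiesOver p']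
    (N' : Type u) [AddCommGroup N'] [Module S' N'] [Module S N'] [IsScalarTower S S' N']
    (f : N →ₗ[S] N'), IsBaseChange S' f → DevAt R' p' S' q' N'

variable {R : Type u} [CommRing R] {p : Ideal R} [p.IsPrime] {S : Type u} [CommRing S] [Algebra R S]
  {q : Ideal S} {N : Type u} [AddCommGroup N] [Module S N]

set_option maxHeartbeats 1600000 in
/-- Shrinking the base inside the given one. -/
theorem ShrunkAt.mono [q.IsPrime] [q.LiesOver p] {g₁ : R} {h₁ : S} (H : ShrunkAt R p S q N g₁ h₁) (hg₁ : g₁ ∉ p)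
    (hh₁ : h₁ ∉ q) (hdvd : algebraMap R S g₁ ∣ h₁) (g₀ : R) (_hg₀ : g₀ ∉ p) :
    ShrunkAt R p S q N (g₁ * g₀) (h₁ * algebraMap R S (g₁ * g₀)) := by
  intro R' _ _ _ p' _ _ S' _ _ _ _ _ _ _ q' _ _ _ N' _ _ _ _ f hf
  let g := g₁ * g₀
  let h := h₁ * algebraMap R S g
  let R₁ := Localization.Away g₁
  let S₁ := Localization.Away h₁
  have hu₁ : IsUnit (((algebraMap S S₁).comp (algebraMap R S)) g₁) :=
    isUnit_of_dvd_unit (map_dvd (algebraMap S S₁) hdvd) (IsLocalization.Away.algebraMap_isUnit h₁)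
  letI : Algebra R₁ S₁ := (IsLocalization.Away.lift g₁ hu₁).toAlgebra
  haveI : IsScalarTower R R₁ S₁ := IsScalarTower.of_algebraMap_eq fun r => by
    show algebraMap R S₁ r = IsLocalization.Away.lift g₁ hu₁ (algebraMap R R₁ r)
    rw [IsLocalization.Away.lift_eq, RingHom.comp_apply, ← IsScalarTower.algebraMap_apply]
  have hu₁' : IsUnit (algebraMap R R' g₁) :=
    isUnit_of_dvd_unit (map_dvd _ (dvd_mul_right g₁ g₀)) (IsLocalization.Away.algebraMap_isUnit g)
  letI : Algebra R₁ R' := (IsLocalization.Away.lift g₁ hu₁').toAlgebra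
  haveI : IsScalarTower R R₁ R' := IsScalarTower.of_algebraMap_eq fun r =>
    (IsLocalization.Away.lift_eq g₁ hu₁' r).symm
  have huS : IsUnit (algebraMap S S' h₁) :=
    isUnit_of_dvd_unit (map_dvd (algebraMap S S') (dvd_mul_right h₁ _)) (IsLocalization.Away.algebraMap_isUnit h)
  letI : Algebra S₁ S' := (IsLocalization.Away.lift h₁ huS).toAlgebra
  haveI : IsScalarTower S S₁ S' := IsScalarTower.of_algebraMap_eq fun x =>
    (IsLocalization.Away.lift_eq h₁ huS x).symm
  letI : Algebra R₁ S' := ((algebraMap R' S').comp (algebraMap R₁ R')).toAlgebra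
  haveI : IsScalarTower R₁ R' S' := IsScalarTower.of_algebraMap_eq' rfl
  haveI : IsScalarTower R₁ S₁ S' := IsScalarTower.of_algebraMap_eq' (IsLocalization.ringHom_ext (Submonoid.powers g₁)
    (RingHom.ext fun r => by
      show algebraMap R' S' (algebraMap R₁ R' (algebraMap R R₁ r)) = algebraMap S₁ S' (algebraMap R₁ S₁ (algebraMap R R₁ r))
      rw [← IsScalarTower.algebraMap_apply R R₁ R', ← IsScalarTower.algebraMap_apply R R' S',
        ← IsScalarTower.algebraMap_apply R R₁ S₁, IsScalarTower.algebraMap_apply R S S₁,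
        ← IsScalarTower.algebraMap_apply S S₁ S', ← IsScalarTower.algebraMap_apply R S S']))
  haveI : IsLocalization.Away g R' := ‹_›
  haveI : IsLocalization.Away h S' := ‹_›
  haveI : IsLocalization.Away (g₁ * g) R' :=
    away_of_mutual_dvd g _ (dvd_mul_left g g₁) 2 (by rw [sq]; exact mul_dvd_mul_right (dvd_mul_right g₁ g₀) g)
  haveI : IsLocalization.Away (algebraMap R R₁ g) R' := away_factor g₁ g
  haveI : IsLocalization.Away (algebraMap S S₁ (algebraMap R S g)) S' :=
    away_factor (U := S') h₁ (algebraMap R S g)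
  haveI : IsLocalization (Algebra.algebraMapSubmonoid S₁ (Submonoid.powers (algebraMap R R₁ g))) S' := by
    rw [Algebra.algebraMapSubmonoid, Submonoid.map_powers, ← IsScalarTower.algebraMap_apply R R₁ S₁,
      IsScalarTower.algebraMap_apply R S S₁]
    exact (inferInstance : IsLocalization.Away (algebraMap S S₁ (algebraMap R S g)) S')
  haveI : Algebra.IsPushout R₁ R' S₁ S' :=
    (Algebra.isPushout_of_isLocalization (Submonoid.powers (algebraMap R R₁ g)) _ _ _).symm
  obtain ⟨hp₁0, hp₁p0⟩ := FlatDevLoc.isPrime_map_away (T' := R₁) g₁ p hg₁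
  let p₁ : Ideal R₁ := p.map (algebraMap R R₁)
  haveI : p₁.IsPrime := hp₁0
  haveI hp₁p : p₁.LiesOver p := hp₁p0
  obtain ⟨hq₁0, hq₁q0⟩ := FlatDevLoc.isPrime_map_away (T' := S₁) h₁ q hh₁
  let q₁ : Ideal S₁ := q.map (algebraMap S S₁)
  haveI : q₁.IsPrime := hq₁0
  haveI hq₁q : q₁.LiesOver q := hq₁q0
  haveI : q₁.LiesOver p₁ := ⟨FlatDevLoc.eq_of_comap_away g₁ _ _ (by
    show p₁.comap (algebraMap R R₁) = (q₁.comap (algebraMap R₁ S₁)).comap (algebraMap R R₁)
    rw [Ideal.comap_comap, ← IsScalarTower.algebraMap_eq, IsScalarTower.algebraMap_eq R S S₁, ← Ideal.comap_comap,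
      show q₁.comap (algebraMap S S₁) = q from hq₁q.over.symm,
      show p₁.comap (algebraMap R R₁) = p from hp₁p.over.symm]
    exact Ideal.over_def q p)⟩
  haveI : p'.LiesOver p₁ := ⟨FlatDevLoc.eq_of_comap_away g₁ _ _ (by
    show p₁.comap (algebraMap R R₁) = (p'.comap (algebraMap R₁ R')).comap (algebraMap R R₁)
    rw [Ideal.comap_comap, ← IsScalarTower.algebraMap_eq, show p₁.comap (algebraMap R R₁) = p from hp₁p.over.symm]
    exact Ideal.over_def p' p)⟩
  haveI : q'.LiesOver q₁ := ⟨FlatDevLoc.eq_of_comap_away h₁ _ _ (by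
    show q₁.comap (algebraMap S S₁) = (q'.comap (algebraMap S₁ S')).comap (algebraMap S S₁)
    rw [Ideal.comap_comap, ← IsScalarTower.algebraMap_eq, show q₁.comap (algebraMap S S₁) = q from hq₁q.over.symm]
    exact Ideal.over_def q' q)⟩
  let N₁ := S₁ ⊗[S] N
  let l₁ : N →ₗ[S] N₁ := TensorProduct.mk S S₁ N 1
  have hl₁ : IsBaseChange S₁ l₁ := TensorProduct.isBaseChange S N S₁
  have hdev₁ : DevAt R₁ p₁ S₁ q₁ N₁ := H R₁ p₁ S₁ q₁ N₁ l₁ hl₁
  letI : Module S₁ N' := Module.compHom N' (algebraMap S₁ S')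
  haveI : IsScalarTower S₁ S' N' := IsScalarTower.of_algebraMap_smul fun _ _ => rfl
  haveI : IsScalarTower S S₁ N' := IsScalarTower.of_algebraMap_smul fun x m => by
    show algebraMap S₁ S' (algebraMap S S₁ x) • m = x • m
    rw [← IsScalarTower.algebraMap_apply, algebraMap_smul]
  refine hdev₁.baseChange_at R' p'
    (FlatDevLoc.residueField_bijectiveₐ_of_isLocalization (Submonoid.powers (algebraMap R R₁ g)) p₁ p')
    S' N' (hl₁.lift f) (IsBaseChange.of_comp hl₁ ?_) q'
  have e : ((hl₁.lift f).restrictScalars S).comp l₁ = f := LinearMap.ext fun m => hl₁.lift_eq f m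
  rw [show ((hl₁.lift f : N₁ →ₗ[S] N') ∘ₗ l₁) = f from e]
  exact hf

set_option maxHeartbeats 3200000 in
theorem Step.shrink (σ : Step R p S q N) (u : S) (hu : u ∉ q)
    (htail : ∀ d : σ.B, d ∉ σ.y → ∃ g₁ ∉ p, ∃ hB ∉ σ.y, d ∣ hB ∧
      ((∀ m : σ.M ⧸ LinearMap.range σ.α, hB • m = 0) ∨ (algebraMap R σ.B g₁ ∣ hB ∧
        ShrunkAt R p σ.B σ.y (σ.M ⧸ LinearMap.range σ.α) g₁ hB))) :
    ∃ g ∉ p, ∃ hX ∉ q, u ∣ hX ∧ algebraMap R S g ∣ hX ∧ ShrunkAt R p S q N g hX := by
  haveI := σ.smooth
  haveI := σ.finiteBA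
  haveI := σ.isPrime_map
  haveI : Algebra.IsIntegral σ.B σ.A := Algebra.IsIntegral.of_finite σ.B σ.A
  have hc : algebraMap S σ.A u ∉ σ.z := fun h => hu (σ.q0 ▸ h)
  obtain ⟨e, d, hd, hce⟩ := DevEtale.exists_dvd_of_unique σ.y σ.z σ.uniq (algebraMap S σ.A u) hc
  obtain ⟨g₁, hg₁, hB, hhB, hdB, htail⟩ := htail d hd
  let U : Set (PrimeSpectrum R) := PrimeSpectrum.comap (algebraMap R σ.B) '' (PrimeSpectrum.basicOpen hB : Set _)
  have hU : IsOpen U :=
    PrimeSpectrum.isOpenMap_comap_of_hasGoingDown_of_finitePresentation _ (PrimeSpectrum.basicOpen hB).isOpen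
  obtain ⟨_, ⟨g₀, rfl⟩, hg₀, hsub⟩ := PrimeSpectrum.isTopologicalBasis_basic_opens.exists_subset_of_mem_open
    (show (⟨p, inferInstance⟩ : PrimeSpectrum R) ∈ U from
      ⟨⟨σ.y, inferInstance⟩, hhB, PrimeSpectrum.ext σ.yOver.over.symm⟩) hU
  have hg₀ : g₀ ∉ p := hg₀
  let g := g₁ * g₀
  have hg : g ∉ p := fun h => (Ideal.IsPrime.mem_or_mem ‹p.IsPrime› h).elim hg₁ hg₀
  let eB : σ.B := hB * algebraMap R σ.B g
  have heB : eB ∉ σ.y := fun h => (σ.hy.mem_or_mem h).elim hhB fun h' => hg (σ.yOver.over.symm ▸ h')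
  have heBP : eB ∉ p.map (algebraMap R σ.B) := fun h =>
    heB (Ideal.map_le_iff_le_comap.2 σ.yOver.over.le h)
  obtain ⟨s₀, hs₀⟩ := σ.surj (algebraMap σ.B σ.A hB)
  let hX : S := u * s₀ * algebraMap R S g
  let a : σ.A := algebraMap σ.B σ.A eB
  have himg : algebraMap S σ.A hX = algebraMap S σ.A u * a := by
    show algebraMap S σ.A (u * s₀ * algebraMap R S g) = algebraMap S σ.A u * algebraMap σ.B σ.A (hB * _)
    rw [map_mul (algebraMap S σ.A) (u * s₀), map_mul (algebraMap S σ.A) u, map_mul (algebraMap σ.B σ.A) hB, hs₀,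
      mul_assoc, ← IsScalarTower.algebraMap_apply R S σ.A,
      ← IsScalarTower.algebraMap_apply R σ.B σ.A]
  have ha : a ∉ σ.z := fun h => heB (σ.zOver.over.symm ▸ h)
  have hhX : hX ∉ q := fun h => by
    rw [← σ.q0, Ideal.mem_comap, himg] at h
    exact (σ.hz.mem_or_mem h).elim hc ha
  refine ⟨g, hg, hX, hhX, Dvd.intro _ (mul_assoc u s₀ _).symm, Dvd.intro_left _ rfl, ?_⟩
  intro R' _ _ _ p' _ _ S' _ _ _ _ _ _ _ q' _ _ _ N' _ _ _ _ f hf
  have hκ := FlatDevLoc.residueField_bijectiveₐ_of_isLocalization (Submonoid.powers g) p p'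
  -- the smooth algebra
  let B' := Localization.Away eB
  have hgB : IsUnit (((algebraMap σ.B B').comp (algebraMap R σ.B)) g) :=
    isUnit_of_dvd_unit (map_dvd (algebraMap σ.B B') (dvd_mul_left (algebraMap R σ.B g) hB))
      (IsLocalization.Away.algebraMap_isUnit eB)
  letI : Algebra R' B' := (IsLocalization.Away.lift g hgB).toAlgebra
  haveI : IsScalarTower R R' B' := IsScalarTower.of_algebraMap_eq fun r => by
    show algebraMap R B' r = IsLocalization.Away.lift g hgB (algebraMap R R' r)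
    rw [IsLocalization.Away.lift_eq, RingHom.comp_apply, ← IsScalarTower.algebraMap_apply]
  obtain ⟨hy'0, hy'y0⟩ := FlatDevLoc.isPrime_map_away (T' := B') eB σ.y heB
  let y' : Ideal B' := σ.y.map (algebraMap σ.B B')
  haveI : y'.IsPrime := hy'0
  haveI hy'y : y'.LiesOver σ.y := hy'y0
  have hp'eq : p' = p.map (algebraMap R R') := by
    rw [← IsLocalization.map_comap (Submonoid.powers g) R' p', ← Ideal.over_def p' p]
  haveI : y'.LiesOver p' := ⟨FlatDevLoc.eq_of_comap_away g _ _ (by
    show p'.comap (algebraMap R R') = (y'.comap (algebraMap R' B')).comap (algebraMap R R')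
    rw [Ideal.comap_comap, ← IsScalarTower.algebraMap_eq, IsScalarTower.algebraMap_eq R σ.B B', ← Ideal.comap_comap,
      show y'.comap (algebraMap σ.B B') = σ.y from hy'y.over.symm,
      show p'.comap (algebraMap R R') = p from (Ideal.over_def p' p).symm]
    exact σ.yOver.over)⟩
  have hsubB : ∀ r : PrimeSpectrum R, g ∉ r.asIdeal → ∃ P : PrimeSpectrum σ.B, eB ∉ P.asIdeal ∧
      PrimeSpectrum.comap (algebraMap R σ.B) P = r := fun r hr => by
    obtain ⟨P, hP, hPr⟩ := hsub (show r ∈ (PrimeSpectrum.basicOpen g₀ : Set _) from fun h =>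
      hr (Ideal.mul_mem_left _ _ h))
    refine ⟨P, fun h => (P.isPrime.mem_or_mem h).elim hP fun h' => hr ?_, hPr⟩
    rw [← hPr]
    exact h'
  have hgen : (p'.map (algebraMap R' B')).LiesOver (p.map (algebraMap R σ.B)) := by
    rw [hp'eq]
    exact FlatDevLoc.map_liesOver_away p eB heBP
  -- the quotient
  let A' := Localization.Away a
  have hBA : ∀ x, algebraMap σ.B A' x = algebraMap σ.A A' (algebraMap σ.B σ.A x) := fun x =>
    IsScalarTower.algebraMap_apply σ.B σ.A A' x
  letI : Algebra B' A' :=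
    (IsLocalization.Away.lift eB (g := algebraMap σ.B A') (by rw [hBA]; exact IsLocalization.Away.algebraMap_isUnit a)).toAlgebra
  haveI : IsScalarTower σ.B B' A' := IsScalarTower.of_algebraMap_eq fun x =>
    (IsLocalization.Away.lift_eq eB (g := algebraMap σ.B A') (by rw [hBA]; exact IsLocalization.Away.algebraMap_isUnit a) x).symm
  have hXdvd : algebraMap S σ.A hX ∣ a ^ 2 := by
    rw [himg, sq]
    refine mul_dvd_mul_right ((Dvd.intro e hce).trans ((map_dvd _ hdB).trans (map_dvd _ ?_))) a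
    exact dvd_mul_right hB _
  haveI : IsLocalization.Away (algebraMap S σ.A hX) A' :=
    away_of_mutual_dvd a _ (himg ▸ dvd_mul_left a _) 2 hXdvd
  have hXA : IsUnit (algebraMap S A' hX) :=
    (IsScalarTower.algebraMap_apply S σ.A A' hX).symm ▸ IsLocalization.Away.algebraMap_isUnit (S := A') (algebraMap S σ.A hX)
  letI : Algebra S' A' := (IsLocalization.Away.lift hX hXA).toAlgebra
  haveI : IsScalarTower S S' A' := IsScalarTower.of_algebraMap_eq fun x =>
    (IsLocalization.Away.lift_eq hX hXA x).symm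
  letI : Algebra R' A' := ((algebraMap B' A').comp (algebraMap R' B')).toAlgebra
  haveI : IsScalarTower R' B' A' := IsScalarTower.of_algebraMap_eq' rfl
  haveI : IsScalarTower R' S' A' := IsScalarTower.of_algebraMap_eq' (IsLocalization.ringHom_ext (Submonoid.powers g)
    (RingHom.ext fun r => by
      show algebraMap B' A' (algebraMap R' B' (algebraMap R R' r)) = algebraMap S' A' (algebraMap R' S' (algebraMap R R' r))
      rw [← IsScalarTower.algebraMap_apply R R' B', IsScalarTower.algebraMap_apply R σ.B B',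
        ← IsScalarTower.algebraMap_apply σ.B B' A', ← IsScalarTower.algebraMap_apply R R' S',
        IsScalarTower.algebraMap_apply R S S', ← IsScalarTower.algebraMap_apply S S' A',
        IsScalarTower.algebraMap_apply σ.B σ.A A', IsScalarTower.algebraMap_apply S σ.A A',
        ← IsScalarTower.algebraMap_apply R σ.B σ.A, ← IsScalarTower.algebraMap_apply R S σ.A]))
  haveI : Algebra.IsPushout σ.B B' σ.A A' := by
    haveI : IsLocalization (Algebra.algebraMapSubmonoid σ.A (Submonoid.powers eB)) A' := by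
      rw [Algebra.algebraMapSubmonoid, Submonoid.map_powers]
      exact (inferInstance : IsLocalization.Away a A')
    exact (Algebra.isPushout_of_isLocalization (Submonoid.powers eB) _ _ _).symm
  haveI : Algebra.IsPushout S S' σ.A A' := by
    haveI : IsLocalization (Algebra.algebraMapSubmonoid σ.A (Submonoid.powers hX)) A' := by
      rw [Algebra.algebraMapSubmonoid, Submonoid.map_powers]
      exact (inferInstance : IsLocalization.Away (algebraMap S σ.A hX) A')
    exact (Algebra.isPushout_of_isLocalization (Submonoid.powers hX) _ _ _).symm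
  obtain ⟨q'', hq'', hq''q, -, -, hdev⟩ := σ.transport R' p' hκ B'
    (FlatDevLoc.smoothRelDim_away g σ.d σ.relDim eB) (geomIrred_away σ.geomIrred g eB hsubB) hgen y'
    (FlatDevLoc.residueField_bijective_of_isLocalization (Submonoid.powers eB) σ.y y') S' A' N' f hf (by
    rcases htail with hs | ⟨hgB₁, ht⟩
    · refine Or.inl fun Mc _ _ _ _ l hl => subsingleton_of_isBaseChange_of_smul_eq_zero hl hB ?_ hs
      exact isUnit_of_dvd_unit (map_dvd (algebraMap σ.B B') (dvd_mul_right hB _))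
        (IsLocalization.Away.algebraMap_isUnit eB)
    refine Or.inr fun Mc _ _ _ _ l hl => ?_
    exact ht.mono hg₁ hhB hgB₁ g₀ hg₀ R' p' B' y' Mc l hl)
  haveI := hq''; haveI := hq''q
  rwa [show q'' = q' from FlatDevLoc.eq_of_comap_away hX _ _ (hq''q.over.symm.trans (Ideal.over_def q' q))] at hdev

theorem DevAt.shrink (h : DevAt R p S q N) :
    ∀ u : S, u ∉ q → ∃ g ∉ p, ∃ hX ∉ q, u ∣ hX ∧ algebraMap R S g ∣ hX ∧ ShrunkAt R p S q N g hX := by
  induction h with
  | single σ hs =>
    intro u hu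
    exact σ.shrink u hu fun d hd =>
      ⟨1, fun h1 => Ideal.IsPrime.ne_top ‹p.IsPrime› ((Ideal.eq_top_iff_one _).2 h1), d, hd, dvd_rfl, Or.inl fun m => by
        haveI : Subsingleton (σ.M ⧸ LinearMap.range σ.α) :=
          Submodule.Quotient.subsingleton_iff.mpr (LinearMap.range_eq_top.2 hs)
        exact Subsingleton.elim _ _⟩
  | cons σ _ ih =>
    intro u hu
    exact σ.shrink u hu fun d hd => by
      obtain ⟨g₁, hg₁, hB, hhB, hdB, hgB, hsh⟩ := ih d hd
      exact ⟨g₁, hg₁, hB, hhB, hdB, Or.inr ⟨hgB, hsh⟩⟩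

end Groth.Agent.DevExist
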