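import Groth.Agent.FlatDevPad.Alg
import Groth.Agent.FlatDevDim.Basic
import Groth.Agent.FlatDevBC.Fiber
import Groth.Agent.FlatDevLoc.Basic
import Groth.Agent.CAlgOdd.LocalDimSpec
import Groth.Agent.RGLib.Covering
import Groth.Agent.DevExist.RelDim

/-!
One step of a complete dévissage at a prime, and complete dévissages at a prime as iterated steps.
-/

set_option autoImplicit false
set_option backward.isDefEq.respectTransparency false
set_option backward.isDefEq.respectTransparency.types false
attribute [-instance] CategoryTheory.catToReflQuiver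

universe u

open TensorProduct AlgebraicGeometry CategoryTheory

namespace Groth.Agent.DevExist

/-- The first step of a complete dévissage at a prime. -/
structure Step (R : Type u) [CommRing R] (p : Ideal R) [p.IsPrime] (S : Type u) [CommRing S] [Algebra R S]
    (q : Ideal S) (N : Type u) [AddCommGroup N] [Module S N] : Type (u + 1) where
  A : Type u
  B : Type u
  M : Type u
  [cA : CommRing A] [cB : CommRing B] [aRA : Algebra R A] [aRB : Algebra R B]
  [aBA : Algebra B A] [tRBA : IsScalarTower R B A]
  [aSA : Algebra S A] [tRSA : IsScalarTower R S A]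
  [gM : AddCommGroup M] [mAM : Module A M] [mBM : Module B M] [tBAM : IsScalarTower B A M]
  [mSM : Module S M] [tSAM : IsScalarTower S A M]
  /-- the rank -/
  r : ℕ
  r_pos : 0 < r
  /-- the relative dimension -/
  d : ℕ
  /-- the map from a free module -/
  α : (Fin r → B) →ₗ[B] M
  surj : Function.Surjective (algebraMap S A)
  fp : Algebra.FinitePresentation S A
  finiteBA : Module.Finite B A
  relDim : FlatCA.SmoothRelDim d R B
  geomIrred : FlatCA.GeomIrredFibres R B
  finiteM : Module.Finite A M
  /-- the identification of the module -/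
  isoN : N ≃ₗ[S] M
  /-- the point of the smooth algebra -/
  y : Ideal B
  /-- the point of the quotient -/
  z : Ideal A
  [hy : y.IsPrime] [hz : z.IsPrime]
  [yOver : y.LiesOver p] [zOver : z.LiesOver y]
  pureTrans : FlatCA.PurelyTranscendental p y
  uniq : ∀ (Q : Ideal A) [Q.IsPrime], Q.LiesOver y → Q = z
  q0 : z.comap (algebraMap S A) = q
  fibreIso : ∀ [(p.map (algebraMap R B)).IsPrime],
    Function.Bijective (α.baseChange (p.map (algebraMap R B)).ResidueField)

attribute [instance] Step.cA Step.cB Step.aRA Step.aRB Step.aBA Step.tRBA Step.aSA Step.tRSA Step.gM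
  Step.mAM Step.mBM Step.tBAM Step.mSM Step.tSAM Step.hy Step.hz Step.yOver Step.zOver

variable {R : Type u} [CommRing R] {p : Ideal R} [p.IsPrime] {S : Type u} [CommRing S] [Algebra R S]
  {q : Ideal S} {N : Type u} [AddCommGroup N] [Module S N]

theorem Step.smooth (σ : Step R p S q N) : Algebra.Smooth R σ.B := smooth_of_smoothRelDim σ.d σ.relDim

theorem Step.isPrime_map (σ : Step R p S q N) : (p.map (algebraMap R σ.B)).IsPrime :=
  haveI := σ.smooth
  FlatDevPad.isPrime_map R σ.B σ.geomIrred p

theorem Step.finite_M (σ : Step R p S q N) : Module.Finite σ.B σ.M :=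
  haveI := σ.finiteBA
  haveI := σ.finiteM
  Module.Finite.trans σ.A σ.M

attribute [local instance] Algebra.TensorProduct.rightAlgebra

/-- The fibre module of the first step has full support, of local dimension the relative dimension. -/
theorem Step.locDim (σ : Step R p S q N) :
    ∃ (x : PrimeSpectrum (p.Fiber σ.B)) (hx : x ∈ Module.support (p.Fiber σ.B) (FlatCA.fiberMod p σ.B σ.M)),
      x.asIdeal = FlatCA.fiberIdeal p σ.y ∧
      FlatMor.localDim (Module.support (p.Fiber σ.B) (FlatCA.fiberMod p σ.B σ.M)) ⟨x, hx⟩ = σ.d := by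
  let B := σ.B
  let k := p.ResidueField
  let F := p.Fiber B
  haveI := σ.smooth
  haveI := σ.isPrime_map
  haveI := σ.finite_M
  letI : Module R σ.M := Module.compHom σ.M (algebraMap R B)
  haveI : IsScalarTower R B σ.M := IsScalarTower.of_algebraMap_smul fun _ _ => rfl
  haveI : Algebra.Smooth k F := inferInstanceAs (Algebra.Smooth k (k ⊗[R] B))
  haveI : GeometricallyIrreducible (Spec.map (CommRingCat.ofHom (algebraMap k F))) := by
    have hp := isPullback_SpecMap_of_isPushout _ _ _ _
      (CommRingCat.isPushout_iff_isPushout.mpr (inferInstance : Algebra.IsPushout R B k F))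
    exact MorphismProperty.of_isPullback (P := @GeometricallyIrreducible) hp σ.geomIrred
  haveI : IsDomain F := FlatDevPad.isDomain_of_smooth_geomIrred k F
  let P : Ideal B := p.map (algebraMap R B)
  have hP : (⟨P, inferInstance⟩ : PrimeSpectrum B) ∈ Module.support B σ.M := by
    rw [Module.mem_support_iff_nontrivial_residueField_tensorProduct]
    haveI : Nonempty (Fin σ.r) := Fin.pos_iff_nonempty.1 σ.r_pos
    haveI : Nontrivial (P.ResidueField ⊗[B] (Fin σ.r → B)) :=
      (TensorProduct.piScalarRight B P.ResidueField P.ResidueField (Fin σ.r)).toEquiv.nontrivial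
    exact σ.fibreIso.1.nontrivial
  have hsupp : ∀ x, x ∈ Module.support F (FlatCA.fiberMod p B σ.M) := fun x => by
    rw [FlatDevBC.mem_support_fiber_iff]
    refine le_trans (Module.annihilator_le_of_mem_support hP) ?_
    haveI := ((PrimeSpectrum.primesOverOrderIsoFiber R B p).symm x).2.2
    exact Ideal.map_le_iff_le_comap.2 (le_of_eq (Ideal.over_def _ p))
  let ξ := PrimeSpectrum.primesOverOrderIsoFiber R B p ⟨σ.y, inferInstance, inferInstance⟩
  refine ⟨ξ, hsupp ξ, FlatDevLoc.primesOver_fiberIdeal p σ.y inferInstance, ?_⟩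
  haveI : Nontrivial F := IsDomain.toNontrivial
  have hdim := FlatDevDim.ringKrullDim_fiber R B p σ.d σ.relDim
  haveI : Algebra.FiniteType k F := inferInstanceAs (Algebra.FiniteType k (k ⊗[R] B))
  let H : PrimeSpectrum F ≃ₜ Module.support F (FlatCA.fiberMod p B σ.M) :=
    (Homeomorph.Set.univ _).symm.trans (Homeomorph.setCongr (Set.eq_univ_of_forall hsupp).symm)
  rw [show (⟨ξ, hsupp ξ⟩ : Module.support F (FlatCA.fiberMod p B σ.M)) = H ξ from rfl,
    ← FlatDevBC.localDim_homeomorph, CAlgOdd.LocalDimSpec.localDim_eq_add k,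
    VarDim.height_add_coheight_eq (k := k) σ.d F hdim ξ]
  rfl

/-- Complete dévissages at a prime, as iterated steps. -/
inductive DevAt (R : Type u) [CommRing R] (p : Ideal R) [p.IsPrime] :
    ∀ (S : Type u) [CommRing S] [Algebra R S] (_ : Ideal S) (N : Type u) [AddCommGroup N] [Module S N], Prop
  | single {S : Type u} [CommRing S] [Algebra R S] {q : Ideal S} {N : Type u} [AddCommGroup N] [Module S N]
      (σ : Step R p S q N) (h : Function.Surjective σ.α) : DevAt R p S q N
  | cons {S : Type u} [CommRing S] [Algebra R S] {q : Ideal S} {N : Type u} [AddCommGroup N] [Module S N]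
      (σ : Step R p S q N) (h : DevAt R p σ.B σ.y (σ.M ⧸ LinearMap.range σ.α)) : DevAt R p S q N

end Groth.Agent.DevExist
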