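import Groth.Agent.DevExist.Step
import Groth.Agent.DevExist.Finish
import Groth.Agent.FlatDevPad.Coker
import Groth.Agent.FlatClosed.Basic
import Groth.Agent.FlatDevBC.At

/-! Moving one step of a dévissage along a change of base and of the smooth algebra. -/

set_option autoImplicit false
set_option backward.isDefEq.respectTransparency false
set_option backward.isDefEq.respectTransparency.types false
attribute [-instance] CategoryTheory.catToReflQuiver

universe u

open TensorProduct

namespace Groth.Agent.DevExist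

set_option maxHeartbeats 1600000 in
theorem Step.transport {R : Type u} [CommRing R] {p : Ideal R} [p.IsPrime] {S : Type u} [CommRing S] [Algebra R S]
    {q : Ideal S} {N : Type u} [AddCommGroup N] [Module S N] (σ : Step R p S q N)
    (R' : Type u) [CommRing R'] [Algebra R R'] (p' : Ideal R') [p'.IsPrime] [p'.LiesOver p]
    (hκ : Function.Bijective (Ideal.ResidueField.mapₐ p p' (Algebra.ofId R R') (Ideal.over_def p' p)))
    (B' : Type u) [CommRing B'] [Algebra R' B'] [Algebra R B'] [Algebra σ.B B'] [IsScalarTower R R' B']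
    [IsScalarTower R σ.B B'] (hrel : FlatCA.SmoothRelDim σ.d R' B') (hirr : FlatCA.GeomIrredFibres R' B')
    (hgen : (p'.map (algebraMap R' B')).LiesOver (p.map (algebraMap R σ.B)))
    (y' : Ideal B') [y'.IsPrime] [hy'y : y'.LiesOver σ.y] [y'.LiesOver p']
    (hy' : Function.Bijective (Ideal.ResidueField.map σ.y y' (algebraMap σ.B B') hy'y.over))
    (S' : Type u) [CommRing S'] [Algebra R' S'] [Algebra S S']
    (A' : Type u) [CommRing A'] [Algebra S' A'] [Algebra B' A'] [Algebra σ.A A'] [Algebra σ.B A'] [Algebra S A']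
    [Algebra R' A'] [IsScalarTower R' B' A'] [IsScalarTower R' S' A'] [IsScalarTower σ.B B' A']
    [IsScalarTower σ.B σ.A A'] [IsScalarTower S S' A'] [IsScalarTower S σ.A A']
    [Algebra.IsPushout σ.B B' σ.A A'] [Algebra.IsPushout S S' σ.A A']
    (N' : Type u) [AddCommGroup N'] [Module S' N'] [Module S N'] [IsScalarTower S S' N']
    (f : N →ₗ[S] N') (hf : IsBaseChange S' f)
    (htail : (∀ (Mc : Type u) [AddCommGroup Mc] [Module B' Mc] [Module σ.B Mc] [IsScalarTower σ.B B' Mc]
      (l : (σ.M ⧸ LinearMap.range σ.α) →ₗ[σ.B] Mc), IsBaseChange B' l → Subsingleton Mc) ∨ ∀ (Mc : Type u) [AddCommGroup Mc] [Module B' Mc] [Module σ.B Mc]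
      [IsScalarTower σ.B B' Mc] (l : (σ.M ⧸ LinearMap.range σ.α) →ₗ[σ.B] Mc),
      IsBaseChange B' l → DevAt R' p' B' y' Mc) :
    ∃ q' : Ideal S', q'.IsPrime ∧ q'.LiesOver q ∧ q'.LiesOver p' ∧
      (∀ (zz : Ideal A') [zz.IsPrime] [zz.LiesOver σ.z] [zz.LiesOver y'], q' = zz.comap (algebraMap S' A')) ∧
      DevAt R' p' S' q' N' := by
  haveI := σ.finiteBA
  haveI := σ.finiteM
  haveI := σ.fp
  haveI := σ.finite_M
  have hκy : Function.Bijective (Ideal.ResidueField.mapₐ σ.y y' (Algebra.ofId σ.B B') hy'y.over) :=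
    (bijective_mapₐ_iff σ.y y').2 hy'
  -- the module over the new quotient
  obtain ⟨M', _, _, _, _, l, hl⟩ : ∃ (M' : Type u) (_ : AddCommGroup M') (_ : Module A' M') (_ : Module σ.A M')
      (_ : IsScalarTower σ.A A' M') (l : σ.M →ₗ[σ.A] M'), IsBaseChange A' l :=
    ⟨A' ⊗[σ.A] σ.M, inferInstance, inferInstance, inferInstance, inferInstance,
      TensorProduct.mk σ.A A' σ.M 1, TensorProduct.isBaseChange σ.A σ.M A'⟩
  letI : Module B' M' := Module.compHom M' (algebraMap B' A')
  haveI : IsScalarTower B' A' M' := IsScalarTower.of_algebraMap_smul fun _ _ => rfl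
  letI : Module σ.B M' := Module.compHom M' (algebraMap σ.B A')
  haveI : IsScalarTower σ.B A' M' := IsScalarTower.of_algebraMap_smul fun _ _ => rfl
  haveI : IsScalarTower σ.B B' M' := IsScalarTower.to₁₂₄ σ.B B' A' M'
  haveI : IsScalarTower σ.B σ.A M' := IsScalarTower.to₁₂₄ σ.B σ.A A' M'
  letI : Module S' M' := Module.compHom M' (algebraMap S' A')
  haveI : IsScalarTower S' A' M' := IsScalarTower.of_algebraMap_smul fun _ _ => rfl
  letI : Module S M' := Module.compHom M' (algebraMap S A')
  haveI : IsScalarTower S A' M' := IsScalarTower.of_algebraMap_smul fun _ _ => rfl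
  haveI : IsScalarTower S S' M' := IsScalarTower.to₁₂₄ S S' A' M'
  haveI : IsScalarTower S σ.A M' := IsScalarTower.to₁₂₄ S σ.A A' M'
  have hlB : IsBaseChange B' (l.restrictScalars σ.B) :=
    Groth.Agent.FlatClosed.isBaseChange_restrict σ.B B' σ.A A' σ.M M' l hl
  have hlS : IsBaseChange S' (l.restrictScalars S) :=
    Groth.Agent.FlatClosed.isBaseChange_restrict S S' σ.A A' σ.M M' l hl
  let α' : (Fin σ.r → B') →ₗ[B'] M' := FlatDevPad.extendMap (l.restrictScalars σ.B) σ.α
  -- the rings
  have hsurj : Function.Surjective (algebraMap S' A') := by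
    intro a
    obtain ⟨x, rfl⟩ := (Algebra.IsPushout.equiv S S' σ.A A').surjective a
    induction x using TensorProduct.induction_on with
    | zero => exact ⟨0, by rw [map_zero, map_zero]⟩
    | add x y hx hy =>
      obtain ⟨a, ha⟩ := hx
      obtain ⟨b, hb⟩ := hy
      exact ⟨a + b, by rw [map_add, map_add, ha, hb]⟩
    | tmul s a =>
      obtain ⟨t, rfl⟩ := σ.surj a
      refine ⟨s * algebraMap S S' t, ?_⟩
      rw [Algebra.IsPushout.equiv_tmul, map_mul, ← IsScalarTower.algebraMap_apply S S' A',
        IsScalarTower.algebraMap_apply S σ.A A']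
  have hfp : Algebra.FinitePresentation S' A' :=
    Algebra.FinitePresentation.equiv (Algebra.IsPushout.equiv S S' σ.A A')
  have hfin : Module.Finite B' A' :=
    Module.Finite.equiv (Algebra.IsPushout.equiv σ.B B' σ.A A').toLinearEquiv
  -- the points
  obtain ⟨z', hz', hz'z, hz'y⟩ := FlatDevBC.exists_prime_over (R := σ.B) (R' := B') (T := σ.A) (T' := A')
    σ.y y' hκy σ.z
  haveI := hz'; haveI := hz'z; haveI := hz'y
  haveI : z'.LiesOver p' := Ideal.LiesOver.trans z' y' p'
  let q' : Ideal S' := z'.comap (algebraMap S' A')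
  have hq'p : q'.LiesOver p' := ⟨by
    show p' = (z'.comap (algebraMap S' A')).comap (algebraMap R' S')
    rw [Ideal.comap_comap, ← IsScalarTower.algebraMap_eq]
    exact Ideal.over_def z' p'⟩
  have hq'q : q'.LiesOver q := ⟨by
    show q = (z'.comap (algebraMap S' A')).comap (algebraMap S S')
    rw [Ideal.comap_comap, ← IsScalarTower.algebraMap_eq, IsScalarTower.algebraMap_eq S σ.A A', ← Ideal.comap_comap,
      show z'.comap (algebraMap σ.A A') = σ.z from hz'z.over.symm]
    exact σ.q0.symm⟩
  let g₀ : N →ₗ[S] M' := (l.restrictScalars S).comp σ.isoN.toLinearMap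
  let eN : N' ≃ₗ[S'] M' := hf.equiv.symm ≪≫ₗ
    TensorProduct.AlgebraTensorModule.congr (LinearEquiv.refl S' S') σ.isoN ≪≫ₗ hlS.equiv
  let σ' : Step R' p' S' q' N' :=
    { A := A', B := B', M := M', r := σ.r, r_pos := σ.r_pos, d := σ.d, α := α'
      surj := hsurj
      fp := hfp
      finiteBA := hfin
      relDim := hrel
      geomIrred := hirr
      finiteM := Module.Finite.equiv hl.equiv
      isoN := eN
      y := y', z := z'
      pureTrans := FlatDevLoc.purelyTranscendental_of_bijective p p' hκ σ.y y' hy' σ.pureTrans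
      uniq := fun Q _ hQ => by
        haveI := hQ
        haveI : Q.LiesOver σ.z := ⟨by
          refine (σ.uniq (Q.comap (algebraMap σ.A A')) ⟨?_⟩).symm
          show σ.y = (Q.comap (algebraMap σ.A A')).comap (algebraMap σ.B σ.A)
          rw [Ideal.comap_comap, ← IsScalarTower.algebraMap_eq, IsScalarTower.algebraMap_eq σ.B B' A',
            ← Ideal.comap_comap, show Q.comap (algebraMap B' A') = y' from hQ.over.symm]
          exact hy'y.over⟩
        exact FlatDevBC.eq_of_liesOver (R := σ.B) (R' := B') (T := σ.A) (T' := A') σ.y y' hκy σ.z Q z'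
      q0 := rfl
      fibreIso := by
        intro _
        haveI := σ.isPrime_map
        haveI := hgen
        exact FlatDevPad.bijective_baseChange_residueField (l.restrictScalars σ.B) hlB σ.r σ.α α'
          (FlatDevPad.extendMap_algebraMap _ _) (p.map (algebraMap R σ.B)) (p'.map (algebraMap R' B')) σ.fibreIso }
  refine ⟨q', Ideal.IsPrime.comap _, hq'q, hq'p, fun zz _ _ _ => ?_, ?_⟩
  · rw [FlatDevBC.eq_of_liesOver (R := σ.B) (R' := B') (T := σ.A) (T' := A') σ.y y' hκy σ.z zz z']
  let c := (LinearMap.range σ.α).mkQ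
  let l₁ := TensorProduct.mk σ.B B' (σ.M ⧸ LinearMap.range σ.α) 1
  obtain ⟨hsu, hke⟩ := FlatDevPad.coker_extend (l.restrictScalars σ.B) σ.α hlB c
    (Submodule.mkQ_surjective _) (fun x => by
      rw [Submodule.mkQ_apply, Submodule.Quotient.mk_eq_zero, LinearMap.mem_range])
    l₁ (TensorProduct.isBaseChange σ.B _ B')
  let c' := hlB.lift (l₁.comp c)
  let e : (M' ⧸ LinearMap.range α') ≃ₗ[B'] B' ⊗[σ.B] (σ.M ⧸ LinearMap.range σ.α) :=
    (Submodule.quotEquivOfEq _ _ (Submodule.ext fun x => by
      rw [LinearMap.mem_ker, LinearMap.mem_range]; exact (hke x).symm)) ≪≫ₗ c'.quotKerEquivOfSurjective hsu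
  have hbc : IsBaseChange B' ((e.symm.toLinearMap.restrictScalars σ.B).comp l₁) :=
    IsBaseChange.of_equiv e.symm fun _ => rfl
  rcases htail with hs | ht
  · haveI := hs (M' ⧸ LinearMap.range α') _ hbc
    refine DevAt.single σ' ?_
    show Function.Surjective α'
    rw [← LinearMap.range_eq_top]
    exact Submodule.Quotient.subsingleton_iff.mp ‹_›
  · exact DevAt.cons σ' (ht (M' ⧸ LinearMap.range α') _ hbc)

theorem subsingleton_of_isBaseChange_of_smul_eq_zero {B B' M M' : Type u} [CommRing B] [CommRing B'] [Algebra B B']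
    [AddCommGroup M] [Module B M] [AddCommGroup M'] [Module B' M'] [Module B M'] [IsScalarTower B B' M']
    {l : M →ₗ[B] M'} (hl : IsBaseChange B' l) (b : B) (hb : IsUnit (algebraMap B B' b))
    (h : ∀ m : M, b • m = 0) : Subsingleton M' := by
  refine subsingleton_of_forall_eq 0 fun x => ?_
  induction x using hl.inductionOn with
  | zero => rfl
  | tmul m =>
    have e : algebraMap B B' b • l m = 0 := by rw [algebraMap_smul, ← map_smul, h, map_zero]
    exact (IsUnit.smul_eq_zero hb).1 e
  | smul c y hy => rw [hy, smul_zero]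
  | add y z hy hz => rw [hy, hz, add_zero]

end Groth.Agent.DevExist
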